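import Cfsg.Agent.H443.XC.Defs
import Cfsg.Agent.H973.KB.Cyc_m3
import Cfsg.Agent.S4633
import Cfsg.Agent.H116.HeckeD
import Mathlib.LinearAlgebra.Lagrange
import Cfsg.Agent.Characters.Core
import Cfsg.Agent.Blocks.Basic
import Cfsg.Agent.Blocks.Local
import Cfsg.Agent.Blocks.Central
import Cfsg.Agent.H554.RGNo
import Cfsg.Agent.H116.HeckeE
import Mathlib
import Cfsg.Agent.H35.ExcIdxTw_m3
import Cfsg.Agent.Characters.GaloisBasic
import Cfsg.Agent.H940.RatB.Count
import Cfsg.Agent.FastGrp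
import Cfsg.Agent.Prune
set_option linter.all false

section
prune_inst 0x7ffdbcf8bba9bfffdfff7e3faed9ddf831800fffa6dff943ffe06b9f9bbf030409cd63ad01e090fe1ed6c01410a87803f9ffffffe86bfc7ffffd5ff41ffbee0fb5e7b508519c8cb40f380fff03f0678a6f3fffffffffffffffffffffffffffbefffdfbfeffff

-- part: H674/XZ/CycA
section
prune_inst 0x4010000
set_option linter.all false
open scoped Cfsg.Agent.FastGrp

/-!
# S4791 + S4927, cyclic Sylow subgroups, part A: the lower bound (helper674)

* `card_modEq_alm` : in a set of irreducible characters invariant under the group of exponents the number of almost `p`-rational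
  members is congruent modulo `p` to the number of all members;
* `princ` : the principal block for a cyclic Sylow subgroup;
* `le_x0_cyclic` : `e + (p - 1) / e ≤ x0`.
-/

set_option autoImplicit false

namespace Cfsg.Agent.H674.XZ

open Cfsg Cfsg.Agent.Characters Cfsg.Agent.Characters.Core Subgroup

universe u v

variable {p : ℕ} [hp : Fact p.Prime] {M : Ideal AlgInt} {G : Type u} [Group G] [Finite G]

/-- the number of almost `p`-rational members of an invariant set -/
theorem card_modEq_alm (Q : IrrCharacter G → Prop) (hQ : ∀ u ∈ JJ p G, ∀ χ, Q (pw u χ) ↔ Q χ) :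
    Nat.card {χ : IrrCharacter G // Q χ} ≡ Nat.card {χ : IrrCharacter G // Q χ ∧ Alm p (χ : G → ℂ)} [MOD p] := by
  classical
  have hfin : Finite (IrrCharacter G) := finite_irr
  let : Fintype (IrrCharacter G) := Fintype.ofFinite _
  let act0 : MulAction (ZMod (Nat.card G))ˣ (IrrCharacter G) := gact G
  have : NeZero (Nat.card G) := ⟨(Nat.card_pos (α := G)).ne'⟩
  have hsm : ∀ (u : JJ p G) (χ : IrrCharacter G), u • χ = pw u.1 χ := fun _ _ => rfl
  have h1 := sum_modEq_fixed (p := p) (A := JJ p G) (isPGroup_JJ (p := p) (G := G)) (I := IrrCharacter G)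
    (fun χ => if Q χ then (1 : ℤ) else 0) (fun u χ => by
      simp only [hsm, hQ u.1 u.2])
  have h2 : ∀ χ : IrrCharacter G, (∀ u : JJ p G, u • χ = χ) ↔ Alm p (χ : G → ℂ) := by
    intro χ
    rw [alm_iff]
    exact ⟨fun h u hu => h ⟨u, hu⟩, fun h u => h u.1 u.2⟩
  have h3 : ∀ R : IrrCharacter G → Prop, (∑ χ : IrrCharacter G, if R χ then (1 : ℤ) else 0) =
      (Nat.card {χ : IrrCharacter G // R χ} : ℤ) := by
    intro R
    rw [Nat.card_eq_fintype_card, Fintype.card_subtype, Finset.card_filter]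
    push_cast
    rfl
  rw [h3] at h1
  have h4 : (∑ χ : IrrCharacter G, if ∀ u : JJ p G, u • χ = χ then (if Q χ then (1 : ℤ) else 0) else 0) =
      (Nat.card {χ : IrrCharacter G // Q χ ∧ Alm p (χ : G → ℂ)} : ℤ) := by
    rw [← h3]
    refine Finset.sum_congr rfl fun χ _ => ?_
    have h5 := h2 χ
    by_cases ha : Alm p (χ : G → ℂ)
    · rw [if_pos (h5.2 ha)]
      simp only [ha, and_true]
    · rw [if_neg (fun h => ha (h5.1 h)), if_neg (fun h => ha h.2)]
  rw [h4] at h1
  exact Int.natCast_modEq_iff.1 h1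

/-- the number of S4927 modulo `p` -/
theorem x0_modEq : Nat.card {χ : IrrCharacter G // χ ∈ principalBlock M G ∧ ¬ p ∣ charDegree (χ : G → ℂ)} ≡
    x0 p M G [MOD p] := by
  have h1 := card_modEq_alm (p := p) (G := G) (fun χ => χ ∈ principalBlock M G ∧ ¬ p ∣ charDegree (χ : G → ℂ))
    (fun u _ χ => by rw [pw_mem_iff, charDegree_pw])
  have h2 : x0 p M G = Nat.card {χ : IrrCharacter G // (χ ∈ principalBlock M G ∧ ¬ p ∣ charDegree (χ : G → ℂ)) ∧
      Alm p (χ : G → ℂ)} := by
    unfold x0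
    refine Nat.card_congr (Equiv.subtypeEquivRight fun χ => ?_)
    unfold Mem0
    rw [and_assoc]
  rw [h2]
  exact h1

/-- the trivial character -/
noncomputable def tr1 (G : Type u) [Group G] : IrrCharacter G := ⟨fun _ => 1, Blocks.Basic.isIrrCharacter_one⟩

theorem mem0_tr1 (hM : IsPModular p M) : Mem0 p M (tr1 G) := by
  have hMp := Cfsg.Agent.Blocks.Local.isPrime_of_isPModular hM
  refine ⟨Blocks.PrincipalSection.one_mem_principalBlock, ?_, alm_of_rat fun g => ⟨1, by simp [tr1]⟩⟩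
  have h1 : charDegree (tr1 G : G → ℂ) = 1 := by
    obtain ⟨h4, -, -⟩ := S0914.degree_spec (tr1 G)
    have h7 : ((charDegree (tr1 G : G → ℂ) : ℕ) : ℂ) = 1 := h4.symm
    exact_mod_cast h7
  rw [h1]
  exact hp.out.one_lt.ne' ∘ Nat.dvd_one.1

theorem x0_pos (hM : IsPModular p M) : 0 < x0 p M G := by
  have h1 := finite_mem0 (p := p) (M := M) (G := G)
  have : Nonempty {χ : IrrCharacter G // Mem0 p M χ} := ⟨⟨tr1 G, mem0_tr1 hM⟩⟩
  exact Nat.card_pos

/-- the exponent of the group order -/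
theorem exists_pow_card (P : Sylow p G) (hd : p ∣ Nat.card G) : ∃ a, 1 ≤ a ∧ Nat.card (P : Subgroup G) = p ^ a := by
  obtain ⟨a, ha⟩ := IsPGroup.iff_card.mp P.2
  refine ⟨a, ?_, ha⟩
  rcases Nat.eq_zero_or_pos a with h | h
  · exfalso
    have := P.pow_dvd_card_of_pow_dvd_card (n := 1) (by rwa [pow_one])
    rw [ha, h, pow_one, pow_zero] at this
    exact hp.out.one_lt.ne' (Nat.dvd_one.1 this)
  · exact h

/-- the inertial index of the principal block -/
noncomputable def ee (P : Subgroup G) : ℕ := (centralizer (P : Set G)).relIndex (normalizer (P : Set G))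

omit [Finite G] in
theorem conj_mem_centralizer {P : Subgroup G} : ∀ g : G, g ∈ normalizer (P : Set G) →
    ∀ c ∈ centralizer (P : Set G), g * c * g⁻¹ ∈ centralizer (P : Set G) := by
  intro g hg c hc
  rw [mem_centralizer_iff] at hc ⊢
  intro x hx
  have h1 : g⁻¹ * x * g ∈ P := by
    have := (mem_normalizer_iff.1 (inv_mem hg) x).1 hx
    rwa [inv_inv] at this
  have h2 := hc _ h1
  calc x * (g * c * g⁻¹) = g * ((g⁻¹ * x * g) * c) * g⁻¹ := by group
    _ = g * (c * (g⁻¹ * x * g)) * g⁻¹ := by rw [h2]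
    _ = g * c * g⁻¹ * x := by group

/-- conjugation on the centralizer -/
def conjC {P : Subgroup G} (g : G) (hg : g ∈ normalizer (P : Set G)) :
    centralizer (P : Set G) ≃* centralizer (P : Set G) where
  toFun c := ⟨g * c * g⁻¹, conj_mem_centralizer g hg c c.2⟩
  invFun c := ⟨g⁻¹ * c * (g⁻¹)⁻¹, conj_mem_centralizer g⁻¹ (inv_mem hg) c c.2⟩
  left_inv c := Subtype.ext (by change g⁻¹ * (g * c * g⁻¹) * (g⁻¹)⁻¹ = c; group)
  right_inv c := Subtype.ext (by change g * (g⁻¹ * c * (g⁻¹)⁻¹) * g⁻¹ = c; group)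
  map_mul' c d := Subtype.ext (by
    change g * (c * d) * g⁻¹ = (g * c * g⁻¹) * (g * d * g⁻¹); group)

/-- the data of the principal block of a group with a cyclic Sylow subgroup -/
theorem princ_data (hM : IsPModular p M) (P : Sylow p G) (hc : IsCyclic (P : Subgroup G)) :
    IsDefectGroup p M (principalBlock M G) (P : Subgroup G) ∧
      IsInducedBlock M (centralizer ((P : Subgroup G) : Set G))
        (principalBlock M (centralizer ((P : Subgroup G) : Set G))) (principalBlock M G) ∧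
      (P : Subgroup G) ≤ centralizer ((P : Subgroup G) : Set G) := by
  have := Fintype.ofFinite G
  have hMp := Cfsg.Agent.Blocks.Local.isPrime_of_isPModular hM
  have hPC : (P : Subgroup G) ≤ centralizer ((P : Subgroup G) : Set G) := fun x hx =>
    mem_centralizer_iff.2 fun y hy =>
      congrArg Subtype.val ((IsCyclic.commGroup (α := (P : Subgroup G))).mul_comm ⟨y, hy⟩ ⟨x, hx⟩)
  have hb : IsPBlock M (principalBlock M (centralizer ((P : Subgroup G) : Set G))) :=
    Blocks.PrincipalSection.isPBlock_principalBlock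
  have hdef : InducedBlockDefined M (centralizer ((P : Subgroup G) : Set G))
      (principalBlock M (centralizer ((P : Subgroup G) : Set G))) :=
    S0919.result p M hM (P : Subgroup G) _ P.2 hPC le_rfl (centralizer_le_normalizer _) _ hb
  exact ⟨(S4652.result p M hM _).2 ⟨P, rfl⟩, (S0936.result p M hM _ _ hdef).2 rfl, hPC⟩

/-- **The principal block.** -/
theorem princ (hM : IsPModular p M) (P : Sylow p G) (hc : IsCyclic (P : Subgroup G)) (hd : p ∣ Nat.card G) :
    ∃ a, 1 ≤ a ∧ Nat.card (P : Subgroup G) = p ^ a ∧ ee (P : Subgroup G) ∣ p - 1 ∧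
      (∀ χ ∈ principalBlock M G, ¬ p ∣ charDegree (χ : G → ℂ)) ∧
      Nat.card (principalBlock M G) = ee (P : Subgroup G) + (p ^ a - 1) / ee (P : Subgroup G) := by
  classical
  have := Fintype.ofFinite G
  have hMp := Cfsg.Agent.Blocks.Local.isPrime_of_isPModular hM
  obtain ⟨a, ha1, ha⟩ := exists_pow_card P hd
  obtain ⟨hBD, hind, -⟩ := princ_data hM P hc
  have hB : IsPBlock M (principalBlock M G) := Blocks.PrincipalSection.isPBlock_principalBlock
  have hT : ∀ g : G, g ∈ normalizer ((P : Subgroup G) : Set G) ↔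
      (g ∈ normalizer ((P : Subgroup G) : Set G) ∧
        ∀ θ ∈ principalBlock M (centralizer ((P : Subgroup G) : Set G)),
          ∀ θ' : IrrCharacter (centralizer ((P : Subgroup G) : Set G)),
            (∀ h h' : centralizer ((P : Subgroup G) : Set G), (h' : G) = g * h * g⁻¹ →
              (θ' : centralizer ((P : Subgroup G) : Set G) → ℂ) h' =
                (θ : centralizer ((P : Subgroup G) : Set G) → ℂ) h) →
            θ' ∈ principalBlock M (centralizer ((P : Subgroup G) : Set G))) := by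
    intro g
    refine ⟨fun hg => ⟨hg, fun θ hθ θ' h => ?_⟩, fun h => h.1⟩
    exact Cfsg.Agent.H736.S4790.mem_principal_of_equiv (conjC g hg) hθ fun c => h c (conjC g hg c) rfl
  obtain ⟨hep, hht, X, Y, hXY, hdis, hX, hY, -⟩ := S4696.result p M hM (P : Subgroup G) hc a ha1 ha
    (principalBlock M G) hB hBD _ hind (normalizer ((P : Subgroup G) : Set G)) hT (ee (P : Subgroup G)) rfl
  have hfin : Finite (IrrCharacter G) := finite_irr
  refine ⟨a, ha1, ha, hep, ?_, ?_⟩
  · intro χ hχ hχp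
    have h1 := hht χ hχ
    have h1B := Cfsg.Agent.Blocks.PrincipalSection.one_mem_principalBlock (K := G) (M := M)
    have h2 : sInf ((fun ψ : IrrCharacter G => (charDegree (ψ : G → ℂ)).factorization p) ''
        principalBlock M G) = 0 := by
      refine Nat.le_zero.1 (Nat.sInf_le ⟨_, h1B, ?_⟩)
      have h3 : charDegree (((⟨fun _ => 1, Cfsg.Agent.Blocks.Basic.isIrrCharacter_one⟩ :
          IrrCharacter G)) : G → ℂ) = 1 := by
        obtain ⟨h4, -, -⟩ := S0914.degree_spec (⟨fun _ => 1, Cfsg.Agent.Blocks.Basic.isIrrCharacter_one⟩ :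
          IrrCharacter G)
        have h7 : ((charDegree (((⟨fun _ => 1, Cfsg.Agent.Blocks.Basic.isIrrCharacter_one⟩ :
          IrrCharacter G)) : G → ℂ) : ℕ) : ℂ) = 1 := h4.symm
        exact_mod_cast h7
      change (charDegree (((⟨fun _ => 1, Cfsg.Agent.Blocks.Basic.isIrrCharacter_one⟩ :
          IrrCharacter G)) : G → ℂ)).factorization p = 0
      rw [h3, Nat.factorization_one]
      rfl
    unfold blockHeight at h1
    rw [h2, Nat.sub_zero] at h1
    obtain ⟨-, h5, -⟩ := S0914.degree_spec χ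
    have h6 := (hp.out.dvd_iff_one_le_factorization h5.ne').1 hχp
    omega
  · have hX' : Finite X := inferInstance
    have hY' : Finite Y := inferInstance
    rw [hXY, ← hX]
    have h1 : Nat.card ↑(X ∪ Y) = Nat.card X + Nat.card Y := by
      rw [Nat.card_coe_set_eq, Nat.card_coe_set_eq, Nat.card_coe_set_eq,
        Set.ncard_union_eq hdis (Set.toFinite _) (Set.toFinite _)]
    rw [h1, hY, ← hX]

theorem ee_pos (P : Subgroup G) : 0 < ee P := Nat.pos_of_ne_zero (by
  unfold ee relIndex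
  exact index_ne_zero_of_finite)

/-- `(p ^ a - 1) / e = (p - 1) / e` modulo `p` -/
theorem div_modEq {a e x : ℕ} (ha : 1 ≤ a) (hx : p - 1 = e * x) : (p ^ a - 1) / e ≡ x [MOD p] := by
  have hp1 := hp.out.two_le
  have he0 : 0 < e := Nat.pos_of_ne_zero fun h => by
    rw [h, zero_mul] at hx
    omega
  have h1 : p - 1 ∣ p ^ a - 1 := by
    have := Nat.sub_dvd_pow_sub_pow p 1 a
    rwa [one_pow] at this
  obtain ⟨c, hc⟩ := h1
  have h2 : (p ^ a - 1) / e = x * c := by
    rw [hc, hx, mul_assoc, Nat.mul_div_cancel_left _ he0]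
  rw [h2]
  -- `c = 1` modulo `p`
  have h3 : c ≡ 1 [MOD p] := by
    have h4 : (p - 1) * c + 1 = p ^ a := by
      rw [← hc]
      have : 1 ≤ p ^ a := Nat.one_le_pow _ _ hp.out.pos
      omega
    have h5 : (p - 1) * c + 1 ≡ 0 [MOD p] := by
      rw [h4]
      exact (Nat.modEq_zero_iff_dvd).2 (dvd_pow_self p (by omega))
    have h6 : (p - 1) * c + c = p * c := by
      obtain ⟨k, hk⟩ : ∃ k, p = k + 1 := ⟨p - 1, by omega⟩
      rw [hk, Nat.add_sub_cancel]
      ring
    have h7 : (p - 1) * c + c ≡ 0 [MOD p] := by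
      rw [h6]
      exact (Nat.modEq_zero_iff_dvd).2 (dvd_mul_right _ _)
    exact Nat.ModEq.add_left_cancel' _ (h7.trans h5.symm)
  calc x * c ≡ x * 1 [MOD p] := h3.mul_left x
    _ = x := mul_one x

/-- the number of S4927 modulo `p`, cyclic Sylow subgroups -/
theorem x0_modEq_cyclic (hM : IsPModular p M) (P : Sylow p G) (hc : IsCyclic (P : Subgroup G)) (hd : p ∣ Nat.card G)
    {x : ℕ} (hx : p - 1 = ee (P : Subgroup G) * x) : x0 p M G ≡ ee (P : Subgroup G) + x [MOD p] := by
  obtain ⟨a, ha1, -, -, hdeg, hcard⟩ := princ hM P hc hd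
  have h1 := x0_modEq (p := p) (M := M) (G := G)
  have h2 : Nat.card {χ : IrrCharacter G // χ ∈ principalBlock M G ∧ ¬ p ∣ charDegree (χ : G → ℂ)} =
      Nat.card (principalBlock M G) :=
    Nat.card_congr (Equiv.subtypeEquivRight fun χ => ⟨fun h => h.1, fun h => ⟨h, hdeg χ h⟩⟩)
  rw [h2, hcard] at h1
  exact h1.symm.trans ((div_modEq ha1 hx).add_left _)

theorem add_le_of_mul {e x : ℕ} (hx : p - 1 = e * x) : e + x ≤ p := by
  have hp1 := hp.out.two_le
  obtain ⟨k, hk⟩ : ∃ k, p = k + 1 := ⟨p - 1, by omega⟩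
  rw [hk, Nat.add_sub_cancel] at hx
  rcases Nat.eq_zero_or_pos e with h | h
  · rw [h, zero_mul] at hx
    omega
  rcases Nat.eq_zero_or_pos x with h' | h'
  · rw [h', mul_zero] at hx
    omega
  · obtain ⟨i, rfl⟩ : ∃ i, e = i + 1 := ⟨e - 1, by omega⟩
    obtain ⟨j, rfl⟩ : ∃ j, x = j + 1 := ⟨x - 1, by omega⟩
    rw [hk, hx]
    nlinarith [Nat.zero_le (i * j)]

/-- **The lower bound.** -/
theorem le_x0_cyclic (hM : IsPModular p M) (P : Sylow p G) (hc : IsCyclic (P : Subgroup G)) (hd : p ∣ Nat.card G)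
    {x : ℕ} (hx : p - 1 = ee (P : Subgroup G) * x) : ee (P : Subgroup G) + x ≤ x0 p M G := by
  have h1 := x0_modEq_cyclic hM P hc hd hx
  have h2 := add_le_of_mul hx
  have h3 := x0_pos (p := p) (M := M) (G := G) hM
  rcases Nat.eq_or_lt_of_le h2 with h4 | h4
  · rw [h4] at h1 ⊢
    exact Nat.le_of_dvd h3 ((Nat.modEq_zero_iff_dvd).1 (h1.trans (Nat.modEq_zero_iff_dvd.2 dvd_rfl)))
  · have h5 : x0 p M G % p = ee (P : Subgroup G) + x := by
      rw [← Nat.mod_eq_of_lt h4]
      exact h1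
    rw [← h5]
    exact Nat.mod_le _ _

theorem exists_x (hM : IsPModular p M) (P : Sylow p G) (hc : IsCyclic (P : Subgroup G)) (hd : p ∣ Nat.card G) :
    ∃ x, p - 1 = ee (P : Subgroup G) * x := by
  obtain ⟨-, -, -, h, -⟩ := princ hM P hc hd
  exact h

omit hp in
theorem amgm (e x : ℕ) : 4 * (e * x) ≤ (e + x) ^ 2 := by
  rcases le_total e x with h | h
  · obtain ⟨k, rfl⟩ := Nat.exists_eq_add_of_le h
    nlinarith [Nat.zero_le (k * k)]
  · obtain ⟨k, rfl⟩ := Nat.exists_eq_add_of_le h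
    nlinarith [Nat.zero_le (k * k)]

/-- **S4927 for a cyclic Sylow subgroup.** -/
theorem four_le_cyclic (hM : IsPModular p M) (P : Sylow p G) (hc : IsCyclic (P : Subgroup G)) (hd : p ∣ Nat.card G) :
    4 * (p - 1) ≤ x0 p M G ^ 2 := by
  obtain ⟨x, hx⟩ := exists_x hM P hc hd
  rw [hx]
  exact (amgm _ _).trans (Nat.pow_le_pow_left (le_x0_cyclic hM P hc hd hx) 2)

end Cfsg.Agent.H674.XZ

private theorem dce_1cd44bac8907 : _root_.True := by
  try have : _root_.True := by simp only [_root_.Cfsg.Agent.H674.XZ.tr1.eq_1]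
  exact _root_.True.intro
end

-- part: H77/RK/Deg
section
prune_inst 0x1000004400000000000010000000002200000000400000000000000088004000400000000000100000000000040000000000000000000000000000000404010000000000000000000000000000000000000000000000000000000000000000200000000
set_option linter.all false
open scoped Cfsg.Agent.FastGrp

-- part: H77/RK/Rat
section
/-!
# Rational constituents of a permutation character of low rank (helper77)

* `rat_of_eigen` : `A` an invariant rational matrix on the finite `G`-set `X` with at least as many different rational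
  eigenvalues as there are orbits on `X × X`: all irreducible constituents of the permutation character of `X` are
  rational valued;
* `rat_of_eigen_fib` : the same for a matrix on a `G`-set `C` which covers `X`.
-/

set_option autoImplicit false
set_option linter.unusedSectionVars false

namespace Cfsg.Agent.H77.RK

open Cfsg Cfsg.Agent.H116.HeckeC Cfsg.Agent.H116.HeckeD Cfsg.Agent.Characters.Core Matrix Polynomial Module
open scoped ComplexConjugate

section

variable {G : Type*} [Group G] [Fintype G] {X : Type*} [Fintype X] [DecidableEq X] [MulAction G X]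

/-- a matrix which commutes with the permutations is determined by the values on representatives of the orbits -/
theorem eq_zero_of_reps {ι : Type*} (s : ι → X × X)
    (hs : ∀ x y : X, ∃ i, ∃ g : G, g • (s i).1 = x ∧ g • (s i).2 = y) {B : Matrix X X ℂ}
    (hB : ∀ (g : G) (x y : X), B (g • x) (g • y) = B x y) (h : ∀ i, B (s i).1 (s i).2 = 0) : B = 0 := by
  ext x y
  obtain ⟨i, g, rfl, rfl⟩ := hs x y
  rw [hB, h]
  rfl

end

end Cfsg.Agent.H77.RK
end

-- part: H77/RK/Link
section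
/-!
# Block linking of the constituents of a multiplicity free permutation character (helper77)

`χ` with spherical function `v` on the transitive `G`-set `X`: `χ g = χ 1 / #X * ∑ x, v x (g • x)`.

* `centralChar_sph` : the central character at `g` is `∑ y, v x₀ y * #{k ∈ g ^ G : k • x₀ = y}`;
* `sameBlock_of_sph` : if for all orbits `u` of the stabilizer of `x₀` the numbers `k_u ω_u`, `k_u ω'_u` are congruent
  modulo `p` then the two characters are in the same block.
-/

set_option autoImplicit false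
set_option linter.unusedSectionVars false

open Cfsg

namespace Cfsg.Agent.H77.RK

open Cfsg.Agent.Blocks.Basic Cfsg.Agent.Blocks.Local Cfsg.Agent.Blocks.Central

universe u v

variable {G : Type u} [Group G] [Finite G] {X : Type v} [MulAction G X]

/-- **The central character.** -/
theorem centralChar_sph [Fintype X] (x₀ : X) (htr : ∀ x : X, ∃ g : G, g • x₀ = x) {χ : G → ℂ} (hχ : χ 1 ≠ 0)
    {v : X → X → ℂ} (hv : ∀ (g : G) (x y : X), v (g • x) (g • y) = v x y)
    (hcl : ∀ g h : G, χ (h * g * h⁻¹) = χ g)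
    (hval : ∀ g : G, χ g = χ 1 / (Nat.card X : ℂ) * ∑ x, v x (g • x)) (g : G) :
    centralChar χ g = ∑ y, v x₀ y * (Nat.card {k : G // IsConj g k ∧ k • x₀ = y} : ℂ) := by
  classical
  have := Fintype.ofFinite G
  have hX : (Nat.card X : ℂ) ≠ 0 := by
    have : Nonempty X := ⟨x₀⟩
    exact_mod_cast (Nat.card_pos (α := X)).ne'
  -- the sum over the class at a point
  have h1 : ∀ x : X, ∑ k : G, (if IsConj g k then v x (k • x) else 0) = ∑ k : G, if IsConj g k then v x₀ (k • x₀) else 0 := by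
    intro x
    obtain ⟨c, rfl⟩ := htr x
    refine Fintype.sum_equiv (MulAut.conj c⁻¹).toEquiv _ _ fun k => ?_
    have e1 : (MulAut.conj c⁻¹).toEquiv k = c⁻¹ * k * c := by
      show c⁻¹ * k * c⁻¹⁻¹ = _
      rw [inv_inv]
    rw [e1]
    have e2 : IsConj g (c⁻¹ * k * c) ↔ IsConj g k := by
      have e3 : IsConj k (c⁻¹ * k * c) := isConj_iff.2 ⟨c⁻¹, by rw [inv_inv]⟩
      exact ⟨fun h => h.trans e3.symm, fun h => h.trans e3⟩
    simp only [e2]
    split_ifs
    · rw [← hv c x₀, smul_smul, smul_smul]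
      congr 2
      group
    · rfl
  have h2 := sum_classInd_mul g χ hcl
  have h3 : ∑ k : G, classInd ℂ g k * χ k = χ 1 * ∑ k : G, if IsConj g k then v x₀ (k • x₀) else 0 := by
    have h4 : ∀ k : G, classInd ℂ g k * χ k = χ 1 / (Nat.card X : ℂ) * ∑ x, if IsConj g k then v x (k • x) else 0 := by
      intro k
      rw [hval k]
      unfold classInd
      split_ifs
      · ring
      · simp only [_root_.Nat.card_eq_fintype_card, _root_.MulZeroClass.zero_mul, _root_.Finset.sum_const_zero, _root_.MulZeroClass.mul_zero]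
    rw [Finset.sum_congr rfl fun k _ => h4 k, ← Finset.mul_sum, Finset.sum_comm, Finset.sum_congr rfl fun x _ => h1 x,
      Finset.sum_const, Finset.card_univ, nsmul_eq_mul, ← Nat.card_eq_fintype_card]
    field_simp
  rw [centralChar_def, ← h2, h3, mul_div_cancel_left₀ _ hχ]
  have h5 : ∀ y : X, v x₀ y * (Nat.card {k : G // IsConj g k ∧ k • x₀ = y} : ℂ) =
      ∑ k : G, if k • x₀ = y then (if IsConj g k then v x₀ (k • x₀) else 0) else 0 := by
    intro y
    rw [Nat.card_eq_fintype_card, Fintype.card_subtype, ← nsmul_eq_mul', ← Finset.sum_const, Finset.sum_filter]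
    refine Finset.sum_congr rfl fun k _ => ?_
    by_cases e1 : k • x₀ = y
    · rw [if_pos e1]
      by_cases e2 : IsConj g k
      · rw [if_pos ⟨e2, e1⟩, if_pos e2, e1]
      · rw [if_neg fun h => e2 h.1, if_neg e2]
    · rw [if_neg e1, if_neg fun h => e1 h.2]
  rw [Finset.sum_congr rfl fun y _ => h5 y, Finset.sum_comm]
  refine Finset.sum_congr rfl fun k _ => ?_
  rw [Finset.sum_ite_eq Finset.univ (k • x₀), if_pos (Finset.mem_univ _)]

/-- **Block linking.** -/
theorem sameBlock_of_sph {p : ℕ} {M : Ideal AlgInt} (hM : IsPModular p M) [Fintype X] {ι : Type*} [Fintype ι]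
    [DecidableEq ι] (x₀ : X) (htr : ∀ x : X, ∃ g : G, g • x₀ = x) {cl : X → ι}
    (hcl : ∀ x y : X, cl x = cl y → ∃ g : G, g • x₀ = x₀ ∧ g • x = y) {χ ψ : G → ℂ} (hχ : IsIrrCharacter G χ)
    (hψ : IsIrrCharacter G ψ) {v w : X → X → ℂ} (hv : ∀ (g : G) (x y : X), v (g • x) (g • y) = v x y)
    (hw : ∀ (g : G) (x y : X), w (g • x) (g • y) = w x y)
    (hvval : ∀ g : G, χ g = χ 1 / (Nat.card X : ℂ) * ∑ x, v x (g • x))
    (hwval : ∀ g : G, ψ g = ψ 1 / (Nat.card X : ℂ) * ∑ x, w x (g • x))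
    (hP : ∀ u : ι, ∃ z : ℤ, ∑ y with cl y = u, v x₀ y - ∑ y with cl y = u, w x₀ y = p * z) :
    SameBlock M χ ψ := by
  classical
  intro g
  have hMp : M.IsPrime := isPrime_of_isPModular hM
  rw [centralChar_sph x₀ htr (Characters.Core.isIrr_apply_one_ne_zero hχ) hv (Characters.Core.isIrr_isClassFunction hχ) hvval g,
    centralChar_sph x₀ htr (Characters.Core.isIrr_apply_one_ne_zero hψ) hw (Characters.Core.isIrr_isClassFunction hψ) hwval g, ← Finset.sum_sub_distrib]
  let n : X → ℕ := fun y => Nat.card {k : G // IsConj g k ∧ k • x₀ = y}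
  have hn : ∀ y y' : X, cl y = cl y' → n y = n y' := by
    intro y y' h
    obtain ⟨c, hc, hc'⟩ := hcl y y' h
    refine Nat.card_congr ((MulAut.conj c).toEquiv.subtypeEquiv fun k => ?_)
    have e1 : (MulAut.conj c).toEquiv k = c * k * c⁻¹ := rfl
    have e3 : IsConj k (c * k * c⁻¹) := isConj_iff.2 ⟨c, rfl⟩
    rw [e1]
    refine and_congr ⟨fun h => h.trans e3, fun h => h.trans e3.symm⟩ ?_
    have e4 : c⁻¹ • x₀ = x₀ := by rw [inv_smul_eq_iff, hc]
    rw [mul_smul, mul_smul, e4, ← hc', smul_left_cancel_iff]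
  have key : ∀ u : ι, MemLocalIdeal M (∑ y with cl y = u, (v x₀ y * (n y : ℂ) - w x₀ y * (n y : ℂ))) := by
    intro u
    obtain ⟨z, hz⟩ := hP u
    by_cases hu : ∃ y₀, cl y₀ = u
    · obtain ⟨y₀, hy₀⟩ := hu
      have e1 : ∑ y with cl y = u, (v x₀ y * (n y : ℂ) - w x₀ y * (n y : ℂ)) = ((p : ℂ) * z) * (n y₀ : ℂ) := by
        rw [← hz, sub_mul, Finset.sum_mul, Finset.sum_mul, ← Finset.sum_sub_distrib]
        refine Finset.sum_congr rfl fun y hy => ?_
        rw [hn y y₀ ((Finset.mem_filter.1 hy).2.trans hy₀.symm)]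
      rw [e1, mul_assoc]
      refine memLocalIdeal_mul_right (memLocalIdeal_p hM) ?_
      refine memLocalRing_of_isIntegral ?_
      exact_mod_cast isIntegral_algebraMap (R := ℤ) (A := ℂ) (x := z * (n y₀ : ℤ))
    · have e1 : (Finset.univ.filter fun y => cl y = u) = ∅ :=
        Finset.filter_eq_empty_iff.2 fun y _ hy => hu ⟨y, hy⟩
      rw [e1, Finset.sum_empty]
      exact memLocalIdeal_zero
  have h1 := memLocalIdeal_sum (M := M) (s := (Finset.univ : Finset ι)) fun u _ => key u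
  rwa [Finset.sum_fiberwise] at h1

end Cfsg.Agent.H77.RK
end

-- part: H77/RK/Cst
section
/-!
# The constituents of a multiplicity free permutation character (helper77)

`Dat` : an invariant matrix `A` on the transitive finite `G`-set `X` with as many different eigenvalues as there are
orbits on `X × X`, with eigenvectors `v i` fixed by the stabilizer of `x₀`, `v i x₀ = 1`.

`Dat.exists_con` : the constituents `χ i`: they are different, of multiplicity one, with
`χ i g = χ i 1 / #X * ∑ x, V i x (g • x)`, `V i x₀ = v i`, and `∑ i, χ i 1 * v i y = #X` or `0`.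
-/

set_option autoImplicit false
set_option linter.unusedSectionVars false

namespace Cfsg.Agent.H77.RK

open Cfsg Cfsg.Agent.H116.HeckeC Cfsg.Agent.H116.HeckeD Cfsg.Agent.Characters.Core Matrix Polynomial Module
open scoped ComplexConjugate

universe u

section

variable {G : Type u} [Group G] [Fintype G] {X : Type*} [Fintype X] [DecidableEq X] [MulAction G X]
  {ι : Type*} [Fintype ι] [DecidableEq ι]

/-- the data -/
structure Dat (s : ι → X × X) (A : Matrix X X ℂ) (θ : ι → ℂ) (v : ι → X → ℂ) (x₀ : X) : Prop where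
  reps : ∀ x y : X, ∃ i, ∃ g : G, g • (s i).1 = x ∧ g • (s i).2 = y
  inv : ∀ (g : G) (x y : X), A (g • x) (g • y) = A x y
  inj : Function.Injective θ
  eig : ∀ i, A *ᵥ v i = θ i • v i
  one : ∀ i, v i x₀ = 1
  fix : ∀ i (g : G), g • x₀ = x₀ → ∀ x, v i (g • x) = v i x
  tr : ∀ x : X, ∃ g : G, g • x₀ = x

namespace Dat

variable {s : ι → X × X} {A : Matrix X X ℂ} {θ : ι → ℂ} {v : ι → X → ℂ} {x₀ : X}

theorem comm_aeval (H : Dat (G := G) s A θ v x₀) (p : ℂ[X]) (g : G) : Pm X g * aeval A p = aeval A p * Pm X g := by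
  have h1 : Commute (Pm X g) A := (Pm_comm_iff g A).2 fun x y => H.inv g x y
  induction p using Polynomial.induction_on' with
  | add p q hp hq => rw [map_add, mul_add, add_mul, hp, hq]
  | monomial n a =>
    rw [aeval_monomial]
    have h2 : Commute (Pm X g) (algebraMap ℂ (Matrix X X ℂ) a) := (Algebra.commutes a (Pm X g)).symm
    exact h2.mul_right (h1.pow_right n)

theorem aeval_v (H : Dat (G := G) s A θ v x₀) (p : ℂ[X]) (i : ι) : aeval A p *ᵥ v i = p.eval (θ i) • v i := by
  induction p using Polynomial.induction_on' with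
  | add p q hp hq => rw [map_add, add_mulVec, hp, hq, eval_add, add_smul]
  | monomial n a =>
    have h2 : ∀ n : ℕ, A ^ n *ᵥ v i = θ i ^ n • v i := by
      intro n
      induction n with
      | zero => rw [pow_zero, pow_zero, one_mulVec, one_smul]
      | succ n ih => rw [pow_succ, ← mulVec_mulVec, H.eig, mulVec_smul, ih, smul_smul, pow_succ, mul_comm]
    rw [aeval_monomial, eval_monomial, ← mulVec_mulVec, h2, mulVec_smul, Algebra.algebraMap_eq_smul_one, smul_mulVec,
      one_mulVec, smul_smul, mul_comm]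

theorem v_cancel (H : Dat (G := G) s A θ v x₀) {i : ι} {a b : ℂ} (h : a • v i = b • v i) : a = b := by
  have h1 := congrFun h x₀
  rwa [Pi.smul_apply, Pi.smul_apply, H.one, smul_eq_mul, smul_eq_mul, mul_one, mul_one] at h1

/-- a matrix which commutes with the permutations is a polynomial in `A` -/
theorem exists_aeval (H : Dat (G := G) s A θ v x₀) {B : Matrix X X ℂ}
    (hB : ∀ (g : G) (x y : X), B (g • x) (g • y) = B x y) :
    ∃ p : ℂ[X], p.degree < Fintype.card ι ∧ aeval A p = B := by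
  classical
  let Ψ : degreeLT ℂ (Fintype.card ι) →ₗ[ℂ] (ι → ℂ) :=
    { toFun := fun p i => aeval A (p : ℂ[X]) (s i).1 (s i).2
      map_add' := fun p q => by
        funext i
        rw [Submodule.coe_add, map_add]
        rfl
      map_smul' := fun c p => by
        funext i
        rw [Submodule.coe_smul, map_smul]
        rfl }
  have hinj : Function.Injective Ψ := by
    rw [← LinearMap.ker_eq_bot, Submodule.eq_bot_iff]
    intro p hp
    have h1 : aeval A (p : ℂ[X]) = 0 :=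
      eq_zero_of_reps s H.reps (fun g => (Pm_comm_iff g _).1 (H.comm_aeval p g)) fun i =>
        congrFun (LinearMap.mem_ker.1 hp) i
    have h2 : ∀ i, (p : ℂ[X]).eval (θ i) = 0 := by
      intro i
      apply H.v_cancel (i := i)
      rw [← H.aeval_v, h1, zero_mulVec, zero_smul]
    apply Subtype.ext
    refine Polynomial.eq_zero_of_degree_lt_of_eval_finset_eq_zero (Finset.univ.image θ) ?_ ?_
    · rw [Finset.card_image_of_injective _ H.inj, Finset.card_univ]
      exact mem_degreeLT.1 p.2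
    · intro x hx
      obtain ⟨i, -, rfl⟩ := Finset.mem_image.1 hx
      exact h2 i
  have hfin : finrank ℂ (degreeLT ℂ (Fintype.card ι)) = finrank ℂ (ι → ℂ) := by
    rw [Module.finrank_pi, (degreeLTEquiv ℂ (Fintype.card ι)).finrank_eq, Module.finrank_pi, Fintype.card_fin]
  have hfd : FiniteDimensional ℂ (degreeLT ℂ (Fintype.card ι)) :=
    Module.Finite.equiv (degreeLTEquiv ℂ (Fintype.card ι)).symm
  obtain ⟨p, hp⟩ := (LinearMap.injective_iff_surjective_of_finrank_eq_finrank hfin).1 hinj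
    (fun i => B (s i).1 (s i).2)
  refine ⟨p, mem_degreeLT.1 p.2, ?_⟩
  rw [← sub_eq_zero]
  refine eq_zero_of_reps (G := G) s H.reps (fun g x y => ?_) fun i => ?_
  · rw [Matrix.sub_apply, Matrix.sub_apply, hB, (Pm_comm_iff g _).1 (H.comm_aeval p g)]
  · rw [Matrix.sub_apply, ← congrFun hp i]
    exact sub_self _

/-- the matrices which commute with the permutations -/
def Cm (G : Type u) [Group G] [MulAction G X] (B : Matrix X X ℂ) : Prop := ∀ g : G, Pm X g * B = B * Pm X g

theorem Cm.mul {B C : Matrix X X ℂ} (hB : Cm G B) (hC : Cm G C) : Cm G (B * C) := fun g => by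
  rw [← mul_assoc, hB g, mul_assoc, hC g, mul_assoc]

theorem Cm.sub {B C : Matrix X X ℂ} (hB : Cm G B) (hC : Cm G C) : Cm G (B - C) := fun g => by
  rw [mul_sub, sub_mul, hB g, hC g]

theorem Cm.smul {B : Matrix X X ℂ} (hB : Cm G B) (c : ℂ) : Cm G (c • B) := fun g => by
  rw [mul_smul_comm, smul_mul_assoc, hB g]

theorem Cm.sum {κ : Type*} (t : Finset κ) {B : κ → Matrix X X ℂ} (hB : ∀ k ∈ t, Cm G (B k)) : Cm G (∑ k ∈ t, B k) :=
  fun g => by rw [Finset.mul_sum, Finset.sum_mul]; exact Finset.sum_congr rfl fun k hk => hB k hk g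

theorem Cm.one : Cm G (1 : Matrix X X ℂ) := fun g => by rw [mul_one, one_mul]

theorem exists_eig (H : Dat (G := G) s A θ v x₀) {B : Matrix X X ℂ} (hB : Cm G B) :
    ∃ l : ι → ℂ, ∀ i, B *ᵥ v i = l i • v i := by
  obtain ⟨p, -, rfl⟩ := H.exists_aeval fun g => (Pm_comm_iff g B).1 (hB g)
  exact ⟨fun i => p.eval (θ i), fun i => H.aeval_v p i⟩

theorem uniq (H : Dat (G := G) s A θ v x₀) {B : Matrix X X ℂ} (hB : Cm G B) (h : ∀ i, B *ᵥ v i = 0) : B = 0 := by
  classical
  obtain ⟨p, hp, rfl⟩ := H.exists_aeval fun g => (Pm_comm_iff g B).1 (hB g)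
  have h2 : p = 0 := by
    refine Polynomial.eq_zero_of_degree_lt_of_eval_finset_eq_zero (Finset.univ.image θ) ?_ ?_
    · rw [Finset.card_image_of_injective _ H.inj, Finset.card_univ]
      exact hp
    · intro x hx
      obtain ⟨i, -, rfl⟩ := Finset.mem_image.1 hx
      apply H.v_cancel (i := i)
      rw [← H.aeval_v, h, zero_smul]
  rw [h2, map_zero]

theorem ext (H : Dat (G := G) s A θ v x₀) {B C : Matrix X X ℂ} (hB : Cm G B) (hC : Cm G C)
    (h : ∀ i, B *ᵥ v i = C *ᵥ v i) : B = C := by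
  rw [← sub_eq_zero]
  refine H.uniq (hB.sub hC) fun i => ?_
  rw [sub_mulVec, h, sub_self]

theorem comm (H : Dat (G := G) s A θ v x₀) {B C : Matrix X X ℂ} (hB : Cm G B) (hC : Cm G C) : B * C = C * B := by
  obtain ⟨l, hl⟩ := H.exists_eig hB
  obtain ⟨m, hm⟩ := H.exists_eig hC
  refine H.ext (hB.mul hC) (hC.mul hB) fun i => ?_
  rw [← mulVec_mulVec, ← mulVec_mulVec, hl, hm, mulVec_smul, mulVec_smul, hl, hm, smul_smul, smul_smul, mul_comm]

/-- the idempotents -/
noncomputable def E (A : Matrix X X ℂ) (θ : ι → ℂ) (i : ι) : Matrix X X ℂ :=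
  aeval A (Lagrange.basis Finset.univ θ i)

theorem E_cm (H : Dat (G := G) s A θ v x₀) (i : ι) : Cm G (E A θ i) := fun g => H.comm_aeval _ g

theorem E_self (H : Dat (G := G) s A θ v x₀) (i : ι) : E A θ i *ᵥ v i = v i := by
  unfold E
  rw [H.aeval_v, Lagrange.eval_basis_self H.inj.injOn (Finset.mem_univ i), one_smul]

theorem E_ne (H : Dat (G := G) s A θ v x₀) {i j : ι} (h : i ≠ j) : E A θ i *ᵥ v j = 0 := by
  unfold E
  rw [H.aeval_v, Lagrange.eval_basis_of_ne h (Finset.mem_univ j), zero_smul]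

theorem E_mul_self (H : Dat (G := G) s A θ v x₀) (i : ι) : E A θ i * E A θ i = E A θ i := by
  refine H.ext ((H.E_cm i).mul (H.E_cm i)) (H.E_cm i) fun j => ?_
  rw [← mulVec_mulVec]
  by_cases h : i = j
  · subst h
    rw [H.E_self, H.E_self]
  · rw [H.E_ne h, mulVec_zero]

theorem E_mul_ne (H : Dat (G := G) s A θ v x₀) {i j : ι} (hij : i ≠ j) : E A θ i * E A θ j = 0 := by
  refine H.uniq ((H.E_cm i).mul (H.E_cm j)) fun k => ?_
  rw [← mulVec_mulVec]
  by_cases h : j = k
  · subst h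
    rw [H.E_self, H.E_ne hij]
  · rw [H.E_ne h, mulVec_zero]

theorem sum_E (H : Dat (G := G) s A θ v x₀) : ∑ i, E A θ i = 1 := by
  refine H.ext (Cm.sum _ fun i _ => H.E_cm i) Cm.one fun j => ?_
  have h1 : (∑ i, E A θ i) *ᵥ v j = ∑ i, E A θ i *ᵥ v j := by
    ext x
    simp only [mulVec, dotProduct, Matrix.sum_apply, Finset.sum_apply, Finset.sum_mul]
    rw [Finset.sum_comm]
  rw [h1, one_mulVec, Finset.sum_eq_single j (fun i _ h => H.E_ne h) fun h => absurd (Finset.mem_univ _) h, H.E_self]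

/-- the function on pairs -/
noncomputable def V (H : Dat (G := G) s A θ v x₀) (i : ι) (x y : X) : ℂ := v i ((Classical.choose (H.tr x))⁻¹ • y)

theorem V_smul (H : Dat (G := G) s A θ v x₀) (i : ι) (g : G) (y : X) : H.V i (g • x₀) y = v i (g⁻¹ • y) := by
  unfold V
  have h1 := Classical.choose_spec (H.tr (g • x₀))
  have h2 := H.fix i (g⁻¹ * Classical.choose (H.tr (g • x₀))) (by rw [mul_smul, h1, inv_smul_smul])
    ((Classical.choose (H.tr (g • x₀)))⁻¹ • y)
  rw [← h2, smul_smul]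
  congr 2
  group

theorem V_base (H : Dat (G := G) s A θ v x₀) (i : ι) (y : X) : H.V i x₀ y = v i y := by
  have h1 := H.V_smul i 1 y
  rwa [one_smul, inv_one, one_smul] at h1

theorem V_inv (H : Dat (G := G) s A θ v x₀) (i : ι) (g : G) (x y : X) : H.V i (g • x) (g • y) = H.V i x y := by
  obtain ⟨h, rfl⟩ := H.tr x
  rw [smul_smul, H.V_smul, H.V_smul, _root_.mul_inv_rev, smul_smul, mul_assoc, inv_mul_cancel, mul_one]

theorem V_self (H : Dat (G := G) s A θ v x₀) (i : ι) (x : X) : H.V i x x = 1 := by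
  obtain ⟨h, rfl⟩ := H.tr x
  rw [H.V_smul, inv_smul_smul, H.one]

/-- the idempotent is a multiple of the matrix of `V` -/
theorem exists_E_eq (H : Dat (G := G) s A θ v x₀) (i : ι) : ∃ c : ℂ, c ≠ 0 ∧ ∀ x y, E A θ i x y = c * H.V i y x := by
  classical
  set! B : Matrix X X ℂ := fun x y => H.V i y x with hBdef
  have hB : Cm G B := fun g => (Pm_comm_iff g B).2 fun x y => H.V_inv i g y x
  obtain ⟨l, hl⟩ := H.exists_eig hB
  have hAc : Cm G A := fun g => (Pm_comm_iff g A).2 fun x y => H.inv g x y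
  have hAB : A * B = θ i • B := by
    ext x y
    obtain ⟨g, rfl⟩ := H.tr y
    rw [mul_apply, Matrix.smul_apply, smul_eq_mul]
    show ∑ z, A x z * H.V i (g • x₀) z = θ i * H.V i (g • x₀) x
    simp only [H.V_smul]
    have h1 := congrFun (H.eig i) (g⁻¹ • x)
    rw [Pi.smul_apply, smul_eq_mul, mulVec, dotProduct] at h1
    rw [← h1]
    refine Fintype.sum_equiv (MulAction.toPerm g⁻¹) _ _ fun z => ?_
    rw [MulAction.toPerm_apply, H.inv]
  have hl0 : ∀ j, j ≠ i → l j = 0 := by
    intro j hj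
    have h1 : (A * B) *ᵥ v j = (θ i • B) *ᵥ v j := by rw [hAB]
    rw [← mulVec_mulVec, hl, mulVec_smul, H.eig, smul_mulVec, hl, smul_smul, smul_smul] at h1
    have h2 := H.v_cancel h1
    have h3 : (θ j - θ i) * l j = 0 := by linear_combination h2
    rcases mul_eq_zero.1 h3 with h4 | h4
    · exact absurd (H.inj (sub_eq_zero.1 h4)) hj
    · exact h4
  have hBE : B = l i • E A θ i := by
    refine H.ext hB ((H.E_cm i).smul _) fun j => ?_
    rw [hl, smul_mulVec]
    by_cases h : i = j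
    · subst h
      rw [H.E_self]
    · rw [hl0 j fun e => h e.symm, zero_smul, H.E_ne h, smul_zero]
  have hli : l i ≠ 0 := by
    intro h0
    have h1 : B x₀ x₀ = 0 := by rw [hBE, h0, zero_smul]; rfl
    have h2 : B x₀ x₀ = 1 := H.V_self i x₀
    rw [h2] at h1
    exact one_ne_zero h1
  refine ⟨(l i)⁻¹, inv_ne_zero hli, fun x y => ?_⟩
  have h1 : H.V i y x = B x y := rfl
  rw [h1, hBE, Matrix.smul_apply, smul_eq_mul, ← mul_assoc, inv_mul_cancel₀ hli, one_mul]

theorem trace_E_ne (H : Dat (G := G) s A θ v x₀) (i : ι) : trace (E A θ i) ≠ 0 := by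
  obtain ⟨c, hc, h⟩ := H.exists_E_eq i
  unfold trace
  simp only [diag_apply, h, H.V_self, mul_one]
  rw [Finset.sum_const, Finset.card_univ, nsmul_eq_mul]
  have : Nonempty X := ⟨x₀⟩
  exact mul_ne_zero (by exact_mod_cast Fintype.card_ne_zero) hc

/-- the average -/
noncomputable def Cas (G : Type u) [Group G] [Fintype G] [MulAction G X] (M : Matrix X X ℂ) : Matrix X X ℂ :=
  ∑ g : G, Pm X g * M * Pm X g⁻¹

theorem Cas_cm (M : Matrix X X ℂ) : Cm G (Cas G M) := by
  intro h
  unfold Cas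
  rw [Finset.mul_sum, Finset.sum_mul]
  refine Fintype.sum_equiv (Equiv.mulLeft h) _ _ fun g => ?_
  show Pm X h * (Pm X g * M * Pm X g⁻¹) = Pm X (h * g) * M * Pm X (h * g)⁻¹ * Pm X h
  rw [mul_assoc (Pm X (h * g) * M), ← Pm_mul, _root_.mul_inv_rev, mul_assoc g⁻¹, inv_mul_cancel, mul_one, Pm_mul]
  simp only [mul_assoc]

theorem mul_single_mul (P Q : Matrix X X ℂ) (y u x w : X) :
    (P * Matrix.single y u (1 : ℂ) * Q : Matrix X X ℂ) x w = P x y * Q u w := by
  rw [Matrix.mul_apply, Finset.sum_eq_single u]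
  · rw [Matrix.mul_single_apply_same, mul_one]
  · intro z _ hz
    rw [Matrix.mul_single_apply_of_ne _ _ _ _ _ hz, zero_mul]
  · intro h
    exact absurd (Finset.mem_univ _) h

theorem mul_Cas_mul (_ : Dat (G := G) s A θ v x₀) (i j : ι) (y u x w : X) :
    ∑ g : G, (E A θ i * Pm X g : Matrix X X ℂ) x y * (Pm X g⁻¹ * E A θ j : Matrix X X ℂ) u w =
      (E A θ i * Cas G (Matrix.single y u 1) * E A θ j : Matrix X X ℂ) x w := by
  unfold Cas
  rw [Finset.mul_sum, Finset.sum_mul, Matrix.sum_apply]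
  refine Finset.sum_congr rfl fun g _ => ?_
  have h1 : E A θ i * (Pm X g * Matrix.single y u (1 : ℂ) * Pm X g⁻¹) * E A θ j =
      (E A θ i * Pm X g) * Matrix.single y u 1 * (Pm X g⁻¹ * E A θ j) := by simp only [mul_assoc]
  rw [h1, mul_single_mul]

/-- orthogonality -/
theorem orth (H : Dat (G := G) s A θ v x₀) (i j : ι) :
    ∑ g : G, Tr X (E A θ i) g * Tr X (E A θ j) g⁻¹ = if i = j then (Fintype.card G : ℂ) else 0 := by
  classical
  have h1 : ∑ g : G, Tr X (E A θ i) g * Tr X (E A θ j) g⁻¹ =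
      ∑ x, ∑ u, (E A θ i * Cas G (Matrix.single x u 1) * E A θ j : Matrix X X ℂ) x u := by
    have h2 : ∀ g : G, Tr X (E A θ i) g * Tr X (E A θ j) g⁻¹ =
        ∑ x, ∑ u, (E A θ i * Pm X g : Matrix X X ℂ) x x * (Pm X g⁻¹ * E A θ j : Matrix X X ℂ) u u := by
      intro g
      rw [Tr_apply, Tr_apply, trace_mul_comm (E A θ j), ← Finset.sum_mul_sum]
      rfl
    rw [Finset.sum_congr rfl fun g _ => h2 g, Finset.sum_comm]
    refine Finset.sum_congr rfl fun x _ => ?_
    rw [Finset.sum_comm]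
    exact Finset.sum_congr rfl fun u _ => H.mul_Cas_mul i j x u x u
  rw [h1]
  split_ifs with hij
  · subst hij
    -- the eigenvalue
    have h2 : ∀ x u : X, ∃ l : ℂ, l * trace (E A θ i) = (Fintype.card G : ℂ) * E A θ i u x ∧
        E A θ i * Cas G (Matrix.single x u 1) * E A θ i = l • E A θ i := by
      intro x u
      obtain ⟨l, hl⟩ := H.exists_eig (Cas_cm (G := G) (Matrix.single x u (1 : ℂ)))
      have h3 : Cas G (Matrix.single x u (1 : ℂ)) * E A θ i = l i • E A θ i := by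
        refine H.ext ((Cas_cm _).mul (H.E_cm i)) ((H.E_cm i).smul _) fun j => ?_
        rw [← mulVec_mulVec, smul_mulVec]
        by_cases h : i = j
        · subst h
          rw [H.E_self, hl]
        · rw [H.E_ne h, mulVec_zero, smul_zero]
      refine ⟨l i, ?_, ?_⟩
      · have h4 : trace (Cas G (Matrix.single x u (1 : ℂ)) * E A θ i) = l i * trace (E A θ i) := by
          rw [h3, trace_smul, smul_eq_mul]
        rw [← h4]
        unfold Cas
        rw [Finset.sum_mul, trace_sum]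
        have h5 : ∀ g : G, trace (Pm X g * Matrix.single x u (1 : ℂ) * Pm X g⁻¹ * E A θ i) = E A θ i u x := by
          intro g
          rw [mul_assoc, mul_assoc, trace_mul_comm, mul_assoc, mul_assoc, ← H.E_cm i g, ← mul_assoc (Pm X g⁻¹),
            ← Pm_mul, inv_mul_cancel, Pm_one, one_mul]
          unfold trace
          simp only [diag_apply]
          rw [Finset.sum_eq_single x]
          · rw [Matrix.single_mul_apply_same, one_mul]
          · intro z _ hz
            rw [Matrix.single_mul_apply_of_ne _ _ _ _ _ hz]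
          · intro h
            exact absurd (Finset.mem_univ _) h
        rw [Finset.sum_congr rfl fun g _ => h5 g, Finset.sum_const, Finset.card_univ, nsmul_eq_mul]
      · rw [mul_assoc, h3, mul_smul_comm, H.E_mul_self]
    choose l hl hl' using h2
    simp only [hl']
    have ht := H.trace_E_ne i
    apply mul_right_cancel₀ ht
    rw [Finset.sum_mul]
    have h3 : ∀ x, (∑ u, (l x u • E A θ i : Matrix X X ℂ) x u) * trace (E A θ i) =
        (Fintype.card G : ℂ) * (E A θ i * E A θ i : Matrix X X ℂ) x x := by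
      intro x
      rw [Matrix.mul_apply, Finset.sum_mul, Finset.mul_sum]
      refine Finset.sum_congr rfl fun u _ => ?_
      rw [Matrix.smul_apply, smul_eq_mul]
      linear_combination E A θ i x u * hl x u
    rw [Finset.sum_congr rfl fun x _ => h3 x, ← Finset.mul_sum, H.E_mul_self]
    rfl
  · refine Finset.sum_eq_zero fun x _ => Finset.sum_eq_zero fun u _ => ?_
    rw [mul_assoc, H.comm (Cas_cm _) (H.E_cm j), ← mul_assoc, H.E_mul_ne hij, zero_mul]
    rfl

theorem isClassFunction_Tr (H : Dat (G := G) s A θ v x₀) (i : ι) : IsClassFunction G (Tr X (E A θ i)) := fun g h =>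
  Tr_classFun (fun k => H.E_cm i k) g h

/-- the trace is a multiple of an irreducible character -/
theorem exists_irr (H : Dat (G := G) s A θ v x₀) (i : ι) :
    ∃ (χ : IrrCharacter G) (a : ℂ), ∀ g, Tr X (E A θ i) g = a * (χ : G → ℂ) g := by
  have h1 : Tr (G := G) X (E A θ i) ≠ 0 := by
    intro h0
    have h2 := congrFun h0 1
    rw [Tr_apply, Pm_one, mul_one] at h2
    exact H.trace_E_ne i h2
  obtain ⟨ψ, hψ, hne⟩ : ∃ ψ : G → ℂ, IsIrrCharacter G ψ ∧ classInner (Tr X (E A θ i)) ψ ≠ 0 := by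
    by_contra hcon
    push Not at hcon
    exact h1 (classFunction_eq_zero (H.isClassFunction_Tr i) hcon)
  have hcm : Cm G (Ph X ψ) := fun g => Ph_comm (isIrr_isClassFunction hψ) g
  obtain ⟨l, hl⟩ := H.exists_eig hcm
  have h3 : Ph X ψ * E A θ i = l i • E A θ i := by
    refine H.ext (hcm.mul (H.E_cm i)) ((H.E_cm i).smul _) fun j => ?_
    rw [← mulVec_mulVec, smul_mulVec]
    by_cases h : i = j
    · subst h
      rw [H.E_self, hl]
    · rw [H.E_ne h, mulVec_zero, smul_zero]
  have h4 : ∀ y : G, l i * Tr X (E A θ i) y =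
      (∑ z : G, Tr X (E A θ i) z * conj (ψ z)) / ψ 1 * ψ y := by
    intro y
    rw [← Classification.TypeZIV.Parity.sum_conv (H.isClassFunction_Tr i) hψ y]
    have h5 : l i * Tr X (E A θ i) y = Tr X (Ph X ψ * E A θ i) y := by
      rw [h3, map_smul, Pi.smul_apply, smul_eq_mul]
    rw [h5, Tr_apply, Ph_apply, Finset.sum_mul, Finset.sum_mul, trace_sum]
    refine Fintype.sum_equiv (Equiv.inv G) _ _ fun g => ?_
    rw [Equiv.inv_apply, ← isCharacter_apply_inv (isIrr_isCharacter hψ), inv_inv, smul_mul_assoc, smul_mul_assoc, trace_smul,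
      smul_eq_mul, mul_comm (ψ g), Tr_apply, Pm_mul, mul_assoc, trace_mul_comm, mul_assoc]
  have hS : (∑ z : G, Tr X (E A θ i) z * conj (ψ z)) ≠ 0 := by
    intro h0
    apply hne
    rw [classInner_def, h0, mul_zero]
  have hψ1 : ψ 1 ≠ 0 := isIrr_apply_one_ne_zero hψ
  have hli : l i ≠ 0 := by
    intro h0
    have h5 := h4 1
    rw [h0, zero_mul, div_mul_cancel₀ _ hψ1] at h5
    exact hS h5.symm
  refine ⟨⟨ψ, hψ⟩, (l i)⁻¹ * ((∑ z : G, Tr X (E A θ i) z * conj (ψ z)) / ψ 1), fun g => ?_⟩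
  rw [mul_assoc, ← h4, ← mul_assoc, inv_mul_cancel₀ hli, one_mul]

/-- **The constituents.** -/
theorem exists_con (H : Dat (G := G) s A θ v x₀) : ∃ χ : ι → IrrCharacter G, Function.Injective χ ∧
    (∀ i g, (χ i : G → ℂ) g = Tr X (E A θ i) g) ∧ (∀ i, classInner (perm G X) (χ i : G → ℂ) = 1) ∧
    ∀ ψ : IrrCharacter G, classInner (perm G X) (ψ : G → ℂ) ≠ 0 → ∃ i, χ i = ψ := by
  classical
  choose χ a ha using H.exists_irr
  have hG : (Fintype.card G : ℂ) ≠ 0 := by exact_mod_cast Fintype.card_ne_zero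
  have horth : ∀ i j, a i * a j * classInner (χ i : G → ℂ) (χ j : G → ℂ) = if i = j then 1 else 0 := by
    intro i j
    have h1 := H.orth i j
    have h2 : ∑ g : G, Tr X (E A θ i) g * Tr X (E A θ j) g⁻¹ =
        (Fintype.card G : ℂ) * (a i * a j * classInner (χ i : G → ℂ) (χ j : G → ℂ)) := by
      rw [classInner_def, Nat.card_eq_fintype_card]
      have h3 : (Fintype.card G : ℂ) * (a i * a j * ((Fintype.card G : ℂ)⁻¹ *
          ∑ g : G, (χ i : G → ℂ) g * conj ((χ j : G → ℂ) g))) =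
          a i * a j * ∑ g : G, (χ i : G → ℂ) g * conj ((χ j : G → ℂ) g) := by field_simp
      rw [h3, Finset.mul_sum]
      refine Finset.sum_congr rfl fun g _ => ?_
      rw [ha, ha, isCharacter_apply_inv (isIrr_isCharacter (χ j).2)]
      ring
    rw [h2] at h1
    apply mul_left_cancel₀ hG
    rw [h1]
    split_ifs <;> simp only [_root_.mul_one, _root_.MulZeroClass.mul_zero]
  have hinj : Function.Injective χ := by
    intro i j hij
    by_contra hne
    have h1 := horth i j
    rw [if_neg hne, hij, classInner_irr_self (χ j).2, mul_one] at h1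
    have h2 := horth i i
    have h3 := horth j j
    rw [if_pos rfl, classInner_irr_self (χ i).2, mul_one] at h2
    rw [if_pos rfl, classInner_irr_self (χ j).2, mul_one] at h3
    rcases mul_eq_zero.1 h1 with h4 | h4
    · rw [h4, zero_mul] at h2
      exact zero_ne_one h2
    · rw [h4, zero_mul] at h3
      exact zero_ne_one h3
  have hperm : perm G X = ∑ i, a i • (χ i : G → ℂ) := by
    funext g
    have h1 : perm G X g = Tr X (1 : Matrix X X ℂ) g := by
      rw [Tr_apply, one_mul, trace_Pm]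
      rfl
    rw [h1, ← H.sum_E, map_sum, Finset.sum_apply, Finset.sum_apply]
    exact Finset.sum_congr rfl fun i _ => ha i g
  have hmult : ∀ ψ : IrrCharacter G, classInner (perm G X) (ψ : G → ℂ) =
      ∑ i, a i * classInner (χ i : G → ℂ) (ψ : G → ℂ) := by
    intro ψ
    rw [hperm, classInner_sum_left]
    exact Finset.sum_congr rfl fun i _ => classInner_smul_left _ _ _
  have hmi : ∀ i, classInner (perm G X) (χ i : G → ℂ) = a i := by
    intro i
    rw [hmult, Finset.sum_eq_single i, classInner_irr_self (χ i).2, mul_one]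
    · intro j _ hj
      rw [classInner_irr_ne (χ j).2 (χ i).2 fun h => hj (hinj (Subtype.ext h)), mul_zero]
    · intro h
      exact absurd (Finset.mem_univ _) h
  have ha1 : ∀ i, a i = 1 := by
    intro i
    obtain ⟨n, hn⟩ := classInner_isNat (isCharacter_perm (G := G) X) (isIrr_isCharacter (χ i).2)
    rw [hmi] at hn
    have h1 := horth i i
    rw [if_pos rfl, classInner_irr_self (χ i).2, mul_one, hn] at h1
    have h2 : n * n = 1 := by exact_mod_cast h1
    rw [hn, Nat.eq_one_of_mul_eq_one_left h2]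
    exact Nat.cast_one
  refine ⟨χ, hinj, fun i g => ?_, fun i => ?_, fun ψ hψ => ?_⟩
  · rw [ha, ha1, one_mul]
  · rw [hmi, ha1]
  · by_contra hcon
    push Not at hcon
    apply hψ
    rw [hmult]
    refine Finset.sum_eq_zero fun i _ => ?_
    rw [classInner_irr_ne (χ i).2 ψ.2 fun h => hcon i (Subtype.ext h), mul_zero]

/-- **The constituents**, with spherical functions, for rational eigenvectors. -/
theorem exists_con_rat (H : Dat (G := G) s A θ v x₀) (hv : ∀ i x, ∃ r : ℚ, v i x = r) :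
    ∃ χ : ι → IrrCharacter G, Function.Injective χ ∧ (∀ i g, ∃ r : ℚ, (χ i : G → ℂ) g = r) ∧
    (∀ i, classInner (perm G X) (χ i : G → ℂ) = 1) ∧
    (∀ ψ : IrrCharacter G, classInner (perm G X) (ψ : G → ℂ) ≠ 0 → ∃ i, χ i = ψ) ∧
    (∀ i g, (χ i : G → ℂ) g = (χ i : G → ℂ) 1 / (Nat.card X : ℂ) * ∑ x, H.V i x (g • x)) ∧
    ∀ y, ∑ i, (χ i : G → ℂ) 1 * v i y = if y = x₀ then (Nat.card X : ℂ) else 0 := by
  obtain ⟨χ, h1, h2, h3, h4⟩ := H.exists_con
  have hX : (Nat.card X : ℂ) ≠ 0 := by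
    have : Nonempty X := ⟨x₀⟩
    exact_mod_cast (Nat.card_pos (α := X)).ne'
  choose c hc0 hc using H.exists_E_eq
  have hone : ∀ i, (χ i : G → ℂ) 1 = (Nat.card X : ℂ) * c i := by
    intro i
    rw [h2, Tr_apply, Pm_one, mul_one]
    unfold trace
    simp only [diag_apply, hc, H.V_self, mul_one]
    rw [Finset.sum_const, Finset.card_univ, nsmul_eq_mul, Nat.card_eq_fintype_card]
  have hci : ∀ i, c i = (χ i : G → ℂ) 1 / (Nat.card X : ℂ) := by
    intro i
    rw [hone, mul_comm, mul_div_assoc, div_self hX, mul_one]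
  have hVr : ∀ i x y, ∃ r : ℚ, H.V i x y = r := fun i x y => hv i _
  choose w hw using hVr
  have hval : ∀ i g, (χ i : G → ℂ) g⁻¹ = (χ i : G → ℂ) 1 / (Nat.card X : ℂ) * ∑ x, H.V i x (g • x) := by
    intro i g
    rw [h2, Tr_apply, ← hci]
    unfold trace
    simp only [diag_apply, mul_Pm_apply, hc]
    rw [← Finset.mul_sum]
    congr 1
    refine Fintype.sum_equiv (MulAction.toPerm g⁻¹) _ _ fun x => ?_
    rw [MulAction.toPerm_apply, smul_inv_smul]
  have hrat : ∀ i g, ∃ r : ℚ, (χ i : G → ℂ) g = r := by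
    intro i g
    obtain ⟨n, -, hn1⟩ := isIrr_apply_one (χ i).2
    refine ⟨n / Nat.card X * ∑ x, w i x (g⁻¹ • x), ?_⟩
    have h5 := hval i g⁻¹
    rw [inv_inv] at h5
    rw [h5, hn1]
    push_cast
    simp only [hw]
  refine ⟨χ, h1, hrat, h3, h4, fun i g => ?_, fun y => ?_⟩
  · rw [← hval, isCharacter_apply_inv (isIrr_isCharacter (χ i).2)]
    obtain ⟨r, hr⟩ := hrat i g
    rw [hr, map_ratCast]
  · have h5 := congrFun (congrFun H.sum_E y) x₀
    rw [Matrix.sum_apply, Matrix.one_apply] at h5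
    simp only [hc, hci, H.V_base] at h5
    have h6 : ∑ i, (χ i : G → ℂ) 1 * v i y = (Nat.card X : ℂ) * ∑ i, (χ i : G → ℂ) 1 / (Nat.card X : ℂ) * v i y := by
      rw [Finset.mul_sum]
      refine Finset.sum_congr rfl fun i _ => ?_
      field_simp
    rw [h6, h5]
    split_ifs <;> simp only [_root_.Nat.card_eq_fintype_card, _root_.mul_one, _root_.MulZeroClass.mul_zero]

/-- **Block linking** of the constituents -/
theorem sameBlock (H : Dat (G := G) s A θ v x₀) {p : ℕ} {M : Ideal AlgInt} (hM : IsPModular p M) {κ : Type*} [Fintype κ]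
    [DecidableEq κ] {cl : X → κ} (hcl : ∀ x y : X, cl x = cl y → ∃ g : G, g • x₀ = x₀ ∧ g • x = y) {i j : ι}
    {χ ψ : G → ℂ} (hχ : IsIrrCharacter G χ) (hψ : IsIrrCharacter G ψ)
    (hvχ : ∀ g, χ g = χ 1 / (Nat.card X : ℂ) * ∑ x, H.V i x (g • x))
    (hvψ : ∀ g, ψ g = ψ 1 / (Nat.card X : ℂ) * ∑ x, H.V j x (g • x))
    (hP : ∀ u : κ, ∃ z : ℤ, ∑ y with cl y = u, v i y - ∑ y with cl y = u, v j y = p * z) : SameBlock M χ ψ := by
  refine sameBlock_of_sph hM x₀ H.tr hcl hχ hψ (H.V_inv i) (H.V_inv j) hvχ hvψ fun u => ?_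
  obtain ⟨z, hz⟩ := hP u
  refine ⟨z, ?_⟩
  rw [← hz]
  simp only [H.V_base]

end Dat

end

end Cfsg.Agent.H77.RK
end

-- part: H77/RK/Wts
section
/-!
# The orbit of a fundamental weight (helper77)

`evw w i` = the coordinates of `w ω_k`. `WDat A k m r` : a table of the orbit `W ω_k` with the orbits of `W_J`,
`J` = all nodes but `k`.
-/

set_option autoImplicit false
set_option linter.unusedSectionVars false

namespace Cfsg.Agent.H77.RK

open CoxeterSystem Cfsg.Agent.ChevalleyStructure.CoxeterGeom Cfsg.Agent.Tits.Roots Cfsg.Agent.Tits.Core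
  Cfsg.Agent.Tits.Exchange Cfsg.Agent.Nodes.StabComb Cfsg.Agent.Nodes.NormalForm Cfsg.Agent.H554.RG

/-- a table of the orbit of the fundamental weight `k` -/
structure WDat {I : Type*} (A : I → I → ℤ) (k : I) (m r : ℕ) where
  wt : ℕ → I → ℤ
  nb : ℕ → I → ℕ
  cl : ℕ → ℕ
  e : ℕ → ℕ
  b0 : ℕ
  root : ℕ → ℕ
  b0_lt : b0 < m
  nb_lt : ∀ z < m, ∀ i, nb z i < m
  cl_lt : ∀ z < m, cl z < r
  wt_b0 : ∀ i, i ≠ k → wt b0 i = 0
  wt_b0' : wt b0 k = 1
  wt_nb : ∀ z < m, ∀ i j, wt (nb z i) j = wt z j - A i j * wt z i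
  nb_nb : ∀ z < m, ∀ i, nb (nb z i) i = z
  cl_nb : ∀ z < m, ∀ i, i ≠ k → cl (nb z i) = cl z
  e_nb : ∀ z < m, ∀ i, i ≠ k → 0 < wt z i → e (nb z i) = e z + 1
  desc : ∀ z < m, e z ≠ 0 → ∃ i, i ≠ k ∧ wt z i < 0
  root_eq : ∀ z < m, e z = 0 → z = root (cl z)
  root_inj : ∀ a < r, ∀ b < r, (∀ i, wt (root a) i = wt (root b) i) → a = b
  path : ℕ → List I
  path_eq : ∀ a < r, (path a).foldl nb b0 = root a
  cl_root : ∀ a < r, cl (root a) = a

variable {I W : Type*} [Fintype I] [DecidableEq I] [Group W] {M : CoxeterMatrix I}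
  (cs : CoxeterSystem M W) {A : I → I → ℤ} (h : IsCartan M A) {k : I}

/-- the coordinates of `w ω_k` -/
def evw (k : I) (w : W) (i : I) : ℤ := rep cs h w⁻¹ (sr i) k

theorem evw_one (i : I) : evw cs h k 1 i = if i = k then 1 else 0 := by
  unfold evw
  rw [inv_one, map_one, Module.End.one_apply]
  by_cases hi : i = k
  · rw [if_pos hi, hi, sr_self]
  · rw [if_neg hi, sr_ne fun h => hi h.symm]

theorem pairing_sr (i j : I) : pairing A i (sr j) = A i j := by
  rw [sr, pairing_single, mul_one]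

theorem evw_simple_mul (w : W) (i j : I) :
    evw cs h k (cs.simple i * w) j = evw cs h k w j - A i j * evw cs h k w i := by
  unfold evw
  have h1 : rep cs h (cs.simple i * w)⁻¹ (sr j) = rep cs h w⁻¹ (rep cs h (cs.simple i) (sr j)) := by
    rw [mul_inv_rev, cs.inv_simple, rep_mul_apply]
  rw [h1, rep_simple_eq, pairing_sr, map_sub, map_smul, Pi.sub_apply, Pi.smul_apply, smul_eq_mul]

theorem length_of_pos {w : W} {i : I} (hp : 0 < evw cs h k w i) : cs.length w < cs.length (cs.simple i * w) := by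
  have h1 := (lt_iff' cs h w⁻¹ i)
  rw [← cs.length_inv w, ← cs.length_inv (cs.simple i * w), mul_inv_rev, cs.inv_simple, h1]
  have h2 : IsRoot cs h (rep cs h w⁻¹ (sr i)) := (isRoot_sr cs h i).act _
  rcases h2.pos_or_neg with h3 | h3
  · exact h3
  · have h4 := h3 k
    exact absurd hp (not_lt.2 h4)

theorem length_of_neg {w : W} {i : I} (hn : evw cs h k w i < 0) : cs.length (cs.simple i * w) < cs.length w := by
  have h1 := (lt_iff cs h w⁻¹ i)
  rw [← cs.length_inv w, ← cs.length_inv (cs.simple i * w), mul_inv_rev, cs.inv_simple, h1]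
  have h2 : IsRoot cs h (rep cs h w⁻¹ (sr i)) := (isRoot_sr cs h i).act _
  rcases h2.pos_or_neg with h3 | h3
  · have h4 := h3 k
    exact absurd hn (not_lt.2 h4)
  · exact h3

/-- elements of `W_J` do not change the coefficient at `k` -/
theorem rep_apply_k {J : Set I} (hk : k ∉ J) {u : W} (hu : u ∈ WJ cs J) (x : I → ℤ) : rep cs h u x k = x k := by
  induction hu using Subgroup.closure_induction generalizing x with
  | mem u hu =>
    obtain ⟨i, hi, rfl⟩ := hu
    exact rep_simple_apply cs h i x k fun e => hk (e ▸ hi)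
  | one => rw [map_one, Module.End.one_apply]
  | mul u v _ _ hu hv => rw [rep_mul_apply, hu, hv]
  | inv u _ hu =>
    have h1 := hu (rep cs h u⁻¹ x)
    rw [rep_apply_inv] at h1
    exact h1.symm

/-- the stabilizer of the fundamental weight is `W_J` -/
theorem mem_WJ_of_evw {w : W} (hw : ∀ i, evw cs h k w i = evw cs h k 1 i) : w ∈ WJ cs {j | j ≠ k} := by
  obtain ⟨v, hv, u, hu, rfl⟩ := exists_isMinR cs {j | j ≠ k} w
  have h1 : ∀ i, evw cs h k v i = evw cs h k 1 i := by
    intro i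
    rw [← hw i]
    unfold evw
    rw [mul_inv_rev, rep_mul_apply, rep_apply_k cs h (J := {j | j ≠ k}) (by simp) (inv_mem hu)]
  have hv1 : v = 1 := by
    rw [← inv_eq_one]
    apply eq_one_of_nonneg cs h
    intro i
    have h2 : IsRoot cs h (rep cs h v⁻¹ (sr i)) := (isRoot_sr cs h i).act _
    by_contra hcon
    have h3 : rep cs h v⁻¹ (sr i) ≤ 0 := h2.not_nonneg_iff.1 hcon
    obtain ⟨-, -, j, hj, hj0⟩ := neg_mem_NotJ (h := h) hv (x := sr i) ⟨isRoot_sr cs h i, sr_nonneg i, h3⟩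
    have hjk : j = k := by simpa using hj
    subst hjk
    have h4 := h1 i
    rw [evw_one] at h4
    rw [Pi.neg_apply] at hj0
    unfold evw at h4
    split_ifs at h4 <;> omega
  rw [hv1, one_mul]
  exact hu

namespace WDat

variable {m r : ℕ} (D : WDat A k m r)

include h in
theorem A_self (i : I) : A i i = 2 := h.diag i

include h in
/-- different entries are different weights -/
theorem inj : ∀ n z z' : ℕ, z < m → z' < m → D.e z = n → (∀ i, D.wt z i = D.wt z' i) → z = z' := by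
  have key : ∀ z < m, ∀ i, i ≠ k → D.wt z i < 0 → D.e z = D.e (D.nb z i) + 1 := by
    intro z hz i hi hn
    have h1 := D.wt_nb z hz i i
    rw [A_self h] at h1
    have h2 := D.e_nb (D.nb z i) (D.nb_lt z hz i) i hi (by omega)
    rwa [D.nb_nb z hz] at h2
  intro n
  induction n with
  | zero =>
    intro z z' hz hz' he hw
    have he' : D.e z' = 0 := by
      by_contra hcon
      obtain ⟨i, hi, hn⟩ := D.desc z' hz' hcon
      have := key z hz i hi (by rw [hw]; exact hn)
      omega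
    have h1 := D.root_eq z hz he
    have h2 := D.root_eq z' hz' he'
    have h3 := D.root_inj _ (D.cl_lt z hz) _ (D.cl_lt z' hz') (by rw [← h1, ← h2]; exact hw)
    rw [h1, h2, h3]
  | succ n ih =>
    intro z z' hz hz' he hw
    obtain ⟨i, hi, hn⟩ := D.desc z hz (by omega)
    have h1 := key z hz i hi hn
    have h2 := ih (D.nb z i) (D.nb z' i) (D.nb_lt z hz i) (D.nb_lt z' hz' i) (by omega) (fun j => by
      rw [D.wt_nb z hz, D.wt_nb z' hz', hw, hw])
    rw [← D.nb_nb z hz i, h2, D.nb_nb z' hz' i]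

include h in
theorem eq_of_wt {z z' : ℕ} (hz : z < m) (hz' : z' < m) (hw : ∀ i, D.wt z i = D.wt z' i) : z = z' :=
  D.inj h _ z z' hz hz' rfl hw

theorem exists_idx (w : W) : ∃ z < m, ∀ i, D.wt z i = evw cs h k w i := by
  induction w using cs.simple_induction_left with
  | one =>
    refine ⟨D.b0, D.b0_lt, fun i => ?_⟩
    rw [evw_one]
    split_ifs with hi
    · rw [hi, D.wt_b0']
    · exact D.wt_b0 i hi
  | mul_simple_left w i ih =>
    obtain ⟨z, hz, hw⟩ := ih
    exact ⟨D.nb z i, D.nb_lt z hz i, fun j => by rw [evw_simple_mul, D.wt_nb z hz, hw, hw]⟩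

/-- the index of `w ω_k` -/
noncomputable def idx (w : W) : ℕ := (D.exists_idx cs h w).choose

theorem idx_lt (w : W) : D.idx cs h w < m := (D.exists_idx cs h w).choose_spec.1

theorem wt_idx (w : W) (i : I) : D.wt (D.idx cs h w) i = evw cs h k w i := (D.exists_idx cs h w).choose_spec.2 i

theorem idx_simple_mul (w : W) (i : I) : D.idx cs h (cs.simple i * w) = D.nb (D.idx cs h w) i := by
  refine D.eq_of_wt h (D.idx_lt cs h _) (D.nb_lt _ (D.idx_lt cs h w) i) fun j => ?_
  rw [D.wt_idx, evw_simple_mul, D.wt_nb _ (D.idx_lt cs h w), D.wt_idx, D.wt_idx]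

include h in
theorem nb_of_zero {z : ℕ} (hz : z < m) {i : I} (h0 : D.wt z i = 0) : D.nb z i = z :=
  D.eq_of_wt h (D.nb_lt z hz i) hz fun j => by rw [D.wt_nb z hz, h0, mul_zero, sub_zero]

/-- the class is invariant under `W_J` -/
theorem cl_mul {u : W} (hu : u ∈ WJ cs {j | j ≠ k}) (w : W) : D.cl (D.idx cs h (u * w)) = D.cl (D.idx cs h w) := by
  induction hu using Subgroup.closure_induction generalizing w with
  | mem u hu =>
    obtain ⟨i, hi, rfl⟩ := hu
    rw [D.idx_simple_mul, D.cl_nb _ (D.idx_lt cs h w) i hi]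
  | one => rw [one_mul]
  | mul u v _ _ hu hv => rw [mul_assoc, hu, hv]
  | inv u _ hu =>
    have h1 := hu (u⁻¹ * w)
    rw [mul_inv_cancel_left] at h1
    exact h1.symm

/-- the class is invariant under multiplication from the right -/
theorem idx_mul {u : W} (hu : u ∈ WJ cs {j | j ≠ k}) (w : W) : D.idx cs h (w * u) = D.idx cs h w := by
  refine D.eq_of_wt h (D.idx_lt cs h _) (D.idx_lt cs h w) fun i => ?_
  rw [D.wt_idx, D.wt_idx]
  unfold evw
  rw [mul_inv_rev, rep_mul_apply, rep_apply_k cs h (J := {j | j ≠ k}) (by simp) (inv_mem hu)]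

/-- two elements with the same class are in the same double coset of `W_J` -/
theorem double_coset {w w' : W} (hw : D.cl (D.idx cs h w) = D.cl (D.idx cs h w')) :
    ∃ u ∈ WJ cs {j | j ≠ k}, ∃ v ∈ WJ cs {j | j ≠ k}, w' = u * w * v := by
  have key : ∀ (n : ℕ) (w : W), D.e (D.idx cs h w) = n → ∃ u ∈ WJ cs {j | j ≠ k}, D.e (D.idx cs h (u * w)) = 0 := by
    intro n
    induction n with
    | zero => exact fun w he => ⟨1, one_mem _, by rw [one_mul]; exact he⟩
    | succ n ih =>
      intro w he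
      have hlt := D.idx_lt cs h w
      obtain ⟨i, hi, hn⟩ := D.desc _ hlt (by omega)
      have h1 := D.wt_nb _ hlt i i
      rw [A_self h] at h1
      have h2 := D.e_nb (D.nb (D.idx cs h w) i) (D.nb_lt _ hlt i) i hi (by omega)
      rw [D.nb_nb _ hlt] at h2
      obtain ⟨u, hu, hu0⟩ := ih (cs.simple i * w) (by rw [D.idx_simple_mul]; omega)
      exact ⟨u * cs.simple i, mul_mem hu (Subgroup.subset_closure ⟨i, hi, rfl⟩), by rw [mul_assoc]; exact hu0⟩
  obtain ⟨u, hu, hu0⟩ := key _ w rfl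
  obtain ⟨u', hu', hu0'⟩ := key _ w' rfl
  have h1 : D.idx cs h (u * w) = D.idx cs h (u' * w') := by
    rw [D.root_eq _ (D.idx_lt cs h _) hu0, D.root_eq _ (D.idx_lt cs h _) hu0', D.cl_mul cs h hu, D.cl_mul cs h hu', hw]
  have h2 : (u * w)⁻¹ * (u' * w') ∈ WJ cs {j | j ≠ k} := by
    apply mem_WJ_of_evw cs h
    have h3 : ∀ i, evw cs h k (u * w) i = evw cs h k (u' * w') i := fun i => by
      rw [← D.wt_idx, ← D.wt_idx, h1]
    have h4 : ∀ x : I → ℤ, rep cs h (u * w)⁻¹ x k = rep cs h (u' * w')⁻¹ x k := by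
      intro x
      rw [eq_sum_sr x, map_sum, map_sum, Finset.sum_apply, Finset.sum_apply]
      refine Finset.sum_congr rfl fun i _ => ?_
      rw [map_smul, map_smul, Pi.smul_apply, Pi.smul_apply]
      congr 1
      exact h3 i
    intro i
    unfold evw
    rw [mul_inv_rev, inv_inv, rep_mul_apply, ← h4, rep_inv_apply, inv_one, map_one, Module.End.one_apply]
  refine ⟨u'⁻¹ * u, mul_mem (inv_mem hu') hu, (u * w)⁻¹ * (u' * w'), h2, ?_⟩
  group

theorem idx_one : D.idx cs h 1 = D.b0 := by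
  refine D.eq_of_wt h (D.idx_lt cs h _) D.b0_lt fun i => ?_
  rw [D.wt_idx, evw_one]
  split_ifs with hi
  · rw [hi, D.wt_b0']
  · rw [D.wt_b0 i hi]

/-- all entries of the table are in the orbit -/
theorem exists_idx_eq {z : ℕ} (hz : z < m) : ∃ w, D.idx cs h w = z := by
  have hfold : ∀ (l : List I) (w : W), ∃ w', D.idx cs h w' = l.foldl D.nb (D.idx cs h w) := by
    intro l
    induction l with
    | nil => exact fun w => ⟨w, rfl⟩
    | cons i l ih =>
      intro w
      rw [List.foldl_cons, ← D.idx_simple_mul]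
      exact ih _
  have key : ∀ (n z : ℕ), z < m → D.e z = n → ∃ w, D.idx cs h w = z := by
    intro n
    induction n with
    | zero =>
      intro z hz he
      obtain ⟨w, hw⟩ := hfold (D.path (D.cl z)) 1
      rw [idx_one, D.path_eq _ (D.cl_lt z hz), ← D.root_eq z hz he] at hw
      exact ⟨w, hw⟩
    | succ n ih =>
      intro z hz he
      obtain ⟨i, hi, hn⟩ := D.desc z hz (by omega)
      have h1 := D.wt_nb z hz i i
      rw [A_self h] at h1
      have h2 := D.e_nb (D.nb z i) (D.nb_lt z hz i) i hi (by omega)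
      rw [D.nb_nb z hz] at h2
      obtain ⟨w, hw⟩ := ih (D.nb z i) (D.nb_lt z hz i) (by omega)
      exact ⟨cs.simple i * w, by rw [idx_simple_mul, hw, D.nb_nb z hz]⟩
  exact key _ z hz rfl

theorem root_lt {a : ℕ} (ha : a < r) : D.root a < m := by
  have key : ∀ (l : List I) (z : ℕ), z < m → l.foldl D.nb z < m := by
    intro l
    induction l with
    | nil => exact fun z hz => hz
    | cons i l ih =>
      intro z hz
      rw [List.foldl_cons]
      exact ih _ (D.nb_lt z hz i)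
  rw [← D.path_eq a ha]
  exact key _ _ D.b0_lt

theorem exists_cl_eq {a : ℕ} (ha : a < r) : ∃ w, D.cl (D.idx cs h w) = a := by
  obtain ⟨w, hw⟩ := D.exists_idx_eq cs h (D.root_lt ha)
  exact ⟨w, by rw [hw, D.cl_root a ha]⟩

end WDat

end Cfsg.Agent.H77.RK
end

-- part: H77/RK/Bld
section
/-!
# Rational constituents of `1_P^G` for a maximal parabolic subgroup `P` (helper77)

`rat_rgd` : a group with a root group datum all of whose simple root groups have order `q`, `P` the maximal parabolic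
subgroup of all nodes but `k`. If the matrix `M` of the neighbour operator on the double cosets `W_J \ W / W_J` has as
many different rational eigenvalues as there are double cosets then the constituents of `1_P^G` are rational valued.
-/

set_option autoImplicit false
set_option linter.unusedSectionVars false

namespace Cfsg.Agent.H77.RK

open Cfsg CoxeterSystem Cfsg.Agent.ChevalleyStructure.CoxeterGeom Cfsg.Agent.Tits.Roots Cfsg.Agent.Tits.Core
  Cfsg.Agent.Tits.Exchange Cfsg.Agent.Nodes.Reps Cfsg.Agent.Nodes.BNOf Cfsg.Agent.Nodes.StabComb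
  Cfsg.Agent.Nodes.Bruhat Cfsg.Agent.Nodes.LeviDec Cfsg.Agent.Nodes.NormalForm Cfsg.Agent.H116
open scoped Classical in

/-- the neighbour operator on functions on the orbit of the weight -/
noncomputable def opK {I : Type*} {A : I → I → ℤ} {k : I} {m r : ℕ} (D : WDat A k m r) (q : ℂ) (i : I)
    (K : ℕ → ℂ) (z : ℕ) : ℂ :=
  if 0 < D.wt z i then q * K (D.nb z i)
  else if D.wt z i < 0 then K (D.nb z i) + (q - 1) * K z else q * K z

section

variable {I W : Type*} [Fintype I] [DecidableEq I] [Group W] {M : CoxeterMatrix I}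
  {cs : CoxeterSystem M W} {A : I → I → ℤ} (h : IsCartan M A) {k : I} {m r : ℕ} (D : WDat A k m r)

/-- the left multiplication of the Hecke algebra on functions of `w ω_k` -/
theorem L_idx (q : ℕ) (i : I) (K : ℕ → ℂ) (w : W) :
    HeckeA.L cs (q : ℝ) i (fun w => K (D.idx cs h w)) w = opK D q i K (D.idx cs h w) := by
  rw [HeckeA.L_apply]
  simp only [D.idx_simple_mul]
  unfold opK
  rw [D.wt_idx]
  have hcast : (((q : ℝ) : ℂ)) = (q : ℂ) := by push_cast; rfl
  rw [hcast]
  by_cases h1 : 0 < evw cs h k w i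
  · rw [if_pos h1, if_neg (by have := length_of_pos cs h h1; omega)]
  · rw [if_neg h1]
    by_cases h2 : evw cs h k w i < 0
    · rw [if_pos h2, if_pos (length_of_neg cs h h2)]
    · rw [if_neg h2]
      have h3 : D.nb (D.idx cs h w) i = D.idx cs h w :=
        D.nb_of_zero h (D.idx_lt cs h w) (by rw [D.wt_idx]; omega)
      rw [h3]
      split_ifs
      · ring
      · rfl

end

section Bldg

variable {I W : Type*} [Fintype I] [DecidableEq I] [Group W] {M : CoxeterMatrix I}
  {cs : CoxeterSystem M W} {C : Type*} (Δ : Bldg cs C)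

/-- moving inside a residue changes the distance by an element of the parabolic subgroup -/
theorem exists_mul_of_mem {J : Set I} {c d : C} (hcd : Δ.δ c d ∈ WJ cs J) (e : C) :
    ∃ u ∈ WJ cs J, Δ.δ c e = u * Δ.δ d e := by
  have key : ∀ w ∈ WJ cs J, ∀ d : C, Δ.δ c d = w → ∃ u ∈ WJ cs J, Δ.δ c e = u * Δ.δ d e := by
    have hstep : ∀ (w : W), (∀ d : C, Δ.δ c d = w → ∃ u ∈ WJ cs J, Δ.δ c e = u * Δ.δ d e) → ∀ j ∈ J, ∀ d : C,
        Δ.δ c d = w * cs.simple j → ∃ u ∈ WJ cs J, Δ.δ c e = u * Δ.δ d e := by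
      intro w ih j hj d hd
      obtain ⟨z, hz, hz'⟩ := Δ.exists_step c d j
      rw [hd, mul_assoc, cs.simple_mul_simple_self, mul_one] at hz'
      obtain ⟨u, hu, hu'⟩ := ih z hz'
      rcases Δ.step e d z j hz with h1 | h1
      · refine ⟨u * cs.simple j, mul_mem hu (Subgroup.subset_closure ⟨j, hj, rfl⟩), ?_⟩
        rw [hu', Δ.symm e z, h1, mul_inv_rev, cs.inv_simple, ← Δ.symm e d, mul_assoc]
      · exact ⟨u, hu, by rw [hu', Δ.symm e z, h1, ← Δ.symm e d]⟩
    intro w hw
    induction hw using Subgroup.closure_induction_right with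
    | one =>
      intro d hd
      rw [(Δ.eq_one c d).1 hd]
      exact ⟨1, one_mem _, (one_mul _).symm⟩
    | mul_right w _ y hy ih =>
      obtain ⟨j, hj, rfl⟩ := hy
      exact hstep w ih j hj
    | mul_inv_cancel w _ y hy ih =>
      obtain ⟨j, hj, rfl⟩ := hy
      rw [cs.inv_simple]
      exact hstep w ih j hj
  exact key _ hcd d rfl

variable [DecidableEq W] [Fintype C] [DecidableEq C] {q : ℕ}
  (hq : ∀ x i, Nat.card {y // Δ.δ x y = cs.simple i} = q)

include hq in
theorem sum_nbr (H : W → ℂ) (c e : C) (i : I) :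
    ∑ d with Δ.δ c d = cs.simple i, H (Δ.δ d e) = HeckeA.L cs (q : ℝ) i H (Δ.δ c e) := by
  have h1 := congrFun (congrFun (HeckeC.mul_ad Δ hq H i) c) e
  rw [Matrix.mul_apply, HeckeC.ad_apply] at h1
  rw [← h1, Finset.sum_filter]
  refine Finset.sum_congr rfl fun d _ => ?_
  rw [HeckeC.ad_apply, HeckeC.ad_apply, HeckeC.e_apply, ite_mul, one_mul, zero_mul]

variable {A : I → I → ℤ} (h : IsCartan M A) {k : I} {m r : ℕ} (D : WDat A k m r) {X : Type*} [DecidableEq X]
  (π : C → X) (e : C)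

/-- the sum over a fibre -/
noncomputable def SS (x : X) (K : ℕ → ℂ) : ℂ := ∑ c with π c = x, K (D.idx cs h (Δ.δ c e))

theorem SS_eq (x : X) (K : ℕ → ℂ) : SS Δ h D π e x K =
    ∑ z ∈ Finset.range m, ((Finset.univ.filter fun c => π c = x ∧ D.idx cs h (Δ.δ c e) = z).card : ℂ) * K z := by
  unfold SS
  rw [← Finset.sum_fiberwise_of_maps_to (g := fun c => D.idx cs h (Δ.δ c e)) (t := Finset.range m)
    (fun c _ => Finset.mem_range.2 (D.idx_lt cs h _))]
  refine Finset.sum_congr rfl fun z _ => ?_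
  rw [Finset.sum_congr rfl fun c hc => by rw [(Finset.mem_filter.1 hc).2], Finset.sum_const, nsmul_eq_mul,
    Finset.filter_filter]

variable (hπ : ∀ (c d : C) (j : I), j ≠ k → Δ.δ c d = cs.simple j → π c = π d)
  (hπ' : ∀ c d : C, π c = π d → Δ.δ c d ∈ WJ cs {j | j ≠ k})

include hq hπ in
theorem SS_opK (x : X) (K : ℕ → ℂ) {j : I} (hj : j ≠ k) : SS Δ h D π e x (opK D q j K) = q * SS Δ h D π e x K := by
  unfold SS
  have h1 : ∀ c, opK D q j K (D.idx cs h (Δ.δ c e)) =
      ∑ d with Δ.δ c d = cs.simple j, K (D.idx cs h (Δ.δ d e)) := by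
    intro c
    rw [← L_idx h D, sum_nbr Δ hq (fun w => K (D.idx cs h w))]
  simp only [h1]
  have h2 : ∑ c with π c = x, ∑ d with Δ.δ c d = cs.simple j, K (D.idx cs h (Δ.δ d e)) =
      ∑ d with π d = x, ∑ c with Δ.δ d c = cs.simple j, K (D.idx cs h (Δ.δ d e)) := by
    refine Finset.sum_comm' fun c d => ?_
    rw [Finset.mem_filter, Finset.mem_filter, Finset.mem_filter, Finset.mem_filter]
    constructor
    · rintro ⟨⟨-, h3⟩, -, h4⟩
      exact ⟨⟨Finset.mem_univ _, Δ.δ_symm_simple h4⟩, Finset.mem_univ _, by rw [← h3, hπ c d j hj h4]⟩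
    · rintro ⟨⟨-, h3⟩, -, h4⟩
      exact ⟨⟨Finset.mem_univ _, by rw [← h4, hπ d c j hj h3]⟩, Finset.mem_univ _, Δ.δ_symm_simple h3⟩
  rw [h2, Finset.mul_sum]
  refine Finset.sum_congr rfl fun d _ => ?_
  rw [Finset.sum_const, HeckeC.card_filter Δ hq, nsmul_eq_mul]

include hq hπ in
theorem card_nb (x : X) {z : ℕ} (hz : z < m) {j : I} (hj : j ≠ k) (hp : 0 < D.wt z j) :
    ((Finset.univ.filter fun c => π c = x ∧ D.idx cs h (Δ.δ c e) = D.nb z j).card : ℂ) =
      q * ((Finset.univ.filter fun c => π c = x ∧ D.idx cs h (Δ.δ c e) = z).card : ℂ) := by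
  have h1 := SS_opK Δ hq h D π e hπ x (fun z' => if z' = z then 1 else 0) hj
  rw [SS_eq, SS_eq] at h1
  have h2 : ∀ z' ∈ Finset.range m,
      opK D q j (fun z' => if z' = z then 1 else 0) z' = if z' = D.nb z j then 1 else 0 := by
    intro z' hz'
    have hz'm := Finset.mem_range.1 hz'
    have h3 := D.wt_nb z hz j j
    rw [h.diag] at h3
    unfold opK
    dsimp only
    by_cases e1 : z' = D.nb z j
    · subst e1
      rw [if_neg (by omega), if_pos (by omega), D.nb_nb z hz, if_pos rfl, if_pos rfl, if_neg, mul_zero, add_zero]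
      intro e2
      rw [e2] at h3
      omega
    · have e3 : D.nb z' j ≠ z := by
        intro e3
        apply e1
        rw [← e3, D.nb_nb z' hz'm]
      rw [if_neg e1, if_neg e3, mul_zero]
      split_ifs with e4 e5 e6 e7
      · rfl
      · rw [e6] at e5; omega
      · rw [mul_zero, add_zero]
      · rw [e7] at e4; omega
      · rw [mul_zero]
  rw [Finset.sum_congr rfl fun z' hz' => by rw [h2 z' hz']] at h1
  simp only [mul_ite, mul_one, mul_zero] at h1
  rw [Finset.sum_ite_eq' (Finset.range m), Finset.sum_ite_eq' (Finset.range m),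
    if_pos (Finset.mem_range.2 (D.nb_lt z hz j)), if_pos (Finset.mem_range.2 hz)] at h1
  exact h1

include hq hπ hπ' in
/-- **the sum over a fibre** -/
theorem exists_const (c₀ : C) : ∃ N : ℂ, ∀ K : ℕ → ℂ, SS Δ h D π e (π c₀) K =
    N * ∑ z ∈ Finset.range m with D.cl z = D.cl (D.idx cs h (Δ.δ c₀ e)), (q : ℂ) ^ D.e z * K z := by
  set a := D.cl (D.idx cs h (Δ.δ c₀ e)) with ha
  have hcl : ∀ c : C, π c = π c₀ → D.cl (D.idx cs h (Δ.δ c e)) = a := by
    intro c hc
    obtain ⟨u, hu, hu'⟩ := exists_mul_of_mem Δ (hπ' c c₀ hc) e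
    rw [hu', D.cl_mul cs h hu]
  have key : ∀ (n z : ℕ), z < m → D.cl z = a → D.e z = n →
      ((Finset.univ.filter fun c => π c = π c₀ ∧ D.idx cs h (Δ.δ c e) = z).card : ℂ) = (q : ℂ) ^ n *
        ((Finset.univ.filter fun c => π c = π c₀ ∧ D.idx cs h (Δ.δ c e) = D.root a).card : ℂ) := by
    intro n
    induction n with
    | zero =>
      intro z hz hza he
      have h1 := D.root_eq z hz he
      rw [hza] at h1
      rw [h1, pow_zero, one_mul]
    | succ n ih =>
      intro z hz hza he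
      obtain ⟨i, hi, hn⟩ := D.desc z hz (by omega)
      have h1 := D.wt_nb z hz i i
      rw [h.diag] at h1
      have h2 := D.e_nb (D.nb z i) (D.nb_lt z hz i) i hi (by omega)
      rw [D.nb_nb z hz] at h2
      have h3 := card_nb Δ hq h D π e hπ (π c₀) (D.nb_lt z hz i) hi (by omega)
      rw [D.nb_nb z hz, ih (D.nb z i) (D.nb_lt z hz i) (by rw [D.cl_nb z hz i hi, hza]) (by omega)] at h3
      rw [h3, pow_succ]
      ring
  refine ⟨((Finset.univ.filter fun c => π c = π c₀ ∧ D.idx cs h (Δ.δ c e) = D.root a).card : ℂ), fun K => ?_⟩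
  rw [SS_eq, Finset.sum_filter, Finset.mul_sum]
  refine Finset.sum_congr rfl fun z hz => ?_
  by_cases hza : D.cl z = a
  · rw [if_pos hza, key _ z (Finset.mem_range.1 hz) hza rfl]
    ring
  · rw [if_neg hza, mul_zero]
    have h1 : (Finset.univ.filter fun c => π c = π c₀ ∧ D.idx cs h (Δ.δ c e) = z) = ∅ := by
      rw [Finset.filter_eq_empty_iff]
      rintro c - ⟨h1, h2⟩
      exact hza (by rw [← h2, hcl c h1])
    rw [h1, Finset.card_empty, Nat.cast_zero, zero_mul]

end Bldg

section Rgd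

universe u

variable {I W : Type*} {Y : Type u} [Fintype I] [DecidableEq I] [Group W] [Group Y] {M : CoxeterMatrix I}
  {cs : CoxeterSystem M W} {A : I → I → ℤ} {h : IsCartan M A} {p : ℕ} {T : Subgroup Y} {n : I → Y}
  {X : (I → ℤ) → Subgroup Y}

end Rgd

end Cfsg.Agent.H77.RK
end

-- part: H77/RK/Sph
section
/-!
# Constituents from left eigenvectors (helper77)

`exists_of_left` : the fibred set `π : C → X` with a symmetric relation `T` on `C`; `α` the matrix of the neighbour
operator on the classes (orbits of the stabilizer of `x₀`), `P i` left eigenvectors of `α` with different eigenvalues,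
`P i (cl x₀) = 1`: the constituents of the permutation character of `X`, with degrees and block linking.
-/

set_option autoImplicit false
set_option linter.unusedSectionVars false

namespace Cfsg.Agent.H77.RK

open Cfsg Cfsg.Agent.H116.HeckeC Cfsg.Agent.H116.HeckeD Cfsg.Agent.Characters.Core Matrix Polynomial Module
open scoped ComplexConjugate
open Cfsg.Agent.Blocks.Basic Cfsg.Agent.Blocks.Local Cfsg.Agent.Blocks.Central

universe u

section

variable {G : Type u} [Group G] [Fintype G] {X : Type*} [Fintype X] [DecidableEq X] [MulAction G X]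

/-- linear independence of the spherical functions -/
theorem Dat.lin {ι : Type*} [Fintype ι] [DecidableEq ι] {s : ι → X × X} {A : Matrix X X ℂ} {θ : ι → ℂ} {v : ι → X → ℂ}
    {x₀ : X} (H : Dat (G := G) s A θ v x₀) {δ : ι → ℂ} (h : ∀ y, ∑ i, δ i * v i y = 0) (j : ι) : δ j = 0 := by
  have h1 : ∑ i, δ i • v i = 0 := by
    funext y
    rw [Finset.sum_apply]
    exact h y
  have h2 : Dat.E A θ j *ᵥ ∑ i, δ i • v i = δ j • v j := by
    rw [mulVec_sum, Finset.sum_eq_single j]
    · rw [mulVec_smul, H.E_self]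
    · intro i _ hi
      rw [mulVec_smul, H.E_ne hi.symm, smul_zero]
    · intro h
      exact absurd (Finset.mem_univ _) h
  rw [h1, mulVec_zero] at h2
  have h3 := congrFun h2.symm x₀
  rwa [Pi.smul_apply, H.one, smul_eq_mul, mul_one] at h3

section

variable {C : Type*} [Fintype C] [MulAction G C]

open scoped Classical in
/-- the number of related pairs over `(x, y)` -/
noncomputable def mm (π : C → X) (T : C → C → Prop) (x y : X) : ℂ :=
  ∑ c, ∑ d, if π c = x ∧ π d = y ∧ T c d then 1 else 0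

theorem mm_symm (π : C → X) {T : C → C → Prop} (hT : ∀ c d, T c d → T d c) (x y : X) : mm π T x y = mm π T y x := by
  classical
  unfold mm
  rw [Finset.sum_comm]
  refine Finset.sum_congr rfl fun c _ => Finset.sum_congr rfl fun d _ => ?_
  exact if_congr ⟨fun h => ⟨h.2.1, h.1, hT _ _ h.2.2⟩, fun h => ⟨h.2.1, h.1, hT _ _ h.2.2⟩⟩ rfl rfl

theorem mm_inv (π : C → X) (hπ : ∀ (g : G) (c : C), π (g • c) = g • π c) {T : C → C → Prop}
    (hT : ∀ (g : G) (c d : C), T (g • c) (g • d) ↔ T c d) (g : G) (x y : X) : mm π T (g • x) (g • y) = mm π T x y := by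
  classical
  unfold mm
  symm
  refine Fintype.sum_equiv (MulAction.toPerm g) _ _ fun c => Fintype.sum_equiv (MulAction.toPerm g) _ _ fun d => ?_
  rw [MulAction.toPerm_apply, MulAction.toPerm_apply, hπ, hπ]
  exact if_congr (by rw [hT, smul_left_cancel_iff, smul_left_cancel_iff]) rfl rfl

theorem sum_mm (π : C → X) (T : C → C → Prop) [DecidableRel T] (x : X) (f : X → ℂ) :
    ∑ y, mm π T x y * f y = ∑ c with π c = x, ∑ d with T c d, f (π d) := by
  classical
  unfold mm
  simp only [Finset.sum_mul]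
  rw [Finset.sum_comm, Finset.sum_filter]
  refine Finset.sum_congr rfl fun c _ => ?_
  rw [Finset.sum_comm]
  by_cases h1 : π c = x
  · rw [if_pos h1, Finset.sum_filter]
    refine Finset.sum_congr rfl fun d _ => ?_
    rw [Finset.sum_eq_single (π d)]
    · by_cases h2 : T c d
      · rw [if_pos h2, if_pos ⟨h1, rfl, h2⟩, one_mul]
      · rw [if_neg h2, if_neg fun h => h2 h.2.2, zero_mul]
    · intro y _ hy
      rw [if_neg fun h => hy h.2.1.symm, zero_mul]
    · intro h
      exact absurd (Finset.mem_univ _) h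
  · rw [if_neg h1]
    refine Finset.sum_eq_zero fun d _ => Finset.sum_eq_zero fun y _ => ?_
    rw [if_neg fun h => h1 h.1, zero_mul]

/-- **Constituents from left eigenvectors.** -/
theorem exists_of_left (π : C → X) (hπ : ∀ (g : G) (c : C), π (g • c) = g • π c) (hsur : Function.Surjective π)
    (T : C → C → Prop) [DecidableRel T] (hT : ∀ (g : G) (c d : C), T (g • c) (g • d) ↔ T c d)
    (hTs : ∀ c d, T c d → T d c) (x₀ : X) (htr : ∀ x : X, ∃ g : G, g • x₀ = x) {r : ℕ} (s : Fin r → X × X)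
    (hs : ∀ x y : X, ∃ i, ∃ g : G, g • (s i).1 = x ∧ g • (s i).2 = y) (cl : X → ℕ) (hclr : ∀ x, cl x < r)
    (hcl : ∀ (g : G) (x : X), g • x₀ = x₀ → cl (g • x) = cl x)
    (hcl' : ∀ x y : X, cl x = cl y → ∃ g : G, g • x₀ = x₀ ∧ g • x = y) (hcls : ∀ a < r, ∃ x, cl x = a)
    (α : ℕ → ℕ → ℂ) (hα : ∀ (x : X) (F : ℕ → ℂ), ∑ c with π c = x, ∑ d with T c d, F (cl (π d)) =
      ((Finset.univ.filter fun c => π c = x).card : ℂ) * ∑ b ∈ Finset.range r, α (cl x) b * F b)
    (θ : Fin r → ℂ) (hθ : Function.Injective θ) (P : Fin r → ℕ → ℚ) (hP0 : ∀ i, P i (cl x₀) = 1)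
    (hP : ∀ i, ∀ b < r, ∑ a ∈ Finset.range r, (P i a : ℂ) * α a b = θ i * P i b) :
    ∃ χ : Fin r → IrrCharacter G, Function.Injective χ ∧ (∀ i g, ∃ z : ℚ, (χ i : G → ℂ) g = z) ∧
      (∀ i, classInner (perm G X) (χ i : G → ℂ) = 1) ∧
      (∀ ψ : IrrCharacter G, classInner (perm G X) (ψ : G → ℂ) ≠ 0 → ∃ i, χ i = ψ) ∧
      (∀ a < r, ∑ i, (χ i : G → ℂ) 1 * P i a = if a = cl x₀ then (Nat.card X : ℂ) else 0) ∧
      (∀ δ : Fin r → ℂ, (∀ a < r, ∑ i, δ i * P i a = 0) → ∀ i, δ i = 0) ∧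
      ∀ (p : ℕ) (M : Ideal AlgInt), IsPModular p M → ∀ i j, (∀ a < r, ∃ z : ℤ, P i a - P j a = p * z) →
        SameBlock M (χ i : G → ℂ) (χ j : G → ℂ) := by
  classical
  let N : X → ℕ := fun x => (Finset.univ.filter fun c => π c = x).card
  have hN : ∀ (g : G) (x : X), N (g • x) = N x := by
    intro g x
    symm
    refine Finset.card_bij (fun c _ => g • c) (fun c hc => ?_) (fun c _ d _ h => smul_left_cancel g h) fun c hc => ?_
    · rw [Finset.mem_filter] at hc ⊢
      exact ⟨Finset.mem_univ _, by rw [hπ, hc.2]⟩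
    · rw [Finset.mem_filter] at hc
      refine ⟨g⁻¹ • c, Finset.mem_filter.2 ⟨Finset.mem_univ _, by rw [hπ, hc.2, inv_smul_smul]⟩, smul_inv_smul g c⟩
  have hN0 : (N x₀ : ℂ) ≠ 0 := by
    obtain ⟨c, hc⟩ := hsur x₀
    have h1 : 0 < N x₀ := Finset.card_pos.2 ⟨c, Finset.mem_filter.2 ⟨Finset.mem_univ _, hc⟩⟩
    exact_mod_cast h1.ne'
  have hNx : ∀ x, N x = N x₀ := by
    intro x
    obtain ⟨g, rfl⟩ := htr x
    exact hN g x₀
  let A : Matrix X X ℂ := fun x y => mm π T x y / N x₀
  have hAs : ∀ x y, A x y = A y x := fun x y => by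
    show mm π T x y / (N x₀ : ℂ) = mm π T y x / (N x₀ : ℂ)
    rw [mm_symm π hTs]
  have hAop : ∀ (x : X) (F : ℕ → ℂ), ∑ y, A x y * F (cl y) = ∑ b ∈ Finset.range r, α (cl x) b * F b := by
    intro x F
    have h1 : ∑ y, A x y * F (cl y) = (∑ y, mm π T x y * F (cl y)) / N x₀ := by
      rw [Finset.sum_div]
      exact Finset.sum_congr rfl fun y _ => by ring
    rw [h1, sum_mm π T x (fun y => F (cl y)), hα x F]
    show (N x : ℂ) * _ / (N x₀ : ℂ) = _
    rw [hNx, mul_div_assoc, mul_comm, div_mul_cancel₀ _ hN0]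
  let κ : ℕ → ℕ := fun a => (Finset.univ.filter fun x => cl x = a).card
  have hκ0 : ∀ a < r, (κ a : ℂ) ≠ 0 := by
    intro a ha
    obtain ⟨x, hx⟩ := hcls a ha
    have h1 : 0 < κ a := Finset.card_pos.2 ⟨x, Finset.mem_filter.2 ⟨Finset.mem_univ _, hx⟩⟩
    exact_mod_cast h1.ne'
  have hdc : ∀ a < r, ∀ b < r, (κ a : ℂ) * α a b = κ b * α b a := by
    have key : ∀ a < r, ∀ b < r, (κ a : ℂ) * α a b = ∑ x with cl x = a, ∑ y with cl y = b, A x y := by
      intro a ha b hb
      have h1 : ∀ x, cl x = a → ∑ y with cl y = b, A x y = α a b := by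
        intro x hx
        have h2 := hAop x (fun c => if c = b then 1 else 0)
        rw [Finset.sum_filter]
        simp only [mul_ite, mul_one, mul_zero] at h2
        rw [h2, hx, Finset.sum_ite_eq' (Finset.range r), if_pos (Finset.mem_range.2 hb)]
      rw [Finset.sum_congr rfl fun x hx => h1 x (Finset.mem_filter.1 hx).2, Finset.sum_const, nsmul_eq_mul]
    intro a ha b hb
    rw [key a ha b hb, key b hb a ha, Finset.sum_comm]
    exact Finset.sum_congr rfl fun x _ => Finset.sum_congr rfl fun y _ => hAs _ _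
  let v : Fin r → X → ℂ := fun i x => (P i (cl x) : ℂ) / κ (cl x)
  have hκx₀ : κ (cl x₀) = 1 := by
    show (Finset.univ.filter fun x => cl x = cl x₀).card = 1
    rw [Finset.card_eq_one]
    refine ⟨x₀, ?_⟩
    ext x
    rw [Finset.mem_filter, Finset.mem_singleton]
    constructor
    · rintro ⟨-, h⟩
      obtain ⟨g, hg, hg'⟩ := hcl' x₀ x h.symm
      rw [← hg', hg]
    · rintro rfl
      exact ⟨Finset.mem_univ _, rfl⟩
  have H : Dat (G := G) s A θ v x₀ := by
    refine ⟨hs, fun g x y => ?_, hθ, fun i => ?_, fun i => ?_, fun i g hg x => ?_, htr⟩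
    · show mm π T (g • x) (g • y) / (N x₀ : ℂ) = mm π T x y / (N x₀ : ℂ)
      rw [mm_inv π hπ hT]
    · funext x
      rw [Pi.smul_apply, smul_eq_mul]
      show ∑ y, A x y * ((P i (cl y) : ℂ) / κ (cl y)) = θ i * ((P i (cl x) : ℂ) / κ (cl x))
      rw [hAop x (fun b => (P i b : ℂ) / κ b), ← mul_div_assoc, ← hP i (cl x) (hclr x), Finset.sum_div]
      refine Finset.sum_congr rfl fun b hb => ?_
      have hb' := Finset.mem_range.1 hb
      have h1 := hdc (cl x) (hclr x) b hb'
      have h2 := hκ0 b hb'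
      have h3 := hκ0 (cl x) (hclr x)
      field_simp
      linear_combination (P i b : ℂ) * h1
    · show (P i (cl x₀) : ℂ) / κ (cl x₀) = 1
      rw [hP0, hκx₀]
      norm_num
    · show (P i (cl (g • x)) : ℂ) / κ (cl (g • x)) = (P i (cl x) : ℂ) / κ (cl x)
      rw [hcl g x hg]
  have hvr : ∀ i x, ∃ z : ℚ, v i x = z := fun i x => ⟨P i (cl x) / κ (cl x), by
    show (P i (cl x) : ℂ) / κ (cl x) = _
    push_cast
    rfl⟩
  have hsumv : ∀ i, ∀ a < r, ∑ y with cl y = a, v i y = P i a := by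
    intro i a ha
    rw [Finset.sum_congr rfl fun y hy => show v i y = (P i a : ℂ) / κ a by
      show (P i (cl y) : ℂ) / κ (cl y) = _
      rw [(Finset.mem_filter.1 hy).2], Finset.sum_const, nsmul_eq_mul]
    exact mul_div_cancel₀ _ (hκ0 a ha)
  obtain ⟨χ, h1, h2, h3, h4, h5, h6⟩ := H.exists_con_rat hvr
  refine ⟨χ, h1, h2, h3, h4, fun a ha => ?_, fun δ hδ => H.lin fun y => ?_, fun p M hM i j hij => ?_⟩
  · obtain ⟨x, hx⟩ := hcls a ha
    have h7 := h6 x
    have h8 : ∑ i, (χ i : G → ℂ) 1 * P i a = κ a * ∑ i, (χ i : G → ℂ) 1 * v i x := by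
      rw [Finset.mul_sum]
      refine Finset.sum_congr rfl fun i _ => ?_
      show _ = (κ a : ℂ) * ((χ i : G → ℂ) 1 * ((P i (cl x) : ℂ) / κ (cl x)))
      rw [hx]
      have := hκ0 a ha
      field_simp
    rw [h8, h7]
    by_cases h9 : a = cl x₀
    · rw [if_pos h9]
      have h10 : x = x₀ := by
        obtain ⟨g, hg, hg'⟩ := hcl' x₀ x (by rw [hx, h9])
        rw [← hg', hg]
      rw [if_pos h10, h9, hκx₀]
      norm_num only [_root_.Nat.card_eq_fintype_card, _root_.one_mul]
    · rw [if_neg h9, if_neg, mul_zero]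
      rintro rfl
      exact h9 hx.symm
  · have h7 := hδ (cl y) (hclr y)
    have h8 : ∑ i, δ i * v i y = (∑ i, δ i * P i (cl y)) / κ (cl y) := by
      rw [Finset.sum_div]
      exact Finset.sum_congr rfl fun i _ => by
        show δ i * ((P i (cl y) : ℂ) / κ (cl y)) = _
        ring
    rw [h8, h7, zero_div]
  · refine H.sameBlock hM (cl := fun x => (⟨cl x, hclr x⟩ : Fin r)) (fun x y h => hcl' x y (Fin.mk.inj_iff.1 h))
      (i := i) (j := j) (χ i).2 (χ j).2 (h5 i) (h5 j) fun a => ?_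
    obtain ⟨z, hz⟩ := hij a.val a.2
    refine ⟨z, ?_⟩
    have h7 : ∀ i, ∑ y with (⟨cl y, hclr y⟩ : Fin r) = a, v i y = P i a := by
      intro i
      rw [← hsumv i a.val a.2]
      refine Finset.sum_congr ?_ fun _ _ => rfl
      ext y
      rw [Finset.mem_filter, Finset.mem_filter, Fin.ext_iff]
    rw [h7, h7]
    have h8 := congrArg (fun y : ℚ => (y : ℂ)) hz
    push_cast at h8
    exact h8

end

end

section Rgd

open CoxeterSystem Cfsg.Agent.ChevalleyStructure.CoxeterGeom Cfsg.Agent.Tits.Roots Cfsg.Agent.Tits.Core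
  Cfsg.Agent.Tits.Exchange Cfsg.Agent.Nodes.Reps Cfsg.Agent.Nodes.BNOf Cfsg.Agent.Nodes.StabComb
  Cfsg.Agent.Nodes.Bruhat Cfsg.Agent.Nodes.LeviDec Cfsg.Agent.Nodes.NormalForm Cfsg.Agent.H116

/-- the neighbour operator on functions of the class -/
theorem sum_class {I W : Type*} [Fintype I] [DecidableEq I] [Group W] {M : CoxeterMatrix I}
    {cs : CoxeterSystem M W} {C : Type*} (Δ : Bldg cs C) [DecidableEq W] [Fintype C] [DecidableEq C] {q : ℕ}
    (hq : ∀ x i, Nat.card {y // Δ.δ x y = cs.simple i} = q) {A : I → I → ℤ} (h : IsCartan M A) {k : I} {m r : ℕ}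
    (D : WDat A k m r) {X : Type*} [DecidableEq X] (π : C → X) (e : C)
    (hπ : ∀ (c d : C) (j : I), j ≠ k → Δ.δ c d = cs.simple j → π c = π d)
    (hπ' : ∀ c d : C, π c = π d → Δ.δ c d ∈ WJ cs {j | j ≠ k}) (α : ℕ → ℕ → ℂ)
    (hα : ∀ (F : ℕ → ℂ), ∀ a < r, ∑ z ∈ Finset.range m with D.cl z = a,
      (q : ℂ) ^ D.e z * opK D q k (fun z => F (D.cl z)) z =
        (∑ z ∈ Finset.range m with D.cl z = a, (q : ℂ) ^ D.e z) * ∑ b ∈ Finset.range r, α a b * F b)
    (c₀ : C) (F : ℕ → ℂ) :
    ∑ c with π c = π c₀, ∑ d with Δ.δ c d = cs.simple k, F (D.cl (D.idx cs h (Δ.δ d e))) =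
      ((Finset.univ.filter fun c => π c = π c₀).card : ℂ) *
        ∑ b ∈ Finset.range r, α (D.cl (D.idx cs h (Δ.δ c₀ e))) b * F b := by
  set a := D.cl (D.idx cs h (Δ.δ c₀ e)) with ha
  obtain ⟨N, hN⟩ := exists_const Δ hq h D π e hπ hπ' c₀
  have h1 : ∀ c, ∑ d with Δ.δ c d = cs.simple k, F (D.cl (D.idx cs h (Δ.δ d e))) =
      opK D q k (fun z => F (D.cl z)) (D.idx cs h (Δ.δ c e)) := by
    intro c
    rw [← L_idx h D, sum_nbr Δ hq (fun w => F (D.cl (D.idx cs h w)))]
  simp only [h1]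
  have h2 := hN (opK D q k (fun z => F (D.cl z)))
  have h3 := hN (fun _ => 1)
  unfold SS at h2 h3
  rw [h2, hα F a (D.cl_lt _ (D.idx_lt cs h _))]
  rw [Finset.sum_const, nsmul_eq_mul, mul_one] at h3
  simp only [mul_one] at h3
  rw [h3]
  ring

variable {I W : Type*} {Y : Type u} [Fintype I] [DecidableEq I] [Group W] [Group Y] {M : CoxeterMatrix I}
  {cs : CoxeterSystem M W} {A : I → I → ℤ} {h : IsCartan M A} {p : ℕ} {T : Subgroup Y} {n : I → Y}
  {X : (I → ℤ) → Subgroup Y}

/-- **The constituents of the permutation character of a maximal parabolic subgroup.** -/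
theorem exists_rgd [Finite W] [Finite Y] [Fintype Y] (R : RGD cs h p T n X)
    (hgen : RGD.B cs h T X ⊔ NN cs R.nsys = ⊤) {q : ℕ} (hq : ∀ i, Nat.card (X (sr i)) = q) {k : I} {m r : ℕ}
    (D : WDat A k m r) (α : ℕ → ℕ → ℂ)
    (hα : ∀ (F : ℕ → ℂ), ∀ a < r, ∑ z ∈ Finset.range m with D.cl z = a,
      (q : ℂ) ^ D.e z * opK D q k (fun z => F (D.cl z)) z =
        (∑ z ∈ Finset.range m with D.cl z = a, (q : ℂ) ^ D.e z) * ∑ b ∈ Finset.range r, α a b * F b)
    (θ : Fin r → ℂ) (hθ : Function.Injective θ) (P : Fin r → ℕ → ℚ) (hP0 : ∀ i, P i (D.cl D.b0) = 1)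
    (hP : ∀ i, ∀ b < r, ∑ a ∈ Finset.range r, (P i a : ℂ) * α a b = θ i * P i b) :
    ∃ χ : Fin r → IrrCharacter Y, Function.Injective χ ∧ (∀ i g, ∃ z : ℚ, (χ i : Y → ℂ) g = z) ∧
      (∀ i, classInner (perm Y (Y ⧸ PJ cs h T X {j | j ≠ k})) (χ i : Y → ℂ) = 1) ∧
      (∀ ψ : IrrCharacter Y, classInner (perm Y (Y ⧸ PJ cs h T X {j | j ≠ k})) (ψ : Y → ℂ) ≠ 0 → ∃ i, χ i = ψ) ∧
      (∀ a < r, ∑ i, (χ i : Y → ℂ) 1 * P i a =
        if a = D.cl D.b0 then ((PJ cs h T X {j | j ≠ k}).index : ℂ) else 0) ∧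
      (∀ δ : Fin r → ℂ, (∀ a < r, ∑ i, δ i * P i a = 0) → ∀ i, δ i = 0) ∧
      ∀ (p : ℕ) (M : Ideal AlgInt), IsPModular p M → ∀ i j, (∀ a < r, ∃ z : ℤ, P i a - P j a = p * z) →
        SameBlock M (χ i : Y → ℂ) (χ j : Y → ℂ) := by
  classical
  obtain ⟨B, hB⟩ : ∃ B, B = RGD.B cs h T X := ⟨_, rfl⟩
  have hex0 : ∃ Δ : Bldg cs (Y ⧸ RGD.B cs h T X),
      (∀ (g : Y) (x y : Y ⧸ RGD.B cs h T X), Δ.δ (g • x) (g • y) = Δ.δ x y) ∧
      (∀ (a b k : Y) (w : W), Rp cs R.nsys w k → (Δ.δ (QuotientGroup.mk a) (QuotientGroup.mk b) = w ↔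
        ∃ b₁ ∈ RGD.B cs h T X, ∃ b₂ ∈ RGD.B cs h T X, a⁻¹ * b = b₁ * k * b₂)) ∧
      ∀ (x : Y ⧸ RGD.B cs h T X) (i : I), Nat.card {y // Δ.δ x y = cs.simple i} = q := by
    obtain ⟨Δ, hiso, htr, hδ⟩ := H167.SteinbergRGD.exists_bldg R hgen
    exact ⟨Δ, hiso, hδ, fun x i => by rw [HeckeE.card_nbr R Δ hδ, hq]⟩
  rw [← hB] at hex0
  obtain ⟨Δ, hiso, hδ, hq'⟩ := hex0
  set! P' := PJ cs h T X {j | j ≠ k} with hP'; rewrite [← hP']
  have hBP : B ≤ P' := by rw [hB]; exact B_le_PJ
  let _ : Fintype (Y ⧸ B) := Fintype.ofFinite _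
  let _ : Fintype (Y ⧸ P') := Fintype.ofFinite _
  have hTB : T ≤ B := by rw [hB]; exact fun t ht => RGD.T_le_B ht
  have hcell : ∀ (a b : Y) (w : W), Δ.δ (QuotientGroup.mk a) (QuotientGroup.mk b) = w ↔
      ∃ b₁ ∈ B, ∃ k', Rp cs R.nsys w k' ∧ ∃ b₂ ∈ B, a⁻¹ * b = b₁ * k' * b₂ := by
    intro a b w
    obtain ⟨kw, hkw⟩ := exists_rp cs R.nsys w
    rw [hδ a b kw w hkw]
    constructor
    · rintro ⟨b₁, h1, b₂, h2, e⟩
      exact ⟨b₁, h1, kw, hkw, b₂, h2, e⟩
    · rintro ⟨b₁, h1, k', hk', b₂, h2, e⟩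
      refine ⟨b₁, h1, (kw⁻¹ * k') * b₂, mul_mem (hTB (hkw.unique hk')) h2, ?_⟩
      rw [e]
      group
  let π : Y ⧸ B → Y ⧸ P' := Subgroup.quotientMapOfLE hBP
  have hπmk : ∀ a : Y, π (QuotientGroup.mk a) = QuotientGroup.mk a := fun a => rfl
  have hπg : ∀ (g : Y) (c : Y ⧸ B), π (g • c) = g • π c := by
    intro g c
    induction c using QuotientGroup.induction_on with
    | _ a => rfl
  have hsur : Function.Surjective π := by
    intro x
    induction x using QuotientGroup.induction_on with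
    | _ a => exact ⟨QuotientGroup.mk a, rfl⟩
  have hπ : ∀ (c d : Y ⧸ B) (j : I), j ≠ k → Δ.δ c d = cs.simple j → π c = π d := by
    intro c d j hj hcd
    induction c using QuotientGroup.induction_on with
    | _ a =>
    induction d using QuotientGroup.induction_on with
    | _ b =>
    rw [hπmk, hπmk, QuotientGroup.eq, hP', mem_PJ_iff_cell R]
    have h1 := (hcell a b _).1 hcd
    rw [hB] at h1
    exact ⟨_, Subgroup.subset_closure ⟨j, hj, rfl⟩, h1⟩
  have hπ' : ∀ c d : Y ⧸ B, π c = π d → Δ.δ c d ∈ WJ cs {j | j ≠ k} := by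
    intro c d hcd
    induction c using QuotientGroup.induction_on with
    | _ a =>
    induction d using QuotientGroup.induction_on with
    | _ b =>
    rw [hπmk, hπmk, QuotientGroup.eq, hP', mem_PJ_iff_cell R] at hcd
    obtain ⟨w, hw, hc⟩ := hcd
    rw [(hcell a b w).2 (by rw [hB]; exact hc)]
    exact hw
  set! e : Y ⧸ B := QuotientGroup.mk 1 with he
  have hclπ : ∀ c d : Y ⧸ B, π c = π d → D.cl (D.idx cs h (Δ.δ c e)) = D.cl (D.idx cs h (Δ.δ d e)) := by
    intro c d hcd
    obtain ⟨u, hu, hu'⟩ := exists_mul_of_mem Δ (hπ' c d hcd) e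
    rw [hu', D.cl_mul cs h hu]
  -- the classes
  choose sec hsec using hsur
  let cl : (Y ⧸ P') → ℕ := fun x => D.cl (D.idx cs h (Δ.δ (sec x) e))
  have hclc : ∀ c, cl (π c) = D.cl (D.idx cs h (Δ.δ c e)) := by
    intro c
    show D.cl (D.idx cs h (Δ.δ (sec (π c)) e)) = _
    rw [hclπ _ c (hsec (π c))]
  set! x₀ : Y ⧸ P' := QuotientGroup.mk 1 with hx₀
  have hx₀e : π e = x₀ := rfl
  have hclx₀ : cl x₀ = D.cl D.b0 := by
    rw [← hx₀e, hclc, Δ.δ_self, D.idx_one]
  -- representatives of the orbits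
  have hex : ∀ a : Fin r, ∃ b : Y, ∃ w : W, Cell R.nsys cs h X w b ∧ D.cl (D.idx cs h w) = a := by
    intro a
    obtain ⟨w, hw⟩ := D.exists_cl_eq cs h a.2
    obtain ⟨b, hb⟩ := exists_rp cs R.nsys w
    exact ⟨b, w, cell_of_rp hb, hw⟩
  choose b w₀ hbw hw₀ using hex
  -- elements with the same class
  have hdbl : ∀ (a a' : Y) (w w' : W), D.cl (D.idx cs h w) = D.cl (D.idx cs h w') →
      (∃ b₁ ∈ B, ∃ k', Rp cs R.nsys w k' ∧ ∃ b₂ ∈ B, a = b₁ * k' * b₂) →
      (∃ b₁ ∈ B, ∃ k', Rp cs R.nsys w' k' ∧ ∃ b₂ ∈ B, a' = b₁ * k' * b₂) →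
      ∃ p₁ ∈ P', ∃ p₂ ∈ P', a' = p₁ * a * p₂ := by
    rintro a a' w w' hw ⟨b₁, hb₁, kw, hkw, b₂, hb₂, e2⟩ ⟨c₁, hc₁, kw', hkw', c₂, hc₂, e3⟩
    obtain ⟨u, hu, u', hu', e1⟩ := D.double_coset cs h hw
    obtain ⟨ku, hku⟩ := exists_rp cs R.nsys u
    obtain ⟨ku', hku'⟩ := exists_rp cs R.nsys u'
    have hkuP : ku ∈ P' := by
      rw [hP', mem_PJ_iff_cell R]
      exact ⟨u, hu, cell_of_rp hku⟩
    have hkuP' : ku' ∈ P' := by
      rw [hP', mem_PJ_iff_cell R]
      exact ⟨u', hu', cell_of_rp hku'⟩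
    have ht : (ku * kw * ku')⁻¹ * kw' ∈ T := by
      have h3 := (hku.mul hkw).mul hku'
      rw [← e1] at h3
      exact h3.unique hkw'
    have htP : (ku * kw * ku')⁻¹ * kw' ∈ P' := hBP (hTB ht)
    refine ⟨c₁ * ku * b₁⁻¹, mul_mem (mul_mem (hBP hc₁) hkuP) (inv_mem (hBP hb₁)),
      b₂⁻¹ * ku' * ((ku * kw * ku')⁻¹ * kw') * c₂,
      mul_mem (mul_mem (mul_mem (inv_mem (hBP hb₂)) hkuP') htP) (hBP hc₂), ?_⟩
    rw [e2, e3]
    group
  have hex1 := exists_of_left (G := Y) (X := Y ⧸ P') (C := Y ⧸ B) π hπg (fun x => ⟨sec x, hsec x⟩)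
    (fun c d => Δ.δ c d = cs.simple k) (fun g c d => by rw [hiso]) (fun c d hcd => Δ.δ_symm_simple hcd) x₀
    (fun x => by
      induction x using QuotientGroup.induction_on with
      | _ a => exact ⟨a, by rw [hx₀]; show (QuotientGroup.mk (a * 1) : Y ⧸ P') = _; rw [mul_one]⟩)
    (fun a : Fin r => ((QuotientGroup.mk 1 : Y ⧸ P'), (QuotientGroup.mk (b a) : Y ⧸ P'))) ?_ cl
    (fun x => D.cl_lt _ (D.idx_lt cs h _)) ?_ ?_ ?_ α ?_ θ hθ P (fun i => by rw [hclx₀]; exact hP0 i) hP
  · obtain ⟨χ, h1, h2, h3, h4, h5, h6, h7⟩ := hex1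
    refine ⟨χ, h1, h2, h3, h4, fun a ha => ?_, h6, h7⟩
    rw [h5 a ha, hclx₀]
    rfl
  · intro x y
    induction x using QuotientGroup.induction_on with
    | _ a =>
    induction y using QuotientGroup.induction_on with
    | _ a' =>
    have h1 := (hcell a a' _).1 rfl
    set! w := Δ.δ (QuotientGroup.mk a) (QuotientGroup.mk a') with hw; rewrite [← hw] at h1
    let i : Fin r := ⟨D.cl (D.idx cs h w), D.cl_lt _ (D.idx_lt cs h w)⟩
    have h2 : D.cl (D.idx cs h (w₀ i)) = D.cl (D.idx cs h w) := hw₀ i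
    have h3 := hbw i
    obtain ⟨p₁, hp₁, p₂, hp₂, e1⟩ := hdbl (b i) (a⁻¹ * a') _ _ h2 (by rw [hB]; exact h3) h1
    refine ⟨i, a * p₁, ?_, ?_⟩
    · show (QuotientGroup.mk (a * p₁ * 1) : Y ⧸ P') = QuotientGroup.mk a
      rw [QuotientGroup.eq]
      have h4 : (a * p₁ * 1)⁻¹ * a = p₁⁻¹ := by group
      rw [h4]
      exact inv_mem hp₁
    · show (QuotientGroup.mk (a * p₁ * b i) : Y ⧸ P') = QuotientGroup.mk a'
      rw [QuotientGroup.eq]
      have h4 : (a * p₁ * b i)⁻¹ * a' = (b i)⁻¹ * p₁⁻¹ * (a⁻¹ * a') := by group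
      rw [h4, e1]
      have h5 : (b i)⁻¹ * p₁⁻¹ * (p₁ * b i * p₂) = p₂ := by group
      rw [h5]
      exact hp₂
  · intro g x hg
    have hgP : g ∈ P' := by
      have h1 : (QuotientGroup.mk (g * 1) : Y ⧸ P') = QuotientGroup.mk 1 := hg
      rw [mul_one, eq_comm, QuotientGroup.eq, inv_one, one_mul] at h1
      exact h1
    rw [← hsec x, ← hπg, hclc, hclc]
    have h1 : Δ.δ (g • sec x) e = Δ.δ (sec x) (g⁻¹ • e) := by
      rw [← hiso g⁻¹, inv_smul_smul]
    have h2 : π (g⁻¹ • e) = π e := by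
      rw [hπg, hx₀e, inv_smul_eq_iff, hg]
    obtain ⟨u, hu, hu'⟩ := exists_mul_of_mem Δ (hπ' _ _ h2) (sec x)
    have h3 : Δ.δ (sec x) (g⁻¹ • e) = Δ.δ (sec x) e * u⁻¹ := by
      rw [Δ.symm (g⁻¹ • e), hu', Δ.symm (sec x) e, _root_.mul_inv_rev, inv_inv]
    rw [h1, h3, D.idx_mul cs h (inv_mem hu)]
  · intro x y hxy
    induction x using QuotientGroup.induction_on with
    | _ a =>
    induction y using QuotientGroup.induction_on with
    | _ a' =>
    rw [← hπmk a, ← hπmk a', hclc, hclc] at hxy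
    have h1 := (hcell a 1 _).1 rfl
    have h2 := (hcell a' 1 _).1 rfl
    rw [mul_one] at h1 h2
    obtain ⟨p₁, hp₁, p₂, hp₂, e1⟩ := hdbl a⁻¹ a'⁻¹ _ _ hxy h1 h2
    refine ⟨p₂⁻¹, ?_, ?_⟩
    · show (QuotientGroup.mk (p₂⁻¹ * 1) : Y ⧸ P') = QuotientGroup.mk 1
      rw [QuotientGroup.eq]
      have h4 : (p₂⁻¹ * 1)⁻¹ * 1 = p₂ := by group
      rw [h4]
      exact hp₂
    · show (QuotientGroup.mk (p₂⁻¹ * a) : Y ⧸ P') = QuotientGroup.mk a'
      rw [QuotientGroup.eq]
      have h4 : a' = p₂⁻¹ * a * p₁⁻¹ := by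
        rw [← inv_inv a', e1]
        group
      have h5 : (p₂⁻¹ * a)⁻¹ * a' = p₁⁻¹ := by
        rw [h4]
        group
      rw [h5]
      exact inv_mem hp₁
  · intro a ha
    refine ⟨QuotientGroup.mk (b ⟨a, ha⟩)⁻¹, ?_⟩
    rw [← hπmk, hclc]
    have h2 : Δ.δ (QuotientGroup.mk (b ⟨a, ha⟩)⁻¹) e = w₀ ⟨a, ha⟩ := by
      rw [he, hcell, inv_inv, mul_one, hB]
      exact hbw ⟨a, ha⟩
    rw [h2, hw₀]
  · intro x F
    have h1 := sum_class Δ hq' h D π e hπ hπ' α hα (sec x) F
    rw [hsec x] at h1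
    simp only [hclc]
    exact h1

end Rgd

end Cfsg.Agent.H77.RK
end

-- part: H77/RK/Tab
section
/-!
# Tables of orbits of fundamental weights, checked by the kernel (helper77)

`Tab` : packed tables; `Tab.toWDat` : the structure `WDat` from a successful check.
-/

set_option autoImplicit false
set_option linter.unusedSectionVars false

namespace Cfsg.Agent.H77.RK

/-- `f i` for all `i < n` -/
noncomputable def allN (n : ℕ) (f : ℕ → Bool) : Bool := Nat.rec true (fun i acc => and (f i) acc) n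

theorem allN_iff {n : ℕ} {f : ℕ → Bool} : allN n f = true ↔ ∀ i < n, f i = true := by
  induction n with
  | zero => exact ⟨fun _ i hi => absurd hi (Nat.not_lt_zero i), fun _ => rfl⟩
  | succ n ih =>
    have h1 : allN (n + 1) f = (f n && allN n f) := rfl
    rw [h1, Bool.and_eq_true, ih]
    constructor
    · rintro ⟨h2, h3⟩ i hi
      rcases Nat.lt_succ_iff_lt_or_eq.1 hi with h4 | rfl
      · exact h3 i h4
      · exact h2
    · intro h2
      exact ⟨h2 n (Nat.lt_succ_self n), fun i hi => h2 i (Nat.lt_succ_of_lt hi)⟩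

/-- some `f i` for `i < n` -/
noncomputable def anyN (n : ℕ) (f : ℕ → Bool) : Bool := Nat.rec false (fun i acc => or (f i) acc) n

theorem anyN_iff {n : ℕ} {f : ℕ → Bool} : anyN n f = true ↔ ∃ i < n, f i = true := by
  induction n with
  | zero => exact ⟨fun h => absurd (show false = true from h) (by decide),
      fun ⟨i, hi, _⟩ => absurd hi (Nat.not_lt_zero i)⟩
  | succ n ih =>
    have h1 : anyN (n + 1) f = (f n || anyN n f) := rfl
    rw [h1, Bool.or_eq_true, ih]
    constructor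
    · rintro (h2 | ⟨i, hi, h3⟩)
      · exact ⟨n, Nat.lt_succ_self n, h2⟩
      · exact ⟨i, Nat.lt_succ_of_lt hi, h3⟩
    · rintro ⟨i, hi, h3⟩
      rcases Nat.lt_succ_iff_lt_or_eq.1 hi with h4 | rfl
      · exact Or.inr ⟨i, h4, h3⟩
      · exact Or.inl h3

/-- a digit of a packed table -/
def dg (N s w : ℕ) : ℕ := Nat.mod (Nat.shiftRight N s) w

/-- packed tables: `cd` the coordinates plus 8 (4 bits each), `nbT` the reflections (12 bits each), `clT` the classes
(4 bits), `eeT` the lengths (6 bits), `cn` minus the Cartan integers (2 bits) -/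
structure Tab where
  l : ℕ
  m : ℕ
  r : ℕ
  k : ℕ
  b0 : ℕ
  cn : ℕ
  cd : ℕ
  nbT : ℕ
  clT : ℕ
  eeT : ℕ
  root : List ℕ
  path : List (List ℕ)

namespace Tab

variable (t : Tab)

def d (z i : ℕ) : ℕ := dg t.cd (Nat.mul 4 (Nat.add (Nat.mul t.l z) i)) 16
def nb (z i : ℕ) : ℕ := dg t.nbT (Nat.mul 12 (Nat.add (Nat.mul t.l z) i)) 4096
def cl (z : ℕ) : ℕ := dg t.clT (Nat.mul 4 z) 16
def ee (z : ℕ) : ℕ := dg t.eeT (Nat.mul 6 z) 64
def cnN (i j : ℕ) : ℕ := dg t.cn (Nat.mul 2 (Nat.add (Nat.mul t.l i) j)) 4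
def rootN (a : ℕ) : ℕ := t.root.getD a 0

/-- the Cartan matrix -/
def A (i j : Fin t.l) : ℤ := if i = j then 2 else -(t.cnN i.val j.val : ℤ)

/-- the check of the entry `z` -/
noncomputable def chkZ (z : ℕ) : Bool :=
  and (allN t.l fun i =>
    and (Nat.blt (t.nb z i) t.m) (and (Nat.beq (t.nb (t.nb z i) i) z) (and
      (allN t.l fun j => cond (Nat.beq i j) (Nat.beq (Nat.add (t.d (t.nb z i) j) (t.d z i)) 16)
        (Nat.beq (Nat.add (t.d (t.nb z i) j) (Nat.mul 8 (t.cnN i j)))
          (Nat.add (t.d z j) (Nat.mul (t.cnN i j) (t.d z i)))))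
      (or (Nat.beq i t.k) (and (Nat.beq (t.cl (t.nb z i)) (t.cl z)) (or (Nat.ble (t.d z i) 8)
        (Nat.beq (t.ee (t.nb z i)) (Nat.succ (t.ee z)))))))))
  (and (Nat.blt (t.cl z) t.r) (cond (Nat.beq (t.ee z) 0) (Nat.beq z (t.rootN (t.cl z)))
    (anyN t.l fun i => and (not (Nat.beq i t.k)) (Nat.blt (t.d z i) 8))))

/-- the check of the class `a` -/
noncomputable def chkA (a : ℕ) : Bool :=
  and (Nat.beq (t.cl (t.rootN a)) a) (and (Nat.beq ((t.path.getD a []).foldl t.nb t.b0) (t.rootN a))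
    (and ((t.path.getD a []).all fun i => Nat.blt i t.l)
      (allN t.r fun b => or (Nat.beq a b) (anyN t.l fun i => not (Nat.beq (t.d (t.rootN a) i) (t.d (t.rootN b) i))))))

/-- the check of the base entry -/
noncomputable def chkB : Bool :=
  and (Nat.blt t.b0 t.m) (and (Nat.blt t.k t.l)
    (allN t.l fun i => Nat.beq (t.d t.b0 i) (cond (Nat.beq i t.k) 9 8)))

theorem nat_beq {a b : ℕ} : Nat.beq a b = true ↔ a = b := Nat.beq_eq ▸ Iff.rfl

theorem nat_blt {a b : ℕ} : Nat.blt a b = true ↔ a < b := by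
  unfold Nat.blt
  rw [Nat.ble_eq]
  exact Iff.rfl

theorem nat_ble {a b : ℕ} : Nat.ble a b = true ↔ a ≤ b := by rw [Nat.ble_eq]

/-- `k n`, the argument is evaluated first -/
noncomputable def frcN (n : ℕ) (k : ℕ → Bool) : Bool := Nat.rec (k 0) (fun m _ => k (Nat.succ m)) n

theorem frcN_eq (n : ℕ) (k : ℕ → Bool) : frcN n k = k n := by cases n <;> rfl

/-- the values `f 0, …, f (n - 1)` as digits -/
private noncomputable def pkN (f : ℕ → ℕ) (n : ℕ) : ℕ := Nat.rec 0 (fun j acc => Nat.add (Nat.mul acc 256) (f j)) n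

private theorem pkN_lin (f g h : ℕ → ℕ) (a b : ℕ) : ∀ n,
    pkN f n + a * pkN g n + b * pkN h n = pkN (fun j => f j + a * g j + b * h j) n
  | 0 => rfl
  | n + 1 => by
    show (pkN f n * 256 + f n) + a * (pkN g n * 256 + g n) + b * (pkN h n * 256 + h n) =
      pkN (fun j => f j + a * g j + b * h j) n * 256 + (f n + a * g n + b * h n)
    rw [← pkN_lin f g h a b n]
    ring

private theorem pkN_inj {f g : ℕ → ℕ} (hf : ∀ j, f j < 256) (hg : ∀ j, g j < 256) : ∀ n, pkN f n = pkN g n →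
    ∀ j < n, f j = g j
  | 0, _, _, h => absurd h (Nat.not_lt_zero _)
  | n + 1, h, j, hj => by
    have h1 : pkN f n * 256 + f n = pkN g n * 256 + g n := h
    have h2 := hf n
    have h3 := hg n
    rcases Nat.lt_succ_iff_lt_or_eq.1 hj with h4 | rfl
    · exact pkN_inj hf hg n (by omega) j h4
    · omega

private noncomputable def cnR (i : ℕ) : ℕ := pkN (fun j => cond (Nat.beq i j) 0 (t.cnN i j)) t.l
private noncomputable def e2R (i : ℕ) : ℕ := pkN (fun j => cond (Nat.beq i j) 2 0) t.l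
private noncomputable def dR (z : ℕ) : ℕ := pkN (t.d z) t.l

/-- the check of the entry `z`, the coordinates of a weight in one number -/
noncomputable def chkZF (z : ℕ) : Bool :=
  and (allN t.l fun i => frcN (t.nb z i) fun n =>
    and (Nat.blt n t.m) (and (Nat.beq (t.nb n i) z) (and
      (Nat.beq (Nat.add (Nat.add (dR t n) (Nat.mul 8 (cnR t i))) (Nat.mul (t.d z i) (e2R t i)))
        (Nat.add (Nat.add (dR t z) (Nat.mul (t.d z i) (cnR t i))) (Nat.mul 8 (e2R t i))))
      (or (Nat.beq i t.k) (and (Nat.beq (t.cl n) (t.cl z)) (or (Nat.ble (t.d z i) 8)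
        (Nat.beq (t.ee n) (Nat.succ (t.ee z)))))))))
  (and (Nat.blt (t.cl z) t.r) (cond (Nat.beq (t.ee z) 0) (Nat.beq z (t.rootN (t.cl z)))
    (anyN t.l fun i => and (not (Nat.beq i t.k)) (Nat.blt (t.d z i) 8))))

variable {t} in
theorem chkZ_of_F (h : allN t.m (fun z => frcN z t.chkZF) = true) : ∀ z < t.m, t.chkZ z = true := by
  intro z hz
  have h1 := allN_iff.1 h z hz
  rw [frcN_eq] at h1
  unfold chkZF at h1
  unfold chkZ
  rw [Bool.and_eq_true, allN_iff] at h1 ⊢
  refine ⟨fun i hi => ?_, h1.2⟩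
  have h2 := h1.1 i hi
  rw [frcN_eq, Bool.and_eq_true, Bool.and_eq_true, Bool.and_eq_true] at h2
  rw [Bool.and_eq_true, Bool.and_eq_true, Bool.and_eq_true, allN_iff]
  refine ⟨h2.1, h2.2.1, fun j hj => ?_, h2.2.2.2⟩
  have hd : ∀ a b, t.d a b < 16 := fun a b => Nat.mod_lt _ (by decide)
  have hc : ∀ a b, t.cnN a b < 4 := fun a b => Nat.mod_lt _ (by decide)
  have h3 : dR t (t.nb z i) + 8 * cnR t i + t.d z i * e2R t i = dR t z + t.d z i * cnR t i + 8 * e2R t i :=
    nat_beq.1 h2.2.2.1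
  unfold dR cnR e2R at h3
  rw [pkN_lin, pkN_lin] at h3
  have h5 := hd z i
  have h4 := pkN_inj (fun a => by
    have := hd (t.nb z i) a
    have := hc i a
    cases Nat.beq i a
    · show _ + 8 * t.cnN i a + _ * 0 < 256
      omega
    · show _ + 8 * 0 + _ * 2 < 256
      omega) (fun a => by
    have := hd z a
    have := Nat.mul_le_mul h5.le (hc i a).le
    cases Nat.beq i a
    · show _ + t.d z i * t.cnN i a + 8 * 0 < 256
      omega
    · show _ + _ * 0 + 8 * 2 < 256
      omega) _ h3 j hj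
  cases e : Nat.beq i j
  · rw [e] at h4
    have h6 : t.d (t.nb z i) j + 8 * t.cnN i j + t.d z i * 0 = t.d z j + t.d z i * t.cnN i j + 8 * 0 := h4
    refine nat_beq.2 ?_
    show t.d (t.nb z i) j + 8 * t.cnN i j = t.d z j + t.cnN i j * t.d z i
    rw [Nat.mul_comm (t.cnN i j)]
    omega
  · rw [e] at h4
    have h6 : t.d (t.nb z i) j + 8 * 0 + t.d z i * 2 = t.d z j + t.d z i * 0 + 8 * 2 := h4
    have h7 := nat_beq.1 e
    subst h7
    refine nat_beq.2 ?_
    show t.d (t.nb z i) i + t.d z i = 16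
    omega

variable {t} in
/-- **the table is correct** -/
noncomputable def toWDat (hk : t.k < t.l) (hB : t.chkB = true) (hA : ∀ a < t.r, t.chkA a = true)
    (hZ : ∀ z < t.m, t.chkZ z = true) : WDat t.A (⟨t.k, hk⟩ : Fin t.l) t.m t.r where
  wt z i := (t.d z i.val : ℤ) - 8
  nb z i := t.nb z i.val
  cl := t.cl
  e := t.ee
  b0 := t.b0
  root := t.rootN
  path a := if h : t.chkA a = true then
      (t.path.getD a []).pmap (fun i hi => (⟨i, hi⟩ : Fin t.l)) (by
        intro i hi
        unfold chkA at h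
        simp only [Bool.and_eq_true, List.all_eq_true] at h
        exact nat_blt.1 (h.2.2.1 i hi))
    else []
  b0_lt := by
    unfold chkB at hB
    simp only [Bool.and_eq_true] at hB
    exact nat_blt.1 hB.1
  nb_lt z hz i := by
    have h := hZ z hz
    unfold chkZ at h
    simp only [Bool.and_eq_true, allN_iff] at h
    exact nat_blt.1 (h.1 i.val i.2).1
  cl_lt z hz := by
    have h := hZ z hz
    unfold chkZ at h
    simp only [Bool.and_eq_true, allN_iff] at h
    exact nat_blt.1 h.2.1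
  wt_b0 i hi := by
    unfold chkB at hB
    simp only [Bool.and_eq_true, allN_iff] at hB
    have h1 := nat_beq.1 (hB.2.2 i.val i.2)
    have h2 : Nat.beq i.val t.k = false := by
      rw [Bool.eq_false_iff]
      intro h3
      exact hi (Fin.ext (nat_beq.1 h3))
    rw [h2] at h1
    rw [h1]
    rfl
  wt_b0' := by
    unfold chkB at hB
    simp only [Bool.and_eq_true, allN_iff] at hB
    have h1 := nat_beq.1 (hB.2.2 t.k hk)
    rw [nat_beq.2 rfl] at h1
    rw [h1]
    rfl
  wt_nb z hz i j := by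
    have h := hZ z hz
    unfold chkZ at h
    simp only [Bool.and_eq_true, allN_iff] at h
    have h1 := (h.1 i.val i.2).2.2.1 j.val j.2
    unfold A
    by_cases hij : i = j
    · subst hij
      rw [nat_beq.2 rfl] at h1
      have h2 := nat_beq.1 h1
      have h3 : t.d (t.nb z i.val) i.val + t.d z i.val = 16 := h2
      rw [if_pos rfl]
      omega
    · have h4 : Nat.beq i.val j.val = false := by
        rw [Bool.eq_false_iff]
        intro h3
        exact hij (Fin.ext (nat_beq.1 h3))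
      rw [h4] at h1
      have h2 : t.d (t.nb z i.val) j.val + 8 * t.cnN i.val j.val =
        t.d z j.val + t.cnN i.val j.val * t.d z i.val := nat_beq.1 h1
      rw [if_neg hij]
      have h3 : ((t.d (t.nb z i.val) j.val : ℕ) : ℤ) + 8 * (t.cnN i.val j.val : ℤ) =
        (t.d z j.val : ℤ) + (t.cnN i.val j.val : ℤ) * (t.d z i.val : ℤ) := by exact_mod_cast h2
      linear_combination h3
  nb_nb z hz i := by
    have h := hZ z hz
    unfold chkZ at h
    simp only [Bool.and_eq_true, allN_iff] at h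
    exact nat_beq.1 (h.1 i.val i.2).2.1
  cl_nb z hz i hi := by
    have h := hZ z hz
    unfold chkZ at h
    simp only [Bool.and_eq_true, allN_iff, Bool.or_eq_true] at h
    rcases (h.1 i.val i.2).2.2.2 with h1 | h1
    · exact absurd (Fin.ext (nat_beq.1 h1)) hi
    · exact nat_beq.1 h1.1
  e_nb z hz i hi hp := by
    have h := hZ z hz
    unfold chkZ at h
    simp only [Bool.and_eq_true, allN_iff, Bool.or_eq_true] at h
    rcases (h.1 i.val i.2).2.2.2 with h1 | h1
    · exact absurd (Fin.ext (nat_beq.1 h1)) hi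
    · rcases h1.2 with h2 | h2
      · have h3 := nat_ble.1 h2
        omega
      · exact nat_beq.1 h2
  desc z hz he := by
    have h := hZ z hz
    unfold chkZ at h
    simp only [Bool.and_eq_true, allN_iff] at h
    have h1 := h.2.2
    have h2 : Nat.beq (t.ee z) 0 = false := by
      rw [Bool.eq_false_iff]
      intro h3
      exact he (nat_beq.1 h3)
    rw [h2] at h1
    obtain ⟨i, hi, h3⟩ := anyN_iff.1 h1
    rw [Bool.and_eq_true, Bool.not_eq_true', nat_blt] at h3
    refine ⟨⟨i, hi⟩, fun h4 => ?_, by have := h3.2; dsimp only; omega⟩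
    have h5 : i = t.k := congrArg Fin.val h4
    rw [nat_beq.2 h5] at h3
    exact absurd h3.1 (by decide)
  root_eq z hz he := by
    have h := hZ z hz
    unfold chkZ at h
    simp only [Bool.and_eq_true, allN_iff] at h
    have h1 := h.2.2
    rw [nat_beq.2 he] at h1
    exact nat_beq.1 h1
  root_inj a ha b hb hab := by
    have h := hA a ha
    unfold chkA at h
    simp only [Bool.and_eq_true, allN_iff, Bool.or_eq_true, anyN_iff] at h
    rcases h.2.2.2 b hb with h1 | ⟨i, hi, h1⟩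
    · exact nat_beq.1 h1
    · exfalso
      have h2 := hab ⟨i, hi⟩
      have h3 : t.d (t.rootN a) i = t.d (t.rootN b) i := by
        dsimp only at h2
        omega
      rw [nat_beq.2 h3] at h1
      exact absurd h1 (by decide)
  path_eq a ha := by
    have h := hA a ha
    rw [dif_pos h]
    have h' := h
    unfold chkA at h
    simp only [Bool.and_eq_true] at h
    refine Eq.trans ?_ (nat_beq.1 h.2.1)
    have key : ∀ (L : List ℕ) (hL : ∀ i ∈ L, i < t.l) (z : ℕ),
        (L.pmap (fun i hi => (⟨i, hi⟩ : Fin t.l)) hL).foldl (fun z i => t.nb z i.val) z = L.foldl t.nb z := by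
      intro L
      induction L with
      | nil => exact fun _ _ => rfl
      | cons i L ih =>
        intro hL z
        rw [List.pmap_cons, List.foldl_cons, List.foldl_cons, ih]
    exact key _ _ _
  cl_root a ha := by
    have h := hA a ha
    unfold chkA at h
    simp only [Bool.and_eq_true] at h
    exact nat_beq.1 h.1

end Tab

end Cfsg.Agent.H77.RK
end

-- part: H77/RK/Pol
section
/-!
# Integer polynomials as lists, with identities checked at `2 ^ 64` (helper77)
-/

set_option autoImplicit false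
set_option linter.unusedSectionVars false

namespace Cfsg.Agent.H77.RK

/-- the value at `q` -/
def evL {R : Type*} [CommRing R] (q : R) : List ℤ → R
  | [] => 0
  | c :: l => (c : R) + q * evL q l

/-- the sum of the absolute values of the coefficients -/
def n1 : List ℤ → ℕ
  | [] => 0
  | c :: l => c.natAbs + n1 l

def addL : List ℤ → List ℤ → List ℤ
  | [], m => m
  | c :: l, [] => c :: l
  | c :: l, d :: m => (c + d) :: addL l m

def smulL (c : ℤ) : List ℤ → List ℤ
  | [] => []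
  | d :: l => (c * d) :: smulL c l

def mulL : List ℤ → List ℤ → List ℤ
  | [], _ => []
  | c :: l, m => addL (smulL c m) (0 :: mulL l m)

section

variable {R : Type*} [CommRing R] (q : R)

theorem evL_nil : evL q [] = 0 := rfl
theorem evL_cons (c : ℤ) (l : List ℤ) : evL q (c :: l) = c + q * evL q l := rfl

theorem evL_addL (l m : List ℤ) : evL q (addL l m) = evL q l + evL q m := by
  induction l generalizing m with
  | nil => simp [addL, evL]
  | cons c l ih =>
    cases m with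
    | nil => simp [addL, evL]
    | cons d m =>
      simp only [addL, evL, ih, Int.cast_add]
      ring

theorem evL_smulL (c : ℤ) (l : List ℤ) : evL q (smulL c l) = c * evL q l := by
  induction l with
  | nil => simp [smulL, evL]
  | cons d l ih =>
    simp only [smulL, evL, ih, Int.cast_mul]
    ring

theorem evL_mulL (l m : List ℤ) : evL q (mulL l m) = evL q l * evL q m := by
  induction l with
  | nil => simp [mulL, evL]
  | cons c l ih =>
    simp only [mulL, evL, evL_addL, evL_smulL, ih, Int.cast_zero]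
    ring

theorem n1_addL (l m : List ℤ) : n1 (addL l m) ≤ n1 l + n1 m := by
  induction l generalizing m with
  | nil => simp [addL, n1]
  | cons c l ih =>
    cases m with
    | nil => simp [addL, n1]
    | cons d m =>
      simp only [addL, n1]
      have h1 := ih m
      have h2 := Int.natAbs_add_le c d
      omega

theorem n1_smulL (c : ℤ) (l : List ℤ) : n1 (smulL c l) = c.natAbs * n1 l := by
  induction l with
  | nil => simp [smulL, n1]
  | cons d l ih =>
    simp only [smulL, n1, ih, Int.natAbs_mul]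
    ring

theorem n1_mulL (l m : List ℤ) : n1 (mulL l m) ≤ n1 l * n1 m := by
  induction l with
  | nil => simp [mulL, n1]
  | cons c l ih =>
    simp only [mulL, n1]
    have h1 := n1_addL (smulL c m) (0 :: mulL l m)
    rw [n1_smulL] at h1
    have h2 : n1 (0 :: mulL l m) = n1 (mulL l m) := by simp [n1]
    rw [h2] at h1
    rw [add_mul]
    omega

/-- a polynomial with small coefficients which vanishes at a large integer is zero -/
theorem evL_eq_zero {B : ℕ} (l : List ℤ) (h1 : n1 l < B) (h : evL (B : ℤ) l = 0) : evL q l = 0 := by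
  induction l with
  | nil => rfl
  | cons c l ih =>
    simp only [n1] at h1
    simp only [evL, Int.cast_id] at h
    have hc : c = 0 := by
      have h2 : (B : ℤ) ∣ c := ⟨-evL (B : ℤ) l, by linear_combination h⟩
      by_contra hc
      have h3 := Int.natAbs_dvd_natAbs.2 h2
      rw [Int.natAbs_natCast] at h3
      have h4 := Nat.le_of_dvd (Int.natAbs_pos.2 hc) h3
      omega
    subst hc
    rw [zero_add] at h
    have hB : (B : ℤ) ≠ 0 := by
      have : 0 < B := by omega
      exact_mod_cast this.ne'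
    rw [evL_cons, ih (by omega) ((mul_eq_zero.1 h).resolve_left hB), Int.cast_zero, mul_zero, add_zero]

end

/-- all coefficients are nonnegative and the constant coefficient is positive -/
def posL : List ℤ → Bool
  | [] => false
  | c :: l => decide (0 < c) && l.all fun d => decide (0 ≤ d)

theorem nonneg_of_all {q : ℚ} (hq : 0 ≤ q) (l : List ℤ) (h : (l.all fun d => decide (0 ≤ d)) = true) : 0 ≤ evL q l := by
  induction l with
  | nil => exact le_rfl
  | cons c l ih =>
    rw [List.all_cons, Bool.and_eq_true, decide_eq_true_eq] at h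
    rw [evL_cons]
    have h1 : (0 : ℚ) ≤ c := by exact_mod_cast h.1
    exact add_nonneg h1 (mul_nonneg hq (ih h.2))

theorem pos_of_posL {q : ℚ} (hq : 0 ≤ q) (l : List ℤ) (h : posL l = true) : 0 < evL q l := by
  cases l with
  | nil => exact absurd (show false = true from h) (by decide)
  | cons c l =>
    unfold posL at h
    rw [Bool.and_eq_true, decide_eq_true_eq] at h
    rw [evL_cons]
    have h1 : (0 : ℚ) < c := by exact_mod_cast h.1
    exact add_pos_of_pos_of_nonneg h1 (mul_nonneg hq (nonneg_of_all hq l h.2))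

/-- the polynomial in `q - 2` -/
def shL : List ℤ → List ℤ
  | [] => []
  | c :: l => addL [c] (addL (smulL 2 (shL l)) (0 :: shL l))

theorem evL_shL {R : Type*} [CommRing R] (q : R) (l : List ℤ) : evL q (shL l) = evL (q + 2) l := by
  induction l with
  | nil => rfl
  | cons c l ih =>
    simp only [shL, evL_addL, evL_smulL, evL_cons, evL_nil, ih, Int.cast_zero, Int.cast_ofNat]
    ring

theorem lt_of_shL {q : ℚ} (hq : 2 ≤ q) (l m : List ℤ) (h : posL (shL (addL m (smulL (-1) l))) = true) :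
    evL q l < evL q m := by
  have h1 := pos_of_posL (q := q - 2) (by linarith) _ h
  rw [evL_shL, sub_add_cancel, evL_addL, evL_smulL] at h1
  push_cast at h1
  linarith

/-- Horner's scheme at `2`; the value is `-1` as soon as a partial value is negative -/
noncomputable def lagV (l : List ℤ) : ℤ :=
  List.rec 0 (fun c _ ih => Int.rec (fun n => Int.add c (Int.ofNat (Nat.mul 2 n))) (fun _ => Int.negSucc 0) ih) l

private theorem addL_nonneg : ∀ l m : List ℤ, (∀ d ∈ l, 0 ≤ d) → (∀ d ∈ m, 0 ≤ d) → ∀ d ∈ addL l m, 0 ≤ d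
  | [], _, _, h => h
  | _ :: _, [], h, _ => h
  | c :: l, e :: m, h1, h2 => fun d hd => by
    rcases List.mem_cons.1 (show d ∈ (c + e) :: addL l m from hd) with rfl | hd
    · exact add_nonneg (h1 c List.mem_cons_self) (h2 e List.mem_cons_self)
    · exact addL_nonneg l m (fun x hx => h1 x (List.mem_cons_of_mem _ hx)) (fun x hx => h2 x (List.mem_cons_of_mem _ hx)) d hd

private theorem smulL_nonneg : ∀ l : List ℤ, (∀ d ∈ l, 0 ≤ d) → ∀ d ∈ smulL 2 l, 0 ≤ d
  | [], h => h
  | c :: l, h => fun d hd => by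
    rcases List.mem_cons.1 (show d ∈ (2 * c) :: smulL 2 l from hd) with rfl | hd
    · exact mul_nonneg zero_le_two (h c List.mem_cons_self)
    · exact smulL_nonneg l (fun x hx => h x (List.mem_cons_of_mem _ hx)) d hd

private theorem lagV_spec : ∀ l : List ℤ, 0 ≤ lagV l → (∀ d ∈ shL l, 0 ≤ d) ∧ (shL l).headD 0 = lagV l
  | [], _ => ⟨fun _ h => absurd h List.not_mem_nil, rfl⟩
  | c :: l, h => by
    have ih := lagV_spec l
    have e : lagV (c :: l) = (Int.rec (fun n => Int.add c (Int.ofNat (Nat.mul 2 n))) (fun _ => Int.negSucc 0) (lagV l) : ℤ) :=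
      rfl
    have e2 : shL (c :: l) = addL [c] (addL (smulL 2 (shL l)) (0 :: shL l)) := rfl
    rw [e] at h ⊢
    rw [e2]
    generalize lagV l = v at ih h
    generalize shL l = s at ih
    cases v with
    | negSucc n => exact absurd h (by show ¬ (0 : ℤ) ≤ Int.negSucc 0; decide)
    | ofNat n =>
      obtain ⟨h1, h2⟩ := ih (Int.natCast_nonneg n)
      have h3 : (0 : ℤ) ≤ c + 2 * (n : ℤ) := h
      show _ ∧ _ = c + 2 * (n : ℤ)
      cases s with
      | nil =>
        have h4 : (0 : ℤ) = n := h2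
        rw [← h4] at h3 ⊢
        exact ⟨fun d hd => by rw [List.mem_singleton.1 (show d ∈ [c + 0] from hd)]; exact h3, rfl⟩
      | cons t s =>
        have h4 : t = n := h2
        subst h4
        refine ⟨fun d hd => ?_, show c + (2 * (n : ℤ) + 0) = _ by rw [add_zero]⟩
        rcases List.mem_cons.1 (show d ∈ (c + (2 * (n : ℤ) + 0)) :: addL (smulL 2 s) ((n : ℤ) :: s) from hd) with rfl | hd
        · rwa [add_zero]
        · exact addL_nonneg _ _ (smulL_nonneg s fun x hx => h1 x (List.mem_cons_of_mem _ hx)) h1 d hd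

/-- all partial values of Horner's scheme at `2` are non-negative, the last one is positive -/
noncomputable def lagB (l : List ℤ) : Bool := Int.rec (fun n => Nat.blt 0 n) (fun _ => false) (lagV l)

theorem posL_of_lagB {l : List ℤ} (h : lagB l = true) : posL (shL l) = true := by
  have h1 := lagV_spec l
  unfold lagB at h
  generalize lagV l = v at h h1
  generalize shL l = s at h1
  cases v with
  | negSucc n => cases h
  | ofNat n =>
    obtain ⟨h2, h3⟩ := h1 (Int.natCast_nonneg n)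
    have h4 : 0 < n := Tab.nat_blt.1 h
    cases s with
    | nil =>
      have h5 : (0 : ℤ) = n := h3
      omega
    | cons t s =>
      have h5 : t = n := h3
      show (decide (0 < t) && s.all fun d => decide (0 ≤ d)) = true
      rw [Bool.and_eq_true, List.all_eq_true]
      exact ⟨decide_eq_true (by omega), fun x hx => decide_eq_true (h2 x (List.mem_cons_of_mem _ hx))⟩

/-- the base -/
def KB : ℤ := 18446744073709551616

theorem KB_eq : KB = ((2 ^ 64 : ℕ) : ℤ) := by norm_num [KB]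

/-- identities checked at `2 ^ 64` -/
theorem mul_eq_mul_of {R : Type*} [CommRing R] (q : R) (a b c d : List ℤ)
    (h1 : n1 a * n1 b + n1 c * n1 d < 2 ^ 64)
    (h : evL KB a * evL KB b = evL KB c * evL KB d) :
    evL q a * evL q b = evL q c * evL q d := by
  rw [KB_eq] at h
  have h2 := evL_eq_zero q (B := 2 ^ 64) (addL (mulL a b) (smulL (-1) (mulL c d))) (by
    have h3 := n1_addL (mulL a b) (smulL (-1) (mulL c d))
    rw [n1_smulL] at h3
    have h4 := n1_mulL a b
    have h5 := n1_mulL c d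
    simp only [Int.natAbs_neg, Int.natAbs_one, one_mul] at h3
    omega) (by
    rw [evL_addL, evL_smulL, evL_mulL, evL_mulL, h]
    push_cast
    ring)
  rw [evL_addL, evL_smulL, evL_mulL, evL_mulL] at h2
  push_cast at h2
  linear_combination h2

/-- `∑_{a < n} P_a B_a` -/
def dotL (P B : ℕ → List ℤ) : ℕ → List ℤ
  | 0 => []
  | n + 1 => addL (dotL P B n) (mulL (P n) (B n))

theorem n1_dotL (P B : ℕ → List ℤ) (n : ℕ) : n1 (dotL P B n) ≤ ∑ a ∈ Finset.range n, n1 (P a) * n1 (B a) := by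
  induction n with
  | zero => simp [dotL, n1]
  | succ n ih =>
    rw [Finset.sum_range_succ, dotL]
    have h3 := n1_addL (dotL P B n) (mulL (P n) (B n))
    have h4 := n1_mulL (P n) (B n)
    omega

theorem evL_dotL {R : Type*} [CommRing R] (q : R) (P B : ℕ → List ℤ) (n : ℕ) :
    evL q (dotL P B n) = ∑ a ∈ Finset.range n, evL q (P a) * evL q (B a) := by
  induction n with
  | zero => simp [dotL, evL]
  | succ n ih => rw [Finset.sum_range_succ, dotL, evL_addL, evL_mulL, ih]

/-- `∑ P_a B_a = c d` -/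
theorem sum_mul_eq_of {R : Type*} [CommRing R] (q : R) (n : ℕ) (P B : ℕ → List ℤ) (c d : List ℤ)
    (h1 : ∑ a ∈ Finset.range n, n1 (P a) * n1 (B a) + n1 c * n1 d < 2 ^ 64)
    (h : ∑ a ∈ Finset.range n, evL KB (P a) * evL KB (B a) = evL KB c * evL KB d) :
    ∑ a ∈ Finset.range n, evL q (P a) * evL q (B a) = evL q c * evL q d := by
  rw [KB_eq] at h
  have h2 := evL_eq_zero q (B := 2 ^ 64) (addL (dotL P B n) (smulL (-1) (mulL c d))) (by
    have h3 := n1_addL (dotL P B n) (smulL (-1) (mulL c d))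
    rw [n1_smulL] at h3
    have h4 := n1_dotL P B n
    have h5 := n1_mulL c d
    simp only [Int.natAbs_neg, Int.natAbs_one, one_mul] at h3
    omega) (by
    rw [evL_addL, evL_smulL, evL_mulL, evL_dotL, h]
    push_cast
    ring)
  rw [evL_addL, evL_smulL, evL_mulL, evL_dotL] at h2
  push_cast at h2
  linear_combination h2

end Cfsg.Agent.H77.RK
end

-- part: H77/RK/Cert
section
/-!
# Certificates for the rationality of the constituents of `1_P^G` (helper77)

`Cert` : a table (`Tab`), the run lengths of the table, and polynomials: `Bp a b` the number of neighbours in the class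
`b` of a point in the class `a`, `Pp i` the left eigenvectors, `th i` the eigenvalues. `Cert.exists_eigen` : the
hypotheses of `rat_rgd` for all `q ≥ 2`.
-/

set_option autoImplicit false
set_option linter.unusedSectionVars false

namespace Cfsg.Agent.H77.RK

structure Cert extends Tab where
  runs : List (ℕ × ℕ × ℕ × ℕ × ℕ)
  Bp : List (List (List ℤ))
  Pp : List (List (List ℤ))
  th : List (List ℤ)
  lam : List ℤ

/-- `c q ^ e` -/
def monL (c : ℤ) : ℕ → List ℤ
  | 0 => [c]
  | n + 1 => 0 :: monL c n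

theorem evL_monL {R : Type*} [CommRing R] (q : R) (c : ℤ) (n : ℕ) : evL q (monL c n) = (c : R) * q ^ n := by
  induction n with
  | zero => simp [monL, evL]
  | succ n ih =>
    rw [monL, evL_cons, ih, pow_succ]
    push_cast
    ring

/-- the sum of `f i` for `i < n` -/
noncomputable def sumZ (n : ℕ) (f : ℕ → ℤ) : ℤ := Nat.rec 0 (fun i acc => Int.add (f i) acc) n

theorem sumZ_eq (n : ℕ) (f : ℕ → ℤ) : sumZ n f = ∑ i ∈ Finset.range n, f i := by
  induction n with
  | zero => rfl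
  | succ n ih =>
    rw [Finset.sum_range_succ, ← ih, add_comm (_ : _) (f n)]
    rfl

/-- the sum of `f i` for `i < n` -/
noncomputable def sumN (n : ℕ) (f : ℕ → ℕ) : ℕ := Nat.rec 0 (fun i acc => Nat.add (f i) acc) n

theorem sumN_eq (n : ℕ) (f : ℕ → ℕ) : sumN n f = ∑ i ∈ Finset.range n, f i := by
  induction n with
  | zero => rfl
  | succ n ih =>
    rw [Finset.sum_range_succ, ← ih, add_comm (_ : _) (f n)]
    rfl

/-- the coefficient polynomial of a run -/
def termL (b : ℕ) (x : ℕ × ℕ × ℕ × ℕ × ℕ) : List ℤ :=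
  if x.2.2.1 = 2 then (if x.2.1 = b then monL x.2.2.2.2 (x.2.2.2.1 + 1) else [])
  else if x.2.2.1 = 1 then (if x.1 = b then monL x.2.2.2.2 (x.2.2.2.1 + 1) else [])
  else addL (if x.2.1 = b then monL x.2.2.2.2 x.2.2.2.1 else [])
    (if x.1 = b then addL (monL x.2.2.2.2 (x.2.2.2.1 + 1)) (monL (-(x.2.2.2.2 : ℤ)) x.2.2.2.1) else [])

/-- the neighbour operator -/
def MPl (a b : ℕ) : List (ℕ × ℕ × ℕ × ℕ × ℕ) → List ℤ
  | [] => []
  | x :: l => if x.1 = a then addL (termL b x) (MPl a b l) else MPl a b l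

/-- the size of a class -/
def NPl (a : ℕ) : List (ℕ × ℕ × ℕ × ℕ × ℕ) → List ℤ
  | [] => []
  | x :: l => if x.1 = a then addL (monL x.2.2.2.2 x.2.2.2.1) (NPl a l) else NPl a l

/-- all classes in the runs are less than `r` -/
def chkL (r : ℕ) : List (ℕ × ℕ × ℕ × ℕ × ℕ) → Bool
  | [] => true
  | x :: l => and (Nat.blt x.1 r) (and (Nat.blt x.2.1 r) (chkL r l))

namespace Cert

variable (c : Cert)

def sg (z : ℕ) : ℕ := cond (Nat.blt (c.d z c.k) 8) 0 (cond (Nat.beq (c.d z c.k) 8) 1 2)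

/-- the table is the concatenation of the runs -/
noncomputable def chkR : List (ℕ × ℕ × ℕ × ℕ × ℕ) → ℕ → Bool
  | [], s => Nat.beq s c.m
  | x :: l, s => and (allN x.2.2.2.2 fun i => and (Nat.beq (c.cl (Nat.add s i)) x.1)
      (and (Nat.beq (c.cl (c.nb (Nat.add s i) c.k)) x.2.1)
        (and (Nat.beq (c.sg (Nat.add s i)) x.2.2.1) (Nat.beq (c.ee (Nat.add s i)) x.2.2.2.1))))
      (chkR l (Nat.add s x.2.2.2.2))

def NP (a : ℕ) : List ℤ := NPl a c.runs
def MP (a b : ℕ) : List ℤ := MPl a b c.runs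
def B (a b : ℕ) : List ℤ := (c.Bp.getD a []).getD b []
def P (i a : ℕ) : List ℤ := (c.Pp.getD i []).getD a []
def T (i : ℕ) : List ℤ := c.th.getD i []

/-- the check of the polynomials -/
noncomputable def chkP : Bool :=
  and (allN c.r fun a => and (posL (c.NP a)) (allN c.r fun b =>
    and (Nat.blt (Nat.add (Nat.mul (n1 (c.B a b)) (n1 (c.NP a))) (Nat.mul (n1 c.lam) (n1 (c.MP a b))))
        18446744073709551616)
      (decide (Int.mul (evL KB (c.B a b)) (evL KB (c.NP a)) = Int.mul (evL KB c.lam) (evL KB (c.MP a b))))))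
  (and (allN c.r fun i => and (decide (c.P i 0 = [1])) (allN c.r fun b =>
    and (Nat.blt (Nat.add (sumN c.r fun a => Nat.mul (n1 (c.P i a)) (n1 (c.B a b)))
        (Nat.mul (n1 (c.T i)) (n1 (c.P i b)))) 18446744073709551616)
      (decide (sumZ c.r (fun a => Int.mul (evL KB (c.P i a)) (evL KB (c.B a b))) =
        Int.mul (evL KB (c.T i)) (evL KB (c.P i b))))))
  (and (posL c.lam) (and (Nat.blt 0 c.r) (and (chkL c.r c.runs) (allN c.r fun i => or (Nat.ble c.r (i + 1))
    (posL (shL (addL (c.T (i + 1)) (smulL (-1) (c.T i))))))))))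

/-- sums over the table -/
theorem sum_runs {R : Type*} [CommRing R] (g : ℕ → ℕ → ℕ → ℕ → R) : ∀ (l : List (ℕ × ℕ × ℕ × ℕ × ℕ)) (s : ℕ),
    c.chkR l s = true → s ≤ c.m ∧ ∑ z ∈ Finset.Ico s c.m, g (c.cl z) (c.cl (c.nb z c.k)) (c.sg z) (c.ee z) =
      (l.map fun x => (x.2.2.2.2 : R) * g x.1 x.2.1 x.2.2.1 x.2.2.2.1).sum := by
  intro l
  induction l with
  | nil =>
    intro s hs
    have h1 : s = c.m := Tab.nat_beq.1 hs
    rw [h1]
    exact ⟨le_rfl, by simp⟩
  | cons x l ih =>
    intro s hs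
    unfold chkR at hs
    rw [Bool.and_eq_true, allN_iff] at hs
    obtain ⟨h1, h2⟩ := ih (s + x.2.2.2.2) hs.2
    refine ⟨by omega, ?_⟩
    rw [← Finset.sum_Ico_consecutive _ (Nat.le_add_right s x.2.2.2.2) h1, h2, List.map_cons, List.sum_cons]
    congr 1
    rw [Finset.sum_Ico_eq_sum_range, Nat.add_sub_cancel_left, Finset.sum_congr rfl fun i hi => by
      have h3 := hs.1 i (Finset.mem_range.1 hi)
      simp only [Bool.and_eq_true] at h3
      have h4 : c.cl (s + i) = x.1 := Tab.nat_beq.1 h3.1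
      have h5 : c.cl (c.nb (s + i) c.k) = x.2.1 := Tab.nat_beq.1 h3.2.1
      have h6 : c.sg (s + i) = x.2.2.1 := Tab.nat_beq.1 h3.2.2.1
      have h7 : c.ee (s + i) = x.2.2.2.1 := Tab.nat_beq.1 h3.2.2.2
      rw [h4, h5, h6, h7]]
    rw [Finset.sum_const, Finset.card_range, nsmul_eq_mul]

/-- the operator on functions of the class -/
noncomputable def opF {R : Type*} [CommRing R] (q : R) (F : ℕ → R) (a b t : ℕ) : R :=
  if t = 2 then q * F b else if t = 1 then q * F a else F b + (q - 1) * F a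

theorem sum_termL {R : Type*} [CommRing R] (q : R) (F : ℕ → R) (r : ℕ) (x : ℕ × ℕ × ℕ × ℕ × ℕ) (h1 : x.1 < r)
    (h2 : x.2.1 < r) : ∑ b ∈ Finset.range r, evL q (termL b x) * F b =
      (x.2.2.2.2 : R) * (q ^ x.2.2.2.1 * opF q F x.1 x.2.1 x.2.2.1) := by
  unfold termL opF
  have key : ∀ (y : ℕ) (hy : y < r) (l : List ℤ), ∑ b ∈ Finset.range r, evL q (if y = b then l else []) * F b =
      evL q l * F y := by
    intro y hy l
    rw [Finset.sum_eq_single y]
    · rw [if_pos rfl]
    · intro b _ hb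
      rw [if_neg fun h => hb h.symm, evL_nil, zero_mul]
    · intro h
      exact absurd (Finset.mem_range.2 hy) h
  split_ifs with h3 h4
  · rw [key _ h2, evL_monL, pow_succ]
    push_cast
    ring
  · rw [key _ h1, evL_monL, pow_succ]
    push_cast
    ring
  · simp only [evL_addL, add_mul]
    rw [Finset.sum_add_distrib, key _ h2, key _ h1, evL_addL, evL_monL, evL_monL, evL_monL, pow_succ]
    push_cast
    ring

theorem sum_MPl {R : Type*} [CommRing R] (q : R) (F : ℕ → R) (r a : ℕ) : ∀ l : List (ℕ × ℕ × ℕ × ℕ × ℕ),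
    chkL r l = true → ∑ b ∈ Finset.range r, evL q (MPl a b l) * F b =
      (l.map fun x => (x.2.2.2.2 : R) * (if x.1 = a then q ^ x.2.2.2.1 * opF q F x.1 x.2.1 x.2.2.1 else 0)).sum := by
  intro l
  induction l with
  | nil => intro _; simp only [MPl, evL, _root_.MulZeroClass.zero_mul, _root_.Finset.sum_const_zero, _root_.mul_ite, _root_.MulZeroClass.mul_zero, _root_.List.map_nil, _root_.List.sum_nil]
  | cons x l ih =>
    intro hl
    unfold chkL at hl
    rw [Bool.and_eq_true, Bool.and_eq_true] at hl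
    rw [List.map_cons, List.sum_cons, ← ih hl.2.2]
    by_cases h1 : x.1 = a
    · rw [if_pos h1]
      simp only [MPl, if_pos h1, evL_addL, add_mul]
      rw [Finset.sum_add_distrib, sum_termL q F r x (Tab.nat_blt.1 hl.1) (Tab.nat_blt.1 hl.2.1)]
    · rw [if_neg h1, mul_zero, zero_add]
      simp only [MPl, if_neg h1]

theorem evL_NPl {R : Type*} [CommRing R] (q : R) (a : ℕ) : ∀ l : List (ℕ × ℕ × ℕ × ℕ × ℕ),
    evL q (NPl a l) = (l.map fun x => (x.2.2.2.2 : R) * (if x.1 = a then q ^ x.2.2.2.1 else 0)).sum := by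
  intro l
  induction l with
  | nil => simp only [NPl, evL, _root_.mul_ite, _root_.MulZeroClass.mul_zero, _root_.List.map_nil, _root_.List.sum_nil]
  | cons x l ih =>
    rw [List.map_cons, List.sum_cons, ← ih]
    by_cases h1 : x.1 = a
    · rw [if_pos h1, NPl, if_pos h1, evL_addL, evL_monL]
      push_cast
      ring
    · rw [if_neg h1, mul_zero, zero_add, NPl, if_neg h1]

variable {c}

/-- the sums of the certificate -/
theorem sum_eq (hk : c.k < c.l) (hB : c.chkB = true) (hA : ∀ a < c.r, c.chkA a = true)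
    (hZ : ∀ z < c.m, c.chkZ z = true) (hR : c.chkR c.runs 0 = true) (hL : chkL c.r c.runs = true) (q : ℂ)
    (F : ℕ → ℂ) (a : ℕ) :
    ∑ z ∈ Finset.range c.m with c.cl z = a, q ^ c.ee z * opK (Tab.toWDat hk hB hA hZ) q ⟨c.k, hk⟩ (fun z => F (c.cl z)) z
      = ∑ b ∈ Finset.range c.r, evL q (c.MP a b) * F b := by
  unfold MP
  rw [sum_MPl q F c.r a c.runs hL, ← (c.sum_runs (fun a' b t e => if a' = a then q ^ e * opF q F a' b t else 0)
    c.runs 0 hR).2, Finset.sum_filter, Nat.Ico_zero_eq_range]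
  refine Finset.sum_congr rfl fun z _ => ?_
  split_ifs with h1
  · congr 1
    unfold opK opF sg
    have e1 : (Tab.toWDat hk hB hA hZ).wt z ⟨c.k, hk⟩ = (c.d z c.k : ℤ) - 8 := rfl
    have e2 : (Tab.toWDat hk hB hA hZ).nb z ⟨c.k, hk⟩ = c.nb z c.k := rfl
    rw [e1, e2]
    rcases lt_trichotomy (c.d z c.k) 8 with h2 | h2 | h2
    · have h3 : Nat.blt (c.d z c.k) 8 = true := Tab.nat_blt.2 h2
      rw [if_neg (by omega), if_pos (by omega), h3]
      simp
    · have h3 : Nat.blt (c.d z c.k) 8 = false := by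
        rw [Bool.eq_false_iff]
        intro h
        have := Tab.nat_blt.1 h
        omega
      have h4 : Nat.beq (c.d z c.k) 8 = true := Tab.nat_beq.2 h2
      rw [if_neg (by omega), if_neg (by omega), h3, h4]
      simp
    · have h3 : Nat.blt (c.d z c.k) 8 = false := by
        rw [Bool.eq_false_iff]
        intro h
        have := Tab.nat_blt.1 h
        omega
      have h4 : Nat.beq (c.d z c.k) 8 = false := by
        rw [Bool.eq_false_iff]
        intro h
        have := Tab.nat_beq.1 h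
        omega
      rw [if_pos (by omega), h3, h4]
      simp
  · rfl

theorem sum_size (hR : c.chkR c.runs 0 = true) (q : ℂ) (a : ℕ) :
    ∑ z ∈ Finset.range c.m with c.cl z = a, q ^ c.ee z = evL q (c.NP a) := by
  unfold NP
  rw [evL_NPl, ← (c.sum_runs (fun a' b t e => if a' = a then q ^ e else 0) c.runs 0 hR).2, Finset.sum_filter,
    Nat.Ico_zero_eq_range]

theorem evL_cast (q : ℚ) (l : List ℤ) : evL (q : ℂ) l = ((evL q l : ℚ) : ℂ) := by
  induction l with
  | nil => simp [evL]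
  | cons c l ih =>
    rw [evL_cons, evL_cons, ih]
    push_cast
    rfl

end Cert

end Cfsg.Agent.H77.RK
end

-- part: H77/RK/Inst
section
/-!
# Untwisted exceptional groups: certificates for `1_P^G` (helper77)

`Cert.int_chev` : if all checks of the certificate `c` are successful and `c` is a certificate for the node `k0` of the
type of `D` then all constituents of the permutation character on the cosets of the maximal parabolic subgroup
`P_{I - k0}` of `D.group K` are integer valued, for all finite fields `K`.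
-/

set_option autoImplicit false
set_option linter.unusedSectionVars false

namespace Cfsg.Agent.H77.RK

open Cfsg CoxeterSystem Cfsg.Agent.ChevalleyStructure.CoxeterGeom Cfsg.Agent.Tits.Roots Cfsg.Agent.Tits.Core
  Cfsg.Agent.Nodes.Reps Cfsg.Agent.Nodes.BNOf Cfsg.Agent.Nodes.LeviDec Cfsg.Agent.Nodes.Bruhat
  Cfsg.Agent.H35.ExcIdx Cfsg.Lie Cfsg.Agent.Nodes.RGDChev Cfsg.Agent.ChevalleyStructure Cfsg.Agent.ChevalleyStructure.NPerm
  Cfsg.Agent.ChevalleyStructure.CoxeterGeomTypes Cfsg.Agent.Characters.Core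

universe u

/-- all checks -/
structure Cert.Ok (c : Cert) : Prop where
  hk : c.k < c.l
  hB : c.chkB = true
  hA : ∀ a < c.r, c.chkA a = true
  hZ : ∀ z < c.m, c.chkZ z = true
  hR : c.chkR c.runs 0 = true
  hP : c.chkP = true

end Cfsg.Agent.H77.RK
end

-- part: H77/RK/Deg
section
/-!
# Members of `X0` among the constituents of `1_P^G` (helper77)

* `Cert.exists_cst` : a certificate with the degrees (`Dg i` the polynomial `2 χ_i(1)`): the constituents, all integer
  valued, degrees, block linking;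
* `Cert.mem0` : for a prime `p` dividing `Φ(q)`, `Φ` monic with lower coefficients `φ`, the characters in the list `L` are
  members of `X0`, by computations modulo `Φ`.
-/

set_option autoImplicit false
set_option linter.unusedSectionVars false

namespace Cfsg.Agent.H77.RK

open Cfsg Cfsg.Agent.Characters.Core
open Cfsg.Agent.H116.HeckeD (perm isCharacter_perm)
open Cfsg.Agent.H674.XZ (Mem0 Alm alm_of_rat tr1)

universe u

/-! ### remainders -/

/-- `x r` modulo the monic polynomial with lower coefficients `φ` -/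
def mulX (φ r : List ℤ) : List ℤ := addL (0 :: r.dropLast) (smulL (-(r.getLastD 0)) φ)

/-- the remainder modulo the monic polynomial with lower coefficients `φ` -/
def remL (φ : List ℤ) : List ℤ → List ℤ
  | [] => List.replicate φ.length 0
  | c :: l => addL [c] (mulX φ (remL φ l))

theorem length_addL (l m : List ℤ) : (addL l m).length = max l.length m.length := by
  induction l generalizing m with
  | nil => simp [addL]
  | cons c l ih =>
    cases m with
    | nil => simp [addL]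
    | cons d m => simp only [addL, ih, _root_.List.length_cons, _root_.Nat.add_max_add_right, _root_.Nat.add_left_cancel_iff]

theorem length_smulL (c : ℤ) (l : List ℤ) : (smulL c l).length = l.length := by
  induction l with
  | nil => rfl
  | cons d l ih => simp [smulL, ih]

theorem length_mulX {φ r : List ℤ} (h : r.length = φ.length) (h0 : φ ≠ []) : (mulX φ r).length = φ.length := by
  have h1 : 0 < φ.length := List.length_pos_iff.2 h0
  unfold mulX
  rw [length_addL, length_smulL, List.length_cons, List.length_dropLast, h]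
  omega

theorem length_remL {φ : List ℤ} (h0 : φ ≠ []) (l : List ℤ) : (remL φ l).length = φ.length := by
  have h1 : 0 < φ.length := List.length_pos_iff.2 h0
  induction l with
  | nil => simp [remL]
  | cons c l ih =>
    rw [remL, length_addL, length_mulX ih h0, List.length_singleton]
    omega

theorem evL_eq_dropLast {R : Type*} [CommRing R] (q : R) (r : List ℤ) :
    evL q r = evL q r.dropLast + (r.getLastD 0 : ℤ) * q ^ (r.length - 1) := by
  induction r with
  | nil => simp [evL]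
  | cons c l ih =>
    cases l with
    | nil => simp [evL]
    | cons d l =>
      rw [evL_cons, ih, List.dropLast_cons_cons, evL_cons]
      have h1 : (c :: d :: l).getLastD 0 = (d :: l).getLastD 0 := rfl
      have h2 : (c :: d :: l).length - 1 = (d :: l).length - 1 + 1 := by simp only [_root_.List.length_cons, _root_.add_tsub_cancel_right, _root_.Nat.add_left_cancel_iff]
      rw [h1, h2, pow_succ]
      ring

theorem evL_mulX {R : Type*} [CommRing R] {q : R} {φ r : List ℤ} (hφ : q ^ φ.length + evL q φ = 0)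
    (h : r.length = φ.length) (h0 : φ ≠ []) : evL q (mulX φ r) = q * evL q r := by
  have h1 : 0 < φ.length := List.length_pos_iff.2 h0
  unfold mulX
  rw [evL_addL, evL_smulL, evL_cons, evL_eq_dropLast q r, h]
  have h2 : q ^ φ.length = q * q ^ (φ.length - 1) := by
    rw [← pow_succ', Nat.sub_add_cancel h1]
  rw [h2] at hφ
  push_cast
  linear_combination (-(r.getLastD 0 : ℤ) : R) * hφ

theorem evL_remL {R : Type*} [CommRing R] {q : R} {φ : List ℤ} (hφ : q ^ φ.length + evL q φ = 0) (h0 : φ ≠ [])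
    (l : List ℤ) : evL q (remL φ l) = evL q l := by
  induction l with
  | nil =>
    rw [remL]
    generalize φ.length = n
    induction n with
    | zero => rfl
    | succ n ih => rw [List.replicate_succ, evL_cons, ih]; simp [evL]
  | cons c l ih =>
    rw [remL, evL_addL, evL_mulX hφ (length_remL h0 l) h0, ih, evL_cons, evL_cons, evL_nil]
    ring

theorem evL_of_all_zero {R : Type*} [CommRing R] (q : R) (l : List ℤ) (h : (l.all fun d => decide (d = 0)) = true) :
    evL q l = 0 := by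
  induction l with
  | nil => rfl
  | cons c l ih =>
    rw [List.all_cons, Bool.and_eq_true, decide_eq_true_eq] at h
    rw [evL_cons, h.1, ih h.2]
    simp

theorem cast_evL {R : Type*} [CommRing R] (q : ℤ) (l : List ℤ) : ((evL q l : ℤ) : R) = evL (q : R) l := by
  induction l with
  | nil => simp [evL]
  | cons c l ih =>
    rw [evL_cons, evL_cons, ← ih]
    push_cast
    rfl

namespace Cert

/-- the check of the degrees -/
noncomputable def chkD (c : Cert) (Dg : List (List ℤ)) : Bool :=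
  and (Nat.beq (c.cl c.b0) 0) (and (decide (Dg.getD (c.r - 1) [] = [2]))
    (and (allN c.r fun a => or (Nat.beq a 0) (and
        (Nat.blt (Nat.add (sumN c.r fun i => Nat.mul (n1 (Dg.getD i [])) (n1 (c.P i a))) (Nat.mul (n1 []) (n1 [])))
          18446744073709551616)
        (decide (sumZ c.r (fun i => Int.mul (evL KB (Dg.getD i [])) (evL KB (c.P i a))) =
          Int.mul (evL KB []) (evL KB [])))))
    (allN c.r fun i => or (Nat.ble c.r (i + 1)) (posL (shL (addL (Dg.getD i []) [-2]))))))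

/-- the same check, positivity by Horner's scheme -/
noncomputable def chkDL (c : Cert) (Dg : List (List ℤ)) : Bool :=
  and (Nat.beq (c.cl c.b0) 0) (and (decide (Dg.getD (c.r - 1) [] = [2]))
    (and (allN c.r fun a => or (Nat.beq a 0) (and
        (Nat.blt (Nat.add (sumN c.r fun i => Nat.mul (n1 (Dg.getD i [])) (n1 (c.P i a))) (Nat.mul (n1 []) (n1 [])))
          18446744073709551616)
        (decide (sumZ c.r (fun i => Int.mul (evL KB (Dg.getD i [])) (evL KB (c.P i a))) =
          Int.mul (evL KB []) (evL KB [])))))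
    (allN c.r fun i => or (Nat.ble c.r (i + 1)) (lagB (addL (Dg.getD i []) [-2])))))

theorem chkD_of_F {c : Cert} {Dg : List (List ℤ)} (h : c.chkDL Dg = true) : c.chkD Dg = true := by
  unfold chkDL at h
  unfold chkD
  rw [Bool.and_eq_true, Bool.and_eq_true, Bool.and_eq_true] at h ⊢
  refine ⟨h.1, h.2.1, h.2.2.1, allN_iff.2 fun i hi => ?_⟩
  rcases Bool.or_eq_true _ _ ▸ allN_iff.1 h.2.2.2 i hi with h1 | h1
  · rw [h1, Bool.true_or]
  · rw [posL_of_lagB h1, Bool.or_true]

/-- the check of the members -/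
def chkM (c : Cert) (Dg : List (List ℤ)) (φ : List ℤ) (L : List ℕ) : Bool :=
  L.all fun i => decide (i < c.r) && ((List.range c.r).all fun a =>
    (remL φ (addL (c.P i a) (smulL (-1) (c.P (c.r - 1) a)))).all fun d => decide (d = 0)) &&
    decide (((remL φ (Dg.getD i [])).headD 0).natAbs ∣ 210 ^ 4) && ((remL φ (Dg.getD i [])).tail.all fun d => decide (d = 0))

variable {c : Cert}

/-- the identities of the certificate -/
theorem facts (hP : c.chkP = true) {q : ℕ} (hq : 2 ≤ q) :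
    0 < c.r ∧ chkL c.r c.runs = true ∧ (∀ a < c.r, 0 < evL (q : ℚ) (c.NP a)) ∧ 0 < evL (q : ℚ) c.lam ∧
    (∀ a < c.r, ∀ b < c.r, evL (q : ℚ) (c.B a b) * evL (q : ℚ) (c.NP a) = evL (q : ℚ) c.lam * evL (q : ℚ) (c.MP a b)) ∧
    (∀ i < c.r, ∀ b < c.r, ∑ a ∈ Finset.range c.r, evL (q : ℚ) (c.P i a) * evL (q : ℚ) (c.B a b) =
      evL (q : ℚ) (c.T i) * evL (q : ℚ) (c.P i b)) ∧ (∀ i < c.r, c.P i 0 = [1]) ∧
    Function.Injective fun i : Fin c.r => evL (q : ℚ) (c.T i) / evL (q : ℚ) c.lam := by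
  unfold chkP at hP
  simp only [Bool.and_eq_true, allN_iff, decide_eq_true_eq] at hP
  obtain ⟨hP1, hP2, hlam, hr0, hL, hth⟩ := hP
  have hr0' : 0 < c.r := Tab.nat_blt.1 hr0
  have hq0 : (0 : ℚ) ≤ (q : ℚ) := Nat.cast_nonneg q
  have hq2 : (2 : ℚ) ≤ (q : ℚ) := by exact_mod_cast hq
  set Q : ℚ := (q : ℚ) with hQ
  have hlam' : 0 < evL Q c.lam := pos_of_posL hq0 _ hlam
  refine ⟨hr0', hL, fun a ha => pos_of_posL hq0 _ (hP1 a ha).1, hlam',
    fun a ha b hb => mul_eq_mul_of Q _ _ _ _ (Tab.nat_blt.1 ((hP1 a ha).2 b hb).1) ((hP1 a ha).2 b hb).2,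
    fun i hi b hb => ?_, fun i hi => (hP2 i hi).1, ?_⟩
  · have h1 := (hP2 i hi).2 b hb
    rw [sumZ_eq, sumN_eq] at h1
    exact sum_mul_eq_of Q c.r (fun a => c.P i a) (fun a => c.B a b) _ _ (Tab.nat_blt.1 h1.1) h1.2
  -- the eigenvalues
  have hinc : ∀ i, i + 1 < c.r → evL Q (c.T i) < evL Q (c.T (i + 1)) := by
    intro i hi
    have h1 := hth i (by omega)
    rw [Bool.or_eq_true] at h1
    rcases h1 with h1 | h1
    · have := Tab.nat_ble.1 h1
      omega
    · exact lt_of_shL hq2 _ _ h1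
  have hmono : ∀ (n i : ℕ), i + n + 1 < c.r → evL Q (c.T i) < evL Q (c.T (i + n + 1)) := by
    intro n
    induction n with
    | zero => exact fun i hi => hinc i hi
    | succ n ih => exact fun i hi => (ih i (by omega)).trans (hinc (i + n + 1) hi)
  have key : ∀ i j : Fin c.r, i < j → evL Q (c.T i) < evL Q (c.T j) := by
    intro i j hij
    obtain ⟨n, hn⟩ := Nat.exists_eq_add_of_lt (show i.val < j.val from hij)
    have h1 := hmono n i.val (by rw [← hn]; exact j.2)
    rwa [← hn] at h1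
  intro i j hij
  have h1 : evL Q (c.T i) = evL Q (c.T j) := by
    have h2 : evL Q (c.T i) / evL Q c.lam = evL Q (c.T j) / evL Q c.lam := hij
    rwa [div_left_inj' hlam'.ne'] at h2
  rcases lt_trichotomy i j with h2 | h2 | h2
  · exact absurd h1 (key i j h2).ne
  · exact h2
  · exact absurd h1 (key j i h2).ne'

/-- the trivial character is a constituent -/
theorem classInner_perm_tr1 {Y : Type*} [Group Y] [Fintype Y] (X : Type*) [MulAction Y X] [Finite X] [Nonempty X] :
    classInner (perm Y X) (tr1 Y : Y → ℂ) ≠ 0 := by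
  classical
  rw [classInner_def]
  have h1 : ∀ g : Y, perm Y X g * (starRingEnd ℂ) ((tr1 Y : Y → ℂ) g) = ((Nat.card (MulAction.fixedBy X g) : ℕ) : ℂ) := by
    intro g
    show perm Y X g * (starRingEnd ℂ) (1 : ℂ) = _
    rw [map_one, mul_one]
    rfl
  rw [Finset.sum_congr rfl fun g _ => h1 g, ← Nat.cast_sum]
  refine mul_ne_zero (inv_ne_zero (by exact_mod_cast Nat.card_pos.ne')) ?_
  have h2 : 0 < ∑ g : Y, Nat.card (MulAction.fixedBy X g) := by
    refine Finset.sum_pos' (fun _ _ => Nat.zero_le _) ⟨1, Finset.mem_univ _, ?_⟩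
    have : Nonempty (MulAction.fixedBy X (1 : Y)) :=
      ⟨⟨Classical.arbitrary X, by rw [MulAction.mem_fixedBy, one_smul]⟩⟩
    exact Nat.card_pos
  exact_mod_cast h2.ne'

open CoxeterSystem Cfsg.Agent.ChevalleyStructure.CoxeterGeom Cfsg.Agent.Tits.Roots Cfsg.Agent.Tits.Core
  Cfsg.Agent.Nodes.Reps Cfsg.Agent.Nodes.BNOf Cfsg.Agent.Nodes.LeviDec Cfsg.Agent.H116 in
/-- **The constituents.** -/
theorem exists_cst (hc : c.Ok) {Dg : List (List ℤ)} (hD : c.chkD Dg = true)
    {W : Type*} {Y : Type*} [Group W] [Group Y] {M : CoxeterMatrix (Fin c.l)}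
    {cs : CoxeterSystem M W} {A : Fin c.l → Fin c.l → ℤ} {h : IsCartan M A} {p : ℕ} {T : Subgroup Y}
    {n : Fin c.l → Y} {X : (Fin c.l → ℤ) → Subgroup Y} [Finite W] [Finite Y] [Fintype Y] (R : RGD cs h p T n X)
    (hgen : RGD.B cs h T X ⊔ NN cs R.nsys = ⊤) {q : ℕ} (hq2 : 2 ≤ q) (hq : ∀ i, Nat.card (X (sr i)) = q)
    (hAA : A = c.A) :
    ∃ χ : Fin c.r → IrrCharacter Y, Function.Injective χ ∧ (∀ i g, ∃ z : ℤ, (χ i : Y → ℂ) g = z) ∧
      (∀ i, classInner (perm Y (Y ⧸ PJ cs h T X {j | j ≠ ⟨c.k, hc.hk⟩})) (χ i : Y → ℂ) = 1) ∧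
      (∀ ψ : IrrCharacter Y, classInner (perm Y (Y ⧸ PJ cs h T X {j | j ≠ ⟨c.k, hc.hk⟩})) (ψ : Y → ℂ) ≠ 0 →
        ∃ i, χ i = ψ) ∧
      (∀ i : Fin c.r, 2 * (charDegree (χ i : Y → ℂ) : ℤ) = evL (q : ℤ) (Dg.getD i.val [])) ∧
      (∀ i : Fin c.r, i.val = c.r - 1 → χ i = tr1 Y) ∧
      ∀ (p : ℕ) (M : Ideal AlgInt), IsPModular p M → ∀ i j : Fin c.r,
        (∀ a < c.r, (p : ℤ) ∣ evL (q : ℤ) (c.P i a) - evL (q : ℤ) (c.P j a)) →
        SameBlock M (χ i : Y → ℂ) (χ j : Y → ℂ) := by
  subst hAA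
  obtain ⟨hr0, hL, hN, hlam, hC1, hC2, hP0, hinj⟩ := facts hc.hP hq2
  unfold chkD at hD
  simp only [Bool.and_eq_true, allN_iff, decide_eq_true_eq] at hD
  obtain ⟨hb0, hDl, hD0, hDp⟩ := hD
  have hb0' : c.cl c.b0 = 0 := Tab.nat_beq.1 hb0
  set Q : ℚ := (q : ℚ) with hQ
  have hq2' : (2 : ℚ) ≤ Q := by rw [hQ]; exact_mod_cast hq2
  have hqc : (q : ℂ) = ((Q : ℚ) : ℂ) := by rw [hQ]; push_cast; rfl
  have hlamC : ((evL Q c.lam : ℚ) : ℂ) ≠ 0 := by exact_mod_cast hlam.ne'
  obtain ⟨χ, h1, h2, h3, h4, h5, h6, h7⟩ := exists_rgd R hgen hq (Tab.toWDat hc.hk hc.hB hc.hA hc.hZ)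
    (fun a b => ((evL Q (c.MP a b) / evL Q (c.NP a) : ℚ) : ℂ))
    (fun F a ha => by
      have e1 := sum_eq hc.hk hc.hB hc.hA hc.hZ hc.hR hL (q : ℂ) F a
      have e2 := sum_size hc.hR (q : ℂ) a
      refine e1.trans ?_
      refine Eq.trans ?_ (congrArg (fun y => y * _) e2.symm)
      rw [Finset.mul_sum]
      refine Finset.sum_congr rfl fun b _ => ?_
      rw [hqc, evL_cast, evL_cast]
      have e3 : ((evL Q (c.NP a) : ℚ) : ℂ) ≠ 0 := by exact_mod_cast (hN a ha).ne'
      push_cast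
      field_simp)
    (fun i => ((evL Q (c.T i) / evL Q c.lam : ℚ) : ℂ))
    (fun i j hij => hinj (Rat.cast_injective (α := ℂ) hij))
    (fun i a => evL Q (c.P i a))
    (fun i => by
      show evL Q (c.P i (c.cl c.b0)) = 1
      rw [hb0', hP0 i.val i.2]
      simp [evL])
    (fun i b hb => by
      have e1 := congrArg (fun y : ℚ => (y : ℂ)) (hC2 i.val i.2 b hb)
      push_cast at e1 ⊢
      rw [eq_comm, div_mul_eq_mul_div, ← e1, Finset.sum_div]
      refine Finset.sum_congr rfl fun a ha => ?_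
      have ha' := Finset.mem_range.1 ha
      have e2 := congrArg (fun y : ℚ => (y : ℂ)) (hC1 a ha' b hb)
      have e3 : ((evL Q (c.NP a) : ℚ) : ℂ) ≠ 0 := by exact_mod_cast (hN a ha').ne'
      push_cast at e2
      field_simp
      linear_combination ((evL Q (c.P i a) : ℚ) : ℂ) * e2)
  set idx : ℂ := ((PJ cs h T X {j | j ≠ ⟨c.k, hc.hk⟩}).index : ℂ) with hidx
  have hcl0 : (Tab.toWDat hc.hk hc.hB hc.hA hc.hZ).cl (Tab.toWDat hc.hk hc.hB hc.hA hc.hZ).b0 = 0 := hb0'
  rw [hcl0] at h5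
  -- the degrees
  set! S : ℚ := ∑ i : Fin c.r, evL Q (Dg.getD i.val []) with hS
  have hDC : ∀ a < c.r, a ≠ 0 → ∑ i : Fin c.r, evL Q (Dg.getD i.val []) * evL Q (c.P i a) = 0 := by
    intro a ha ha0
    have e1 := hD0 a ha
    rw [Bool.or_eq_true] at e1
    rcases e1 with e1 | e1
    · exact absurd (Tab.nat_beq.1 e1) ha0
    · rw [Bool.and_eq_true, decide_eq_true_eq, sumZ_eq, sumN_eq] at e1
      have e2 := sum_mul_eq_of Q c.r (fun i => Dg.getD i []) (fun i => c.P i a) [] [] (Tab.nat_blt.1 e1.1) e1.2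
      rw [Finset.sum_range] at e2
      rw [e2, evL_nil, zero_mul]
  have hdel : ∀ i : Fin c.r, (χ i : Y → ℂ) 1 * (S : ℂ) = idx * ((evL Q (Dg.getD i.val []) : ℚ) : ℂ) := by
    intro i
    rw [← sub_eq_zero]
    refine h6 (fun i => (χ i : Y → ℂ) 1 * (S : ℂ) - idx * ((evL Q (Dg.getD i.val []) : ℚ) : ℂ)) (fun a ha => ?_) i
    have e1 := h5 a ha
    by_cases ha0 : a = 0
    · subst ha0
      rw [if_pos rfl] at e1
      have e2 : ∀ i : Fin c.r, evL Q (c.P i 0) = 1 := fun i => by
        rw [hP0 i.val i.2]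
        simp [evL]
      simp only [e2, Rat.cast_one, mul_one] at e1 ⊢
      rw [Finset.sum_sub_distrib, ← Finset.sum_mul, ← Finset.mul_sum, e1, hS]
      push_cast
      ring
    · rw [if_neg ha0] at e1
      have e2 := congrArg (fun y : ℚ => (y : ℂ)) (hDC a ha ha0)
      push_cast at e2
      have e3 : ∀ i : Fin c.r, ((χ i : Y → ℂ) 1 * (S : ℂ) - idx * ((evL Q (Dg.getD i.val []) : ℚ) : ℂ)) *
          ((evL Q (c.P i a) : ℚ) : ℂ) = (S : ℂ) * ((χ i : Y → ℂ) 1 * ((evL Q (c.P i a) : ℚ) : ℂ)) -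
            idx * (((evL Q (Dg.getD i.val []) : ℚ) : ℂ) * ((evL Q (c.P i a) : ℚ) : ℂ)) := fun i => by ring
      rw [Finset.sum_congr rfl fun i _ => e3 i, Finset.sum_sub_distrib, ← Finset.mul_sum, ← Finset.mul_sum, e1, e2]
      ring
  have hbig : ∀ i : Fin c.r, i.val ≠ c.r - 1 → 2 < evL Q (Dg.getD i.val []) := by
    intro i hi
    have e1 := hDp i.val i.2
    rw [Bool.or_eq_true] at e1
    rcases e1 with e1 | e1
    · have := Tab.nat_ble.1 e1
      have := i.2
      omega
    · have e2 := pos_of_posL (q := Q - 2) (by linarith only [hq2']) _ e1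
      rw [evL_shL, sub_add_cancel, evL_addL] at e2
      simp only [evL_cons, evL_nil] at e2
      push_cast at e2
      linarith only [e2]
  have hlast : ∀ i : Fin c.r, i.val = c.r - 1 → evL Q (Dg.getD i.val []) = 2 := by
    intro i hi
    rw [hi, hDl]
    simp [evL]
  have hDge : ∀ i : Fin c.r, 2 ≤ evL Q (Dg.getD i.val []) := by
    intro i
    by_cases hi : i.val = c.r - 1
    · exact (hlast i hi).ge
    · exact (hbig i hi).le
  have hS0 : 0 < S := by
    have : Nonempty (Fin c.r) := ⟨⟨0, hr0⟩⟩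
    exact Finset.sum_pos (fun i _ => lt_of_lt_of_le (by norm_num) (hDge i)) Finset.univ_nonempty
  obtain ⟨i₀, hi₀⟩ := h4 (tr1 Y) (classInner_perm_tr1 _)
  have hdeg : ∀ i : Fin c.r, (charDegree (χ i : Y → ℂ) : ℚ) * S =
      ((PJ cs h T X {j | j ≠ ⟨c.k, hc.hk⟩}).index : ℚ) * evL Q (Dg.getD i.val []) := by
    intro i
    have e1 := hdel i
    rw [(S0914.degree_spec (χ i)).1] at e1
    rw [hidx] at e1
    exact_mod_cast e1
  have hd0 : charDegree (χ i₀ : Y → ℂ) = 1 := by
    rw [hi₀]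
    have e1 := (S0914.degree_spec (tr1 Y)).1
    have e2 : ((charDegree (tr1 Y : Y → ℂ) : ℕ) : ℂ) = 1 := e1.symm
    exact_mod_cast e2
  -- the trivial character is the last one
  have hi₀l : i₀.val = c.r - 1 := by
    by_contra hne
    have e1 := hdeg i₀
    rw [hd0, Nat.cast_one, one_mul] at e1
    have e2 := hdeg ⟨c.r - 1, by omega⟩
    rw [hlast _ rfl] at e2
    have e3 : (1 : ℚ) ≤ charDegree (χ ⟨c.r - 1, by omega⟩ : Y → ℂ) := by
      exact_mod_cast (S0914.degree_spec (χ ⟨c.r - 1, by omega⟩)).2.1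
    have e4 := hbig i₀ hne
    have e5 : (0 : ℚ) < ((PJ cs h T X {j | j ≠ ⟨c.k, hc.hk⟩}).index : ℚ) := by
      by_contra hcon
      have e6 : ((PJ cs h T X {j | j ≠ ⟨c.k, hc.hk⟩}).index : ℚ) = 0 :=
        le_antisymm (not_lt.1 hcon) (Nat.cast_nonneg _)
      rw [e6, zero_mul] at e1
      exact hS0.ne' e1
    nlinarith only [hc, h, hS0, e1, e2, e3, e4, e5]
  have hSi : S = 2 * ((PJ cs h T X {j | j ≠ ⟨c.k, hc.hk⟩}).index : ℚ) := by
    have e1 := hdeg i₀
    rw [hd0, Nat.cast_one, one_mul, hlast i₀ hi₀l] at e1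
    rw [e1]
    ring
  have hdeg2 : ∀ i : Fin c.r, 2 * (charDegree (χ i : Y → ℂ) : ℚ) = evL Q (Dg.getD i.val []) := by
    intro i
    have e1 := hdeg i
    have e2 : ((PJ cs h T X {j | j ≠ ⟨c.k, hc.hk⟩}).index : ℚ) ≠ 0 := by
      intro e3
      rw [e3, mul_zero] at hSi
      exact hS0.ne' hSi
    rw [hSi] at e1
    apply mul_left_cancel₀ e2
    linear_combination e1
  refine ⟨χ, h1, fun i g => ?_, h3, h4, fun i => ?_, fun i hi => ?_, fun p M hM i j hij => ?_⟩
  · obtain ⟨z, hz⟩ := h2 i g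
    exact Characters.GaloisBasic.exists_int_of_rat (isIrr_isCharacter (χ i).2) g ⟨z, hz⟩
  · have e1 := hdeg2 i
    rw [hQ] at e1
    have e2 : ((evL ((q : ℕ) : ℤ) (Dg.getD i.val []) : ℤ) : ℚ) = evL (((q : ℕ) : ℤ) : ℚ) (Dg.getD i.val []) := cast_evL _ _
    rw [Int.cast_natCast] at e2
    rw [← e2] at e1
    exact_mod_cast e1
  · rw [← hi₀]
    congr 1
    exact Fin.ext (hi.trans hi₀l.symm)
  · refine h7 p M hM i j fun a ha => ?_
    obtain ⟨z, hz⟩ := hij a ha
    refine ⟨z, ?_⟩
    have e1 : ∀ l : List ℤ, ((evL ((q : ℕ) : ℤ) l : ℤ) : ℚ) = evL Q l := fun l => by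
      rw [cast_evL, Int.cast_natCast]
    rw [← e1, ← e1, ← Int.cast_sub, hz]
    push_cast
    ring

open CoxeterSystem Cfsg.Agent.ChevalleyStructure.CoxeterGeom Cfsg.Agent.Tits.Roots Cfsg.Agent.Tits.Core
  Cfsg.Agent.Nodes.Reps Cfsg.Agent.Nodes.BNOf Cfsg.Agent.Nodes.LeviDec Cfsg.Agent.Nodes.Bruhat
  Cfsg.Agent.H35.ExcIdx Cfsg.Lie Cfsg.Agent.Nodes.RGDChev Cfsg.Agent.ChevalleyStructure Cfsg.Agent.ChevalleyStructure.NPerm
  Cfsg.Agent.ChevalleyStructure.CoxeterGeomTypes

/-- **Untwisted groups.** -/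
theorem exists_chev (hc : c.Ok) {Dg : List (List ℤ)} (hD : c.chkD Dg = true) {D : ChevalleyDatum} {l : ℕ}
    (hl : c.l = l) {M : CoxeterMatrix (Fin l)} (hp : IsType D l M)
    (hAA : ∀ i j : Fin l, cartanOf D l i j = c.A (Fin.cast hl.symm i) (Fin.cast hl.symm j))
    (K : Type u) [Field K] [Fintype K] [Fintype ↥(D.group K)] {k0 : Fin l} (hk0 : k0.val = c.k) :
    ∃ χ : Fin c.r → IrrCharacter ↥(D.group K), Function.Injective χ ∧
      (∀ i g, ∃ z : ℤ, (χ i : ↥(D.group K) → ℂ) g = z) ∧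
      (∀ i, classInner ((perm ↥(D.group K) (↥(D.group K) ⧸
        PJ M.toCoxeterSystem hp.isCartan (TT D K) (XX D l K) {j | j ≠ k0}) :)) (χ i : ↥(D.group K) → ℂ) = 1) ∧
      (∀ ψ : IrrCharacter ↥(D.group K), classInner (perm ↥(D.group K) (↥(D.group K) ⧸
        PJ M.toCoxeterSystem hp.isCartan (TT D K) (XX D l K) {j | j ≠ k0})) (ψ : ↥(D.group K) → ℂ) ≠ 0 →
        ∃ i, χ i = ψ) ∧
      (∀ i : Fin c.r, 2 * (charDegree (χ i : ↥(D.group K) → ℂ) : ℤ) = evL (Fintype.card K : ℤ) (Dg.getD i.val [])) ∧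
      (∀ i : Fin c.r, i.val = c.r - 1 → χ i = tr1 ↥(D.group K)) ∧
      ∀ (p : ℕ) (M : Ideal AlgInt), IsPModular p M → ∀ i j : Fin c.r,
        (∀ a < c.r, (p : ℤ) ∣ evL (Fintype.card K : ℤ) (c.P i a) - evL (Fintype.card K : ℤ) (c.P j a)) →
        SameBlock M (χ i : ↥(D.group K) → ℂ) (χ j : ↥(D.group K) → ℂ) := by
  subst hl
  obtain ⟨p, hpc⟩ := CharP.exists K
  have hpp : Fact p.Prime := ⟨CharP.char_is_prime K p⟩
  have hfin : Finite M.Group := finite_W hp M.toCoxeterSystem
  have R := rgd (K := K) hp M.toCoxeterSystem p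
  have hcard : ∀ i, Nat.card (XX D c.l K (sr i)) = Fintype.card K := fun i => by
    rw [card_XX hp K M.toCoxeterSystem (isRoot_sr _ _ i), Nat.card_eq_fintype_card]
  have hq2 : 2 ≤ Fintype.card K := Fintype.one_lt_card
  have hk1 : k0 = ⟨c.k, hc.hk⟩ := Fin.ext hk0
  subst hk1
  exact Cert.exists_cst hc hD R (gen hp M.toCoxeterSystem p) hq2 hcard (funext fun i => funext fun j => hAA i j)

/-- **Members of `X0`.** -/
theorem exists_mem (hc : c.Ok) {Dg : List (List ℤ)} (hD : c.chkD Dg = true) {D : ChevalleyDatum} {l : ℕ}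
    (hl : c.l = l) {M : CoxeterMatrix (Fin l)} (hp : IsType D l M)
    (hAA : ∀ i j : Fin l, cartanOf D l i j = c.A (Fin.cast hl.symm i) (Fin.cast hl.symm j))
    (K : Type u) [Field K] [Fintype K] [Fintype ↥(D.group K)] {k0 : Fin l} (hk0 : k0.val = c.k)
    {p : ℕ} [hpp : Fact p.Prime] (hp11 : 11 ≤ p) {N : Ideal AlgInt} (hN : IsPModular p N) {φ : List ℤ} (h0 : φ ≠ [])
    (hφ : (p : ℤ) ∣ (Fintype.card K : ℤ) ^ φ.length + evL (Fintype.card K : ℤ) φ) {L : List ℕ}
    (hL : c.chkM Dg φ L = true) :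
    ∃ χ : Fin c.r → IrrCharacter ↥(D.group K), Function.Injective χ ∧
      (∀ i g, ∃ z : ℤ, (χ i : ↥(D.group K) → ℂ) g = z) ∧
      (∀ i, classInner ((perm ↥(D.group K) (↥(D.group K) ⧸
        PJ M.toCoxeterSystem hp.isCartan (TT D K) (XX D l K) {j | j ≠ k0}) :)) (χ i : ↥(D.group K) → ℂ) = 1) ∧
      (∀ ψ : IrrCharacter ↥(D.group K), classInner (perm ↥(D.group K) (↥(D.group K) ⧸
        PJ M.toCoxeterSystem hp.isCartan (TT D K) (XX D l K) {j | j ≠ k0})) (ψ : ↥(D.group K) → ℂ) ≠ 0 →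
        ∃ i, χ i = ψ) ∧
      (∀ i : Fin c.r, 2 * (charDegree (χ i : ↥(D.group K) → ℂ) : ℤ) = evL (Fintype.card K : ℤ) (Dg.getD i.val [])) ∧
      (∀ i : Fin c.r, i.val = c.r - 1 → χ i = tr1 ↥(D.group K)) ∧
      ∀ i : Fin c.r, i.val ∈ L → Mem0 p N (χ i) ∧
        2 * (charDegree (χ i : ↥(D.group K) → ℂ) : ℤ) ≡ (remL φ (Dg.getD i.val [])).headD 0 [ZMOD p] := by
  obtain ⟨χ, h1, h2, h3, h4, h5, h6, h7⟩ := exists_chev hc hD hl hp hAA K hk0
  refine ⟨χ, h1, h2, h3, h4, h5, h6, fun i hi => ?_⟩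
  have hr : c.r - 1 < c.r := by
    have := i.2
    omega
  unfold chkM at hL
  rw [List.all_eq_true] at hL
  have h8 := hL i.val hi
  simp only [Bool.and_eq_true, decide_eq_true_eq] at h8
  obtain ⟨⟨⟨-, h9⟩, h10⟩, h11⟩ := h8
  -- computations modulo `p`
  have hφ' : ((Fintype.card K : ℤ) : ZMod p) ^ φ.length + evL ((Fintype.card K : ℤ) : ZMod p) φ = 0 := by
    have e1 := (ZMod.intCast_zmod_eq_zero_iff_dvd _ p).2 hφ
    rw [Int.cast_add, cast_evL, Int.cast_pow] at e1
    exact e1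
  have hrem : ∀ l : List ℤ, ((evL (Fintype.card K : ℤ) l : ℤ) : ZMod p) =
      evL ((Fintype.card K : ℤ) : ZMod p) (remL φ l) := fun l => by
    rw [cast_evL, evL_remL hφ' h0]
  have hdeg : ((2 * (charDegree (χ i : ↥(D.group K) → ℂ) : ℤ) : ℤ) : ZMod p) =
      (((remL φ (Dg.getD i.val [])).headD 0 : ℤ) : ZMod p) := by
    rw [h5, hrem]
    generalize remL φ (Dg.getD i.val []) = l at h11 ⊢
    cases l with
    | nil => simp [evL]
    | cons d l =>
      rw [List.tail_cons] at h11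
      rw [evL_cons, evL_of_all_zero _ l h11, mul_zero, add_zero]
      rfl
  have hmod : 2 * (charDegree (χ i : ↥(D.group K) → ℂ) : ℤ) ≡ (remL φ (Dg.getD i.val [])).headD 0 [ZMOD p] :=
    (ZMod.intCast_eq_intCast_iff _ _ _).1 hdeg
  refine ⟨⟨?_, fun hdv => ?_, alm_of_rat fun g => ?_⟩, hmod⟩
  · rw [Blocks.PrincipalSection.mem_principalBlock_iff]
    have e1 := h7 p N hN ⟨c.r - 1, hr⟩ i fun a ha => by
      rw [List.all_eq_true] at h9
      have e2 := evL_of_all_zero ((Fintype.card K : ℤ) : ZMod p) _ (h9 a (List.mem_range.2 ha))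
      rw [← hrem, evL_addL, evL_smulL] at e2
      have e3 := (ZMod.intCast_zmod_eq_zero_iff_dvd _ p).1 e2
      obtain ⟨z, hz⟩ := e3
      refine ⟨-z, ?_⟩
      push_cast at hz
      linear_combination -hz
    rw [h6 _ rfl] at e1
    exact e1
  · have e1 : (p : ℤ) ∣ (remL φ (Dg.getD i.val [])).headD 0 :=
      (Int.ModEq.dvd_iff hmod).1 (Dvd.dvd.mul_left (by exact_mod_cast hdv) _)
    have e2 : p ∣ ((remL φ (Dg.getD i.val [])).headD 0).natAbs := Int.natCast_dvd.1 e1
    have e3 := hpp.out.dvd_of_dvd_pow (e2.trans h10)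
    have e4 : p ∣ 2 * 3 * 5 * 7 := e3
    rw [hpp.out.dvd_mul, hpp.out.dvd_mul, hpp.out.dvd_mul] at e4
    rcases e4 with ((e4 | e4) | e4) | e4 <;> have := Nat.le_of_dvd (by norm_num) e4 <;> omega
  · obtain ⟨z, hz⟩ := h2 i g
    exact ⟨z, by rw [hz]; push_cast; rfl⟩

end Cert

end Cfsg.Agent.H77.RK
end

private theorem dce_0cb0f0b51265 : _root_.True := by
  try have : _root_.True := by simp only [_root_.Cfsg.Agent.H77.RK.NPl.eq_1]
  try have : _root_.True := by simp only [_root_.Cfsg.Agent.H77.RK.dotL.eq_2]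
  try have : _root_.True := by simp only [_root_.Cfsg.Agent.H77.RK.Tab.toWDat.congr_simp]
  try have : _root_.True := by simp only [_root_.Cfsg.Agent.H77.RK.shL.eq_1]
  try have : _root_.True := by simp only [_root_.Cfsg.Agent.H77.RK.remL.eq_1]
  try have : _root_.True := by simp only [_root_.Cfsg.Agent.H77.RK.evL.eq_def]
  try have : _root_.True := by simp only [_root_.Cfsg.Agent.H77.RK.n1.eq_2]
  try have : _root_.True := by simp only [_root_.Cfsg.Agent.H77.RK.monL.eq_def]
  try have : _root_.True := by simp only [_root_.Cfsg.Agent.H77.RK.Dat.V.congr_simp]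
  try have : _root_.True := by simp only [_root_.Cfsg.Agent.H77.RK.monL.eq_2]
  try have : _root_.True := by simp only [_root_.Cfsg.Agent.H77.RK.chkL.eq_def]
  try have : _root_.True := by simp only [_root_.Cfsg.Agent.H77.RK.addL.eq_1]
  try have : _root_.True := by simp only [_root_.Cfsg.Agent.H77.RK.mulL.eq_def]
  try have : _root_.True := by simp only [_root_.Cfsg.Agent.H77.RK.Dat.Cas.congr_simp]
  try have : _root_.True := by simp only [_root_.Cfsg.Agent.H77.RK.shL.eq_def]
  try have : _root_.True := by simp only [_root_.Cfsg.Agent.H77.RK.remL.eq_def]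
  try have : _root_.True := by simp only [_root_.Cfsg.Agent.H77.RK.dotL.eq_def]
  try have : _root_.True := by simp only [_root_.Cfsg.Agent.H77.RK.NPl.eq_2]
  try have : _root_.True := by simp only [_root_.Cfsg.Agent.H77.RK.dotL.eq_1]
  try have : _root_.True := by simp only [_root_.Cfsg.Agent.H77.RK.WDat.idx.congr_simp]
  try have : _root_.True := by simp only [_root_.Cfsg.Agent.H77.RK.NPl.eq_def]
  try have : _root_.True := by simp only [_root_.Cfsg.Agent.H77.RK.n1.eq_1]
  try have : _root_.True := by simp only [_root_.Cfsg.Agent.H77.RK.MPl.eq_def]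
  try have : _root_.True := by simp only [_root_.Cfsg.Agent.H77.RK.Cert.chkR.eq_def]
  try have : _root_.True := by simp only [_root_.Cfsg.Agent.H77.RK.remL.eq_2]
  try have : _root_.True := by simp only [_root_.Cfsg.Agent.H77.RK.shL.eq_2]
  try have : _root_.True := by simp only [_root_.Cfsg.Agent.H77.RK.mulL.eq_1]
  try have : _root_.True := by simp only [_root_.Cfsg.Agent.H77.RK.addL.eq_def]
  try have : _root_.True := by simp only [_root_.Cfsg.Agent.H77.RK.smulL.eq_2]
  try have : _root_.True := by simp only [_root_.Cfsg.Agent.H77.RK.smulL.eq_def]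
  try have : _root_.True := by simp only [_root_.Cfsg.Agent.H77.RK.addL.eq_2]
  try have : _root_.True := by simp only [_root_.Cfsg.Agent.H77.RK.smulL.eq_1]
  try have : _root_.True := by simp only [_root_.Cfsg.Agent.H77.RK.mulL.eq_2]
  try have : _root_.True := by simp only [_root_.Cfsg.Agent.H77.RK.monL.eq_1]
  try have : _root_.True := by simp only [_root_.Cfsg.Agent.H77.RK.MPl.eq_2]
  try have : _root_.True := by simp only [_root_.Cfsg.Agent.H77.RK.addL.eq_3]
  try have : _root_.True := by simp only [_root_.Cfsg.Agent.H77.RK.evL.eq_1]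
  try have : _root_.True := by simp only [_root_.Cfsg.Agent.H77.RK.Dat.E.congr_simp]
  try have : _root_.True := by simp only [_root_.Cfsg.Agent.H77.RK.KB.eq_1]
  try have : _root_.True := by simp only [_root_.Cfsg.Agent.H77.RK.MPl.eq_1]
  try have : _root_.True := by simp only [_root_.Cfsg.Agent.H77.RK.n1.eq_def]
  try have : _root_.True := by simp only [_root_.Cfsg.Agent.H77.RK.evL.eq_2]
  exact _root_.True.intro
end

-- part: H77/RK/TabE67
section
prune_inst 0x4010000
set_option linter.all false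

/-!
# Certificates with degrees for the nodes 1, 2 of `E₆` and 7, 1 of `E₇` (helper77)
-/

set_option autoImplicit false
set_option maxRecDepth 100000

namespace Cfsg.Agent.H77.RK

/-! ### `E₆`, node 1 -/

/-! ### `E₆`, node 2 -/

def e62Cd : ℕ :=
0x88887888789887978879878887898787888998878879798779788998798798788978987778977997987797977978897889887789877997897889797888986878889778879997889797879978799889789789779997799889699877988888978788968996988869888888898688878aa788887a7888887a8788798999788887a7787997788799778798799897787989777988799889779888798878a8879798798798878997878899988798797997797899987997987899789887789789979887979789788988898887898789978988897988889878888898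

def e62Nb : ℕ :=
0x4704704704704604704604604504604704604504404604304504504104504404004404404304004304504304204203f04204204204304404104103e04104103e04303c04404003f03d04203b03f03f04004003e03a04103e03d03f03d03903d03d03e03a03c04003c03203b03903b03f03803103c03c03703e03a03003903b03603d03502f03a03503803803b02e03803703a03703702d03603603903603402c03703803403503902b03503403503303602a03403303303403301403303003203203203c03102f03103102e03b03203202d03003003a02f03102c02f02b03903002b02e02903103802e02d03002802d03702c02c02f02702a03602d02e02a02602f03502b02a02b01d02c03402a02602502e02902902902802802d02402802702702702c02002702802902102b02602602602202902502502502502402402402802402302302302301f02302402501e02202202202201e02601c02102102102002001b02702001f01f01f01a02301f02002102201901e01e01e01d01c02a01b01301d01901d02101801201c01b01802001d01101a01a01701f01a01001b01c01901e01600f01901601b01801c00e01701501a01701700d01801801601601900c01501701501501500b01601401401301403301401301201401101d01300f01301200e01c01201100e01101301b01001000d01001001a01101200f00f00c01900f00c01100a01201800d00b01000900d01700e00e00c00800f01600b00d00b00700b01500c00800a00e00a00a00900700900d00600900a00a00500c00800800700900400b003007008003006006009006006005008005005005004004007004002004005006002003007003003002003001004002002001001002001000001000000000000001000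

def e62Cl : ℕ := 0x433333333333333333333222222222222222222222222222222111111111111111111110

def e62Ee : ℕ :=
0x92071c61861451051040c30c20810092081c71c61851861451451041040c31030c20820410092071c61861451051040c30c2081000

def e62Runs : List (ℕ × ℕ × ℕ × ℕ × ℕ) := [(0, 1, 2, 0, 1), (1, 0, 0, 0, 1), (1, 1, 1, 1, 1), (1, 1, 1, 2, 2), (1, 1,
1, 3, 3), (1, 1, 1, 4, 2), (1, 1, 1, 5, 1), (1, 2, 2, 4, 1), (1, 2, 2, 5, 2), (1, 2, 2, 6, 3), (1, 2, 2, 7, 2), (1, 2,
2, 8, 1), (1, 3, 2, 9, 1), (2, 1, 0, 0, 1), (2, 1, 0, 1, 2), (2, 1, 0, 2, 3), (2, 1, 0, 3, 2), (2, 1, 0, 4, 1), (2, 2,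
1, 3, 2), (2, 2, 1, 4, 4), (2, 2, 1, 5, 4), (2, 2, 1, 6, 2), (2, 3, 2, 5, 1), (2, 3, 2, 6, 2), (2, 3, 2, 7, 3), (2, 3,
2, 8, 2), (2, 3, 2, 9, 1), (3, 1, 0, 0, 1), (3, 2, 0, 1, 1), (3, 2, 0, 2, 2), (3, 2, 0, 3, 3), (3, 2, 0, 4, 2), (3, 2,
0, 5, 1), (3, 3, 1, 4, 1), (3, 3, 1, 5, 2), (3, 3, 1, 6, 3), (3, 3, 1, 7, 2), (3, 3, 1, 8, 1), (3, 4, 2, 9, 1), (4, 3,
0, 0, 1)]

def e62Bp : List (List (List ℤ)) := [[[], [0, 1, 1, 2, 3, 3, 3, 3, 2, 1, 1], [], [], []], [[1], [-1, 1, 1, 2, 3, 2,
1], [0, 0, 0, 0, 0, 1, 2, 3, 2, 1], [0, 0, 0, 0, 0, 0, 0, 0, 0, 0, 1], []], [[], [1, 1, 2, 1, 1], [-1, 0, -1, 1, 2, 3,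
2, 2], [0, 0, 0, 0, 0, 0, 1, 1, 2, 1, 1], []], [[], [1], [0, 1, 2, 3, 2, 1], [-1, 0, -1, -1, 1, 2, 3, 3, 2, 1], [0, 0,
0, 0, 0, 0, 0, 0, 0, 0, 1]], [[], [], [], [1, 1, 2, 3, 3, 3, 3, 2, 1, 1], [-1, 0, -1, -1, 0, 0, 0, 1, 1, 0, 1]]]

def e62P0 : List (List ℤ) := [[1], [-1, 0, -1, -1, 0, -1], [0, 0, 1, 1, 1, 1, 1, 1], [0, 0, 0, 0, -1, 0, -1, -1, 0,
-1], [0, 0, 0, 0, 0, 0, 0, 0, 0, 1]]

def e62P1 : List (List ℤ) := [[1], [-1, 0, -1, -1, 0, 1], [0, 0, 1, 1, 1, -1, -1, -1], [0, 0, 0, 0, -1, 0, 1, 1, 0,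
1], [0, 0, 0, 0, 0, 0, 0, 0, 0, -1]]

def e62P2 : List (List ℤ) := [[1], [-1, 0, -1, 0, 1, 1, 1, 1], [0, 0, 1, 0, -1, -2, -2, -2, -1, 0, 1], [0, 0, 0, 0, 0,
1, 1, 1, 1, 0, -1, 0, -1], [0, 0, 0, 0, 0, 0, 0, 0, 0, 0, 0, 0, 1]]

def e62P3 : List (List ℤ) := [[1], [-1, 0, 0, 1, 2, 3, 2, 2, 1], [0, 0, 0, -1, -2, -3, -2, -1, 1, 2, 3, 2, 1], [0, 0,
0, 0, 0, 0, 0, -1, -2, -2, -3, -2, -1, 0, 0, 1], [0, 0, 0, 0, 0, 0, 0, 0, 0, 0, 0, 0, 0, 0, 0, -1]]

def e62P4 : List (List ℤ) := [[1], [0, 1, 1, 2, 3, 3, 3, 3, 2, 1, 1], [0, 0, 0, 0, 0, 0, 1, 2, 3, 4, 5, 5, 4, 3, 2,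
1], [0, 0, 0, 0, 0, 0, 0, 0, 0, 0, 0, 1, 1, 2, 3, 3, 3, 3, 2, 1, 1], [0, 0, 0, 0, 0, 0, 0, 0, 0, 0, 0, 0, 0, 0, 0, 0,
0, 0, 0, 0, 0, 1]]

def e62Th : List (List ℤ) := [[-1, 0, -1, -1, 0, -1], [-1, 0, -1, -1, 0, 1], [-1, 0, -1, 0, 1, 1, 1, 1], [-1, 0, 0, 1,
2, 3, 2, 2, 1], [0, 1, 1, 2, 3, 3, 3, 3, 2, 1, 1]]

def e62Cert : Cert where
  l := 6
  m := 72
  r := 5
  k := 1
  b0 := 0
  cn := 0x100440114041040010
  cd := e62Cd
  nbT := e62Nb
  clT := e62Cl
  eeT := e62Ee
  root := [0, 1, 21, 51, 71]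
  path := [[], [1], [1, 3, 2, 4, 3, 1], [1, 3, 2, 0, 4, 3, 2, 5, 4, 3, 1], [1, 3, 2, 0, 4, 3, 1, 2, 3, 4, 5, 4, 3, 1, 2, 0, 3, 2, 4, 3, 1]]
  runs := e62Runs
  Bp := e62Bp
  Pp := [e62P0, e62P1, e62P2, e62P3, e62P4]
  th := e62Th
  lam := [1, 1, 2, 3, 3, 3, 3, 2, 1, 1]

def e62Dg : List (List ℤ) := [[0, 0, 0, 1, 1, 0, 1, 3, 1, 1, 4, 3, 0, 3, 4, 1, 1, 3, 1, 0, 1, 1], [0, 0, 0, 1, 1, 2,
3, 3, 3, 5, 4, 5, 6, 5, 4, 5, 3, 3, 3, 2, 1, 1], [0, 0, 2, 2, 2, 2, 4, 2, 4, 4, 4, 2, 4, 2, 2, 2, 2], [0, 2, 0, 0, 2,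
2, 0, 2, 2, 0, 0, 2], [2]]

theorem e62_chkB : e62Cert.chkB = true := by decide +kernel

theorem e62_chkZ : ∀ z < e62Cert.m, e62Cert.chkZ z = true :=
  allN_iff.1 (by decide +kernel)

theorem e62_chkA : ∀ a < e62Cert.r, e62Cert.chkA a = true :=
  allN_iff.1 (by decide +kernel)

theorem e62_chkR : e62Cert.chkR e62Cert.runs 0 = true := by decide +kernel

theorem e62_chkP : e62Cert.chkP = true := by decide +kernel

theorem e62_ok : e62Cert.Ok := ⟨by decide, e62_chkB, e62_chkA, e62_chkZ, e62_chkR, e62_chkP⟩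

theorem e62_chkD : e62Cert.chkD e62Dg = true := by decide +kernel

/-! ### `E₇`, node 7 -/

def e77Cd : ℕ :=
0x78888889788888897888888978888889778888879888889778888879888799788878998879887887978987988878798789887898887979888789878878889879888877988789798798879798787978898789887878978987889788788898778888899888887988878998879889879878987889897988789797898978978897889879788889898887889878988979788889878889789878978889889798788978898889877888977988888978888799888897888879988879888879888879888889888888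

def e77Nb : ℕ :=
0x3603703703703703703703703503603603603603603503603403503503503503403403503303403403403303303303403103203303203203203202f03303203103103103103302f03003003003003003002e03102f02f02f02d03203102e02e02e02e02c02e03002f02d02d02b02f02d02d02c02c02c02a02e02902c02d02b02502d02b02b02b02a02a02402c02a02802a02b02902902802902c02902902802302902702a02802802702202702802702602702602102602602602702601b02b02502502502502401a02a02402402302402501902802302202402302301802702002302202102201702601f02102102202101602002202002001f02001501f02101e01f02001f01401e01e01f01d01e01e01301d01d01d01e01d01c01201c01c01c01c01c01d02501b01b01b01b01b01a02401a01a01a01901a01b02301901901801a01901902201801601901801701802101701501701701801702001101801601601501601f01001701401501601501e00f01401501301401401d00d01301301401301201c00c01201201201201301101601101101101001101001501000f01001101000f01400e01000d00f00f00e00e00f00e00b00e00e00d01300b00d00f00d00c00c01200a00c00c00c00d00b00b00d00900e00b00a00a00a00c00800a00a00b00900900900b00900700800800800800a005006009007007007007007009006006006006006004008007005005005005008004005004004004003006005004003003002004003003003002001003002002002002000002001001001001001001000000000000000000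

def e77Cl : ℕ := 0x32222222222222222222222222221111111111111111111111111110

def e77Ee : ℕ := 0x103ce34c30b2ca2892482071852071851040c204040f38d30c2ca2482ca2482071c6185144103081000

def e77Runs : List (ℕ × ℕ × ℕ × ℕ × ℕ) := [(0, 1, 2, 0, 1), (1, 0, 0, 0, 1), (1, 1, 1, 1, 1), (1, 1, 1, 2, 1), (1, 1,
1, 3, 1), (1, 1, 1, 4, 2), (1, 1, 1, 5, 2), (1, 1, 1, 6, 2), (1, 1, 1, 7, 2), (1, 1, 1, 8, 2), (1, 1, 1, 9, 1), (1, 1,
1, 10, 1), (1, 1, 1, 11, 1), (1, 2, 2, 8, 1), (1, 2, 2, 9, 1), (1, 2, 2, 10, 1), (1, 2, 2, 11, 1), (1, 2, 2, 12, 2),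
(1, 2, 2, 13, 1), (1, 2, 2, 14, 1), (1, 2, 2, 15, 1), (1, 2, 2, 16, 1), (2, 1, 0, 0, 1), (2, 1, 0, 1, 1), (2, 1, 0, 2,
1), (2, 1, 0, 3, 1), (2, 1, 0, 4, 2), (2, 1, 0, 5, 1), (2, 1, 0, 6, 1), (2, 1, 0, 7, 1), (2, 1, 0, 8, 1), (2, 2, 1, 5,
1), (2, 2, 1, 6, 1), (2, 2, 1, 7, 1), (2, 2, 1, 8, 2), (2, 2, 1, 9, 2), (2, 2, 1, 10, 2), (2, 2, 1, 11, 2), (2, 2, 1,
12, 2), (2, 2, 1, 13, 1), (2, 2, 1, 14, 1), (2, 2, 1, 15, 1), (2, 3, 2, 16, 1), (3, 2, 0, 0, 1)]

def e77Bp : List (List (List ℤ)) := [[[], [0, 1, 1, 1, 1, 2, 2, 2, 2, 3, 2, 2, 2, 2, 1, 1, 1, 1], [], []], [[1], [-1,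
1, 1, 1, 1, 2, 2, 2, 2, 2, 1, 1, 1], [0, 0, 0, 0, 0, 0, 0, 0, 0, 1, 1, 1, 1, 2, 1, 1, 1, 1], []], [[], [1, 1, 1, 1, 2,
1, 1, 1, 1], [-1, 0, 0, 0, -1, 1, 1, 1, 1, 3, 2, 2, 2, 2, 1, 1, 1], [0, 0, 0, 0, 0, 0, 0, 0, 0, 0, 0, 0, 0, 0, 0, 0,
0, 1]], [[], [], [1, 1, 1, 1, 2, 2, 2, 2, 3, 2, 2, 2, 2, 1, 1, 1, 1], [-1, 0, 0, 0, -1, 0, 0, 0, -1, 1, 0, 0, 0, 1, 0,
0, 0, 1]]]

def e77P0 : List (List ℤ) := [[1], [-1, 0, 0, 0, -1, 0, 0, 0, -1], [0, 0, 0, 0, 1, 0, 0, 0, 1, 0, 0, 0, 1], [0, 0, 0,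
0, 0, 0, 0, 0, 0, 0, 0, 0, -1]]

def e77P1 : List (List ℤ) := [[1], [-1, 0, 0, 0, -1, 0, 0, 0, 0, 1], [0, 0, 0, 0, 1, 0, 0, 0, 0, -1, 0, 0, 0, -1], [0,
0, 0, 0, 0, 0, 0, 0, 0, 0, 0, 0, 0, 1]]

def e77P2 : List (List ℤ) := [[1], [-1, 0, 0, 0, 0, 1, 1, 1, 1, 2, 1, 1, 1, 1], [0, 0, 0, 0, 0, -1, -1, -1, -1, -2,
-1, -1, -1, -1, 0, 0, 0, 0, 1], [0, 0, 0, 0, 0, 0, 0, 0, 0, 0, 0, 0, 0, 0, 0, 0, 0, 0, -1]]

def e77P3 : List (List ℤ) := [[1], [0, 1, 1, 1, 1, 2, 2, 2, 2, 3, 2, 2, 2, 2, 1, 1, 1, 1], [0, 0, 0, 0, 0, 0, 0, 0, 0,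
0, 1, 1, 1, 1, 2, 2, 2, 2, 3, 2, 2, 2, 2, 1, 1, 1, 1], [0, 0, 0, 0, 0, 0, 0, 0, 0, 0, 0, 0, 0, 0, 0, 0, 0, 0, 0, 0, 0,
0, 0, 0, 0, 0, 0, 1]]

def e77Th : List (List ℤ) := [[-1, 0, 0, 0, -1, 0, 0, 0, -1], [-1, 0, 0, 0, -1, 0, 0, 0, 0, 1], [-1, 0, 0, 0, 0, 1, 1,
1, 1, 2, 1, 1, 1, 1], [0, 1, 1, 1, 1, 2, 2, 2, 2, 3, 2, 2, 2, 2, 1, 1, 1, 1]]

def e77Cert : Cert where
  l := 7
  m := 56
  r := 4
  k := 6
  b0 := 0
  cn := 0x400440044004500410100010
  cd := e77Cd
  nbT := e77Nb
  clT := e77Cl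
  eeT := e77Ee
  root := [0, 1, 28, 55]
  path := [[], [6], [6, 5, 4, 3, 1, 2, 3, 4, 5, 6], [6, 5, 4, 3, 1, 2, 0, 3, 2, 4, 3, 1, 5, 4, 3, 2, 0, 6, 5, 4, 3, 1, 2, 3, 4, 5, 6]]
  runs := e77Runs
  Bp := e77Bp
  Pp := [e77P0, e77P1, e77P2, e77P3]
  th := e77Th
  lam := [1, 1, 1, 1, 2, 2, 2, 2, 3, 2, 2, 2, 2, 1, 1, 1, 1]

def e77Dg : List (List ℤ) := [[0, 0, 0, 2, 0, 2, 0, 2, 0, 4, 0, 4, 0, 4, 0, 6, 0, 4, 0, 4, 0, 4, 0, 2, 0, 2, 0, 2],
[0, 0, 2, 0, 2, 0, 4, 0, 4, 0, 6, 0, 6, 0, 6, 0, 6, 0, 6, 0, 4, 0, 4, 0, 2, 0, 2], [0, 2, 0, 0, 0, 2, 0, 2, 0, 2, 0,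
2, 0, 2, 0, 0, 0, 2], [2]]

theorem e77_chkB : e77Cert.chkB = true := by decide +kernel

theorem e77_chkZ : ∀ z < e77Cert.m, e77Cert.chkZ z = true :=
  allN_iff.1 (by decide +kernel)

theorem e77_chkA : ∀ a < e77Cert.r, e77Cert.chkA a = true :=
  allN_iff.1 (by decide +kernel)

theorem e77_chkR : e77Cert.chkR e77Cert.runs 0 = true := by decide +kernel

theorem e77_chkP : e77Cert.chkP = true := by decide +kernel

theorem e77_ok : e77Cert.Ok := ⟨by decide, e77_chkB, e77_chkA, e77_chkZ, e77_chkR, e77_chkP⟩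

theorem e77_chkD : e77Cert.chkD e77Dg = true := by decide +kernel

/-! ### `E₇`, node 1 -/

def e71Cd : ℕ :=
0x88888878888789888798888798788878898879887887978987988878798789887897889888878988789879797889879788789878897987888988788878898779789879878987789798797979877889877788889789879879789877978889789798778978897889887788978978889787888898687888897978889987888978978899797889788977978887998987889978977997887998979779897879988987798897799888968978889787887998978897897879987879888897897889779989779888779888888979788896998896988896988886988888888986888878a8a7888887a7888887a7888887a77888797989978888799788887997788798798989788879897787988798988977898887988887a8788799778878997879897787979977988977798799787898879888977988799779798879879887789888797988878988887888878a88879898879879887889987988798797899798887979878998789789988887998878997979789987978978987899798789898878987889887978988987898878979889797988788987878888988987988978987897888988979878897889888988788897898888978888889878888889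

def e71Nb : ℕ :=
0x7d07d07d07d07d07d07c07c07c07c07c07b07c07d07b07b07b07a07c07b07b07a07a07807b07a07907a07907907707907907a07907807607a07807807707807707507907407707807707307807607607607507607207707507107507607507407107407706c07407407607307307307307207307507207207007207307207007406f07506b07107107107006e07206a07007006e06f07106f06906f06f06f06d07006e06806e06e06d06e06d06d06506d06d06c06b06c06c07406c05c06a06c06906b07106b05b06b06a06806a07006a05a06806906b06706f06905906906506a06406e06805806406706706906706605706306606606606606705606506806506206d06505506706206406806406305406606106306306306405306206406006506206105206106305f06106106205106006006206006005f05005f05f06105e05f06004f05e05e05e05f05d05e04e05d05d05d05d05e05d02005c05b05c05c05c05c06c05a05c05905b05b05b06b05b05a05805a05a05a06a05805905b05705905906905905505a05405805806805405705705904d05606705305605605604c05706605505805505205505506505705205405804b05306405605105305304a05406305205405005504805106205105304f0510470520610500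5005205004404f06004f04f05104e04305005f04e04e04e04f02f04e05e04b04d04d04d05704c04d04a04c04c04905604d04c04d04804b04b05404a04b04c04704a04605304b04a04604904504c04904904904804b04404805204704804704a04304205104804704904204104a04604604604104004904504504504504404404803f05004304404304304703a04f04404304204603b04704204204204503c04604104104104103d04504004004004004003f03f03f04403f03e03f03e03e03e03903e03f03e04003803d03d03d03d03d03804103703c03c03c03c03b03704203603b03b03b03a03a03604302e03903a03903903503e02d03a03903c03d03403803803803803403b03c03303703703703603303a03b02c03503603503203903502b03603503703403803103403403403103603303702a03203303003503203202903303203303103103402703003103203003003002603103002f02f02f02e04e02f01f02e02e02c02f03a02d01e02d02d02b02d03902e01d02c02a02e02c03602b01c02b02902d02803502c01b02702c02a02a03302901a02602b02902503202a01902802502802b02802801802a0270270270310260170290260260240300270160240280230290250250150250240220260240240140220230250230230230130230210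2402202202201202102202102102102101102002002002001f02005d01f01f01f01e02001f02f01e01e01c01f01e01d02e01d01d01b01d01d01e02d01c01a01e01c01c01b02c01b01901d01801b01c02b01701c01a01a01a01902a01601b01901501901a02901801501801b01001802801a01701701701701602701901601601401601702601401801301900f01502501501401201600e01402401201301501300d01302301301101401200c01202201101201101100901102101000f01001001801001000e01000d00f01500f00f00f00e00c00e01400e00e00c00d00f00b01300d00d00d00900e00801200c00c00800b00b00d00b00a00b00700a00a00a00a00b00a00900c00900601100900900b00600800c00800700800a005007007007008007006008004009006005006005007003005005006005004004006004004003004003003005002003004003002002002003001002002001001001001002001000000000000000000000001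

def e71Cl : ℕ :=
0x433333333333333333333333333333333222222222222222222222222222222222222222222222222222222222222111111111111111111111111111111110

def e71Ee : ℕ :=
0xf38d30c2cb28a2892482071892071c61851451040c308101140f3ce38d34d30c2cb28934c30b2cb28a28a2492492482082081c71c71861851442071861451041030c208100f38d30c2cb28a2892482071892071c61851451040c3081000

def e71Runs : List (ℕ × ℕ × ℕ × ℕ × ℕ) := [(0, 1, 2, 0, 1), (1, 0, 0, 0, 1), (1, 1, 1, 1, 1), (1, 1, 1, 2, 1), (1, 1,
1, 3, 2), (1, 1, 1, 4, 2), (1, 1, 1, 5, 3), (1, 1, 1, 6, 2), (1, 1, 1, 7, 2), (1, 1, 1, 8, 1), (1, 1, 1, 9, 1), (1, 2,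
2, 6, 1), (1, 2, 2, 7, 1), (1, 2, 2, 8, 2), (1, 2, 2, 9, 2), (1, 2, 2, 10, 3), (1, 2, 2, 11, 2), (1, 2, 2, 12, 2), (1,
2, 2, 13, 1), (1, 2, 2, 14, 1), (1, 3, 2, 15, 1), (2, 1, 0, 0, 1), (2, 1, 0, 1, 1), (2, 1, 0, 2, 2), (2, 1, 0, 3, 2),
(2, 1, 0, 4, 3), (2, 1, 0, 5, 2), (2, 1, 0, 6, 2), (2, 1, 0, 7, 1), (2, 1, 0, 8, 1), (2, 2, 1, 4, 1), (2, 2, 1, 5, 2),
(2, 2, 1, 6, 3), (2, 2, 1, 7, 4), (2, 2, 1, 8, 5), (2, 2, 1, 9, 5), (2, 2, 1, 10, 4), (2, 2, 1, 11, 3), (2, 2, 1, 12,
2), (2, 2, 1, 13, 1), (2, 3, 2, 9, 1), (2, 3, 2, 10, 1), (2, 3, 2, 11, 2), (2, 3, 2, 12, 2), (2, 3, 2, 13, 3), (2, 3,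
2, 14, 2), (2, 3, 2, 15, 2), (2, 3, 2, 16, 1), (2, 3, 2, 17, 1), (3, 1, 0, 0, 1), (3, 2, 0, 1, 1), (3, 2, 0, 2, 1),
(3, 2, 0, 3, 2), (3, 2, 0, 4, 2), (3, 2, 0, 5, 3), (3, 2, 0, 6, 2), (3, 2, 0, 7, 2), (3, 2, 0, 8, 1), (3, 2, 0, 9, 1),
(3, 3, 1, 6, 1), (3, 3, 1, 7, 1), (3, 3, 1, 8, 2), (3, 3, 1, 9, 2), (3, 3, 1, 10, 3), (3, 3, 1, 11, 2), (3, 3, 1, 12,
2), (3, 3, 1, 13, 1), (3, 3, 1, 14, 1), (3, 4, 2, 15, 1), (4, 3, 0, 0, 1)]

def e71Bp : List (List (List ℤ)) := [[[], [0, 1, 1, 1, 2, 2, 3, 3, 3, 3, 3, 3, 2, 2, 1, 1, 1], [], [], []], [[1], [-1,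
1, 1, 1, 2, 2, 3, 2, 2, 1, 1], [0, 0, 0, 0, 0, 0, 0, 1, 1, 2, 2, 3, 2, 2, 1, 1], [0, 0, 0, 0, 0, 0, 0, 0, 0, 0, 0, 0,
0, 0, 0, 0, 1], []], [[], [1, 1, 1, 2, 1, 1, 1], [-1, 0, 0, -1, 1, 1, 2, 3, 3, 3, 2, 2, 1], [0, 0, 0, 0, 0, 0, 0, 0,
0, 0, 1, 1, 1, 2, 1, 1, 1], []], [[], [1], [0, 1, 1, 2, 2, 3, 2, 2, 1, 1], [-1, 0, 0, -1, 0, -1, 1, 1, 2, 2, 3, 3, 2,
2, 1, 1], [0, 0, 0, 0, 0, 0, 0, 0, 0, 0, 0, 0, 0, 0, 0, 0, 1]], [[], [], [], [1, 1, 1, 2, 2, 3, 3, 3, 3, 3, 3, 2, 2,
1, 1, 1], [-1, 0, 0, -1, 0, -1, 0, 0, 0, 0, 0, 1, 0, 1, 0, 0, 1]]]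

def e71P0 : List (List ℤ) := [[1], [-1, 0, 0, -1, 0, -1, 0, 0, -1], [0, 0, 0, 1, 0, 1, 0, 1, 1, 0, 1, 0, 1], [0, 0, 0,
0, 0, 0, 0, -1, 0, 0, -1, 0, -1, 0, 0, -1], [0, 0, 0, 0, 0, 0, 0, 0, 0, 0, 0, 0, 0, 0, 0, 1]]

def e71P1 : List (List ℤ) := [[1], [-1, 0, 0, -1, 0, -1, 0, 0, 1], [0, 0, 0, 1, 0, 1, 0, 1, -1, 0, -1, 0, -1], [0, 0,
0, 0, 0, 0, 0, -1, 0, 0, 1, 0, 1, 0, 0, 1], [0, 0, 0, 0, 0, 0, 0, 0, 0, 0, 0, 0, 0, 0, 0, -1]]

def e71P2 : List (List ℤ) := [[1], [-1, 0, 0, -1, 0, 0, 1, 1, 1, 1, 1, 1], [0, 0, 0, 1, 0, 0, -1, -1, -2, -2, -2, -2,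
-1, -1, 0, 0, 1], [0, 0, 0, 0, 0, 0, 0, 0, 1, 1, 1, 1, 1, 1, 0, 0, -1, 0, 0, -1], [0, 0, 0, 0, 0, 0, 0, 0, 0, 0, 0, 0,
0, 0, 0, 0, 0, 0, 0, 1]]

def e71P3 : List (List ℤ) := [[1], [-1, 0, 0, 0, 1, 1, 2, 2, 3, 2, 2, 2, 1, 1], [0, 0, 0, 0, -1, -1, -2, -2, -3, -2,
-2, -1, 0, 1, 2, 2, 3, 2, 2, 1, 1], [0, 0, 0, 0, 0, 0, 0, 0, 0, 0, 0, -1, -1, -2, -2, -2, -3, -2, -2, -1, -1, 0, 0, 0,
1], [0, 0, 0, 0, 0, 0, 0, 0, 0, 0, 0, 0, 0, 0, 0, 0, 0, 0, 0, 0, 0, 0, 0, 0, -1]]

def e71P4 : List (List ℤ) := [[1], [0, 1, 1, 1, 2, 2, 3, 3, 3, 3, 3, 3, 2, 2, 1, 1, 1], [0, 0, 0, 0, 0, 0, 0, 0, 1, 1,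
2, 2, 4, 4, 5, 5, 6, 6, 5, 5, 4, 4, 2, 2, 1, 1], [0, 0, 0, 0, 0, 0, 0, 0, 0, 0, 0, 0, 0, 0, 0, 0, 0, 1, 1, 1, 2, 2, 3,
3, 3, 3, 3, 3, 2, 2, 1, 1, 1], [0, 0, 0, 0, 0, 0, 0, 0, 0, 0, 0, 0, 0, 0, 0, 0, 0, 0, 0, 0, 0, 0, 0, 0, 0, 0, 0, 0, 0,
0, 0, 0, 0, 1]]

def e71Th : List (List ℤ) := [[-1, 0, 0, -1, 0, -1, 0, 0, -1], [-1, 0, 0, -1, 0, -1, 0, 0, 1], [-1, 0, 0, -1, 0, 0, 1,
1, 1, 1, 1, 1], [-1, 0, 0, 0, 1, 1, 2, 2, 3, 2, 2, 2, 1, 1], [0, 1, 1, 1, 2, 2, 3, 3, 3, 3, 3, 3, 2, 2, 1, 1, 1]]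

def e71Cert : Cert where
  l := 7
  m := 126
  r := 5
  k := 0
  b0 := 0
  cn := 0x400440044004500410100010
  cd := e71Cd
  nbT := e71Nb
  clT := e71Cl
  eeT := e71Ee
  root := [0, 1, 33, 93, 125]
  path := [[], [0], [0, 2, 3, 1, 4, 3, 2, 0], [0, 2, 3, 1, 4, 3, 2, 5, 4, 3, 1, 6, 5, 4, 3, 2, 0], [0, 2, 3, 1, 4, 3, 2, 0, 5, 4, 3, 1, 2, 3, 4, 5, 6, 5, 4, 3, 1, 2, 0, 3, 2, 4, 3, 1, 5, 4, 3, 2, 0]]
  runs := e71Runs
  Bp := e71Bp
  Pp := [e71P0, e71P1, e71P2, e71P3, e71P4]
  th := e71Th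
  lam := [1, 1, 1, 2, 2, 3, 3, 3, 3, 3, 3, 2, 2, 1, 1, 1]

def e71Dg : List (List ℤ) := [[0, 0, 0, 1, 1, 1, 0, 2, 1, 3, 1, 4, 1, 5, 1, 6, 2, 6, 0, 6, 2, 6, 1, 5, 1, 4, 1, 3, 1,
2, 0, 1, 1, 1], [0, 0, 0, 1, 1, 1, 2, 2, 3, 3, 3, 4, 5, 5, 5, 6, 6, 6, 6, 6, 6, 6, 5, 5, 5, 4, 3, 3, 3, 2, 2, 1, 1,
1], [0, 0, 2, 0, 2, 0, 4, 0, 4, 0, 6, 0, 6, 0, 6, 0, 6, 0, 6, 0, 4, 0, 4, 0, 2, 0, 2], [0, 2, 0, 0, 0, 2, 0, 2, 0, 2,
0, 2, 0, 2, 0, 0, 0, 2], [2]]

theorem e71_chkB : e71Cert.chkB = true := by decide +kernel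

theorem e71_chkZ : ∀ z < e71Cert.m, e71Cert.chkZ z = true :=
  allN_iff.1 (by decide +kernel)

theorem e71_chkA : ∀ a < e71Cert.r, e71Cert.chkA a = true :=
  allN_iff.1 (by decide +kernel)

theorem e71_chkR : e71Cert.chkR e71Cert.runs 0 = true := by decide +kernel

theorem e71_chkP : e71Cert.chkP = true := by decide +kernel

theorem e71_ok : e71Cert.Ok := ⟨by decide, e71_chkB, e71_chkA, e71_chkZ, e71_chkR, e71_chkP⟩

theorem e71_chkD : e71Cert.chkD e71Dg = true := by decide +kernel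

end Cfsg.Agent.H77.RK
end

-- part: H674/XZ/CycB
section
prune_inst 0x4010000
set_option linter.all false
open scoped Cfsg.Agent.FastGrp

/-!
# S4791, part B: if all almost `p`-rational characters of degree prime to `p` lie in the principal block (helper674)

* `exists_coef` : sums of invariant functions with values in `ℂ`;
* `centralizer_le_of_subset` : then `C_G(P) ≤ P` (any Sylow `p`-subgroup `P`).
-/

set_option autoImplicit false

open scoped ComplexConjugate

namespace Cfsg.Agent.H674.XZ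

open Cfsg Cfsg.Agent.Characters Cfsg.Agent.Characters.Core Subgroup Cfsg.Agent.Blocks.Local Cfsg.Agent.H145.BR
  Cfsg.Agent.H667.BR

universe u v

/-- sums of invariant functions: the coefficients do not depend on the function -/
theorem exists_coef {p : ℕ} [hp : Fact p.Prime] {A : Type*} [Group A] [Finite A] (hA : IsPGroup p A) (I : Type*)
    [Fintype I] [MulAction A I] [DecidablePred fun i : I => ∀ a : A, a • i = i] :
    ∃ c : I → ℕ, ∀ f : I → ℂ, (∀ (a : A) (i : I), f (a • i) = f i) →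
      ∑ i, f i = ∑ i, (if ∀ a : A, a • i = i then f i else 0) + (p : ℂ) * ∑ i, (c i : ℂ) * f i := by
  classical
  let rp : I → I := fun i => (Quotient.mk (MulAction.orbitRel A I) i).out
  refine ⟨fun i => if rp i = i ∧ ¬ (∀ a : A, a • i = i) then Nat.card (MulAction.orbit A i) / p else 0, fun f hf => ?_⟩
  rw [← sub_eq_zero, Finset.mul_sum, ← sub_sub, ← Finset.sum_sub_distrib, ← Finset.sum_sub_distrib,
    ← Finset.sum_fiberwise_of_maps_to (s := Finset.univ) (t := Finset.univ)
    (g := fun i => (Quotient.mk (MulAction.orbitRel A I) i)) (fun i _ => Finset.mem_univ _)]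
  refine Finset.sum_eq_zero fun q _ => ?_
  set j := q.out with hj
  have hjq : (Quotient.mk (MulAction.orbitRel A I) j) = q := Quotient.out_eq q
  have hfib : ∀ i ∈ Finset.univ.filter (fun i => (Quotient.mk (MulAction.orbitRel A I) i) = q), ∃ a : A, a • j = i := by
    intro i hi
    rw [Finset.mem_filter] at hi
    have h1 : (Quotient.mk (MulAction.orbitRel A I) i) = Quotient.mk _ j := hi.2.trans hjq.symm
    exact MulAction.orbitRel_apply.1 (Quotient.exact h1)
  have hcard : (Finset.univ.filter (fun i => (Quotient.mk (MulAction.orbitRel A I) i) = q)).card =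
      Nat.card (MulAction.orbit A j) := by
    rw [Nat.card_eq_fintype_card, ← Set.toFinset_card]
    congr 1
    ext i
    rw [Set.mem_toFinset]
    constructor
    · intro h
      obtain ⟨a, ha⟩ := hfib i h
      exact ⟨a, ha⟩
    · intro h
      rw [Finset.mem_filter]
      exact ⟨Finset.mem_univ _, (Quotient.sound (MulAction.orbitRel_apply.2 h)).trans hjq⟩
  have hfix : ∀ a : A, (∀ b : A, b • a • j = a • j) ↔ ∀ b : A, b • j = j := by
    intro a
    constructor
    · intro h b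
      have h3 := h (a * b * a⁻¹)
      rw [← mul_smul, inv_mul_cancel_right, mul_smul] at h3
      exact (MulAction.injective a) h3
    · intro h b
      rw [h a, h b]
  by_cases hjf : ∀ b : A, b • j = j
  · refine Finset.sum_eq_zero fun i hi => ?_
    obtain ⟨a, rfl⟩ := hfib i hi
    rw [hjf a, if_pos hjf]
    simp [hjf]
  · have h1 : ∀ i ∈ Finset.univ.filter (fun i => (Quotient.mk (MulAction.orbitRel A I) i) = q),
        (f i - (if ∀ a : A, a • i = i then f i else 0) - (p : ℂ) * (((if rp i = i ∧ ¬ (∀ a : A, a • i = i) then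
          Nat.card (MulAction.orbit A i) / p else 0 : ℕ) : ℂ) * f i)) =
        f j - if i = j then (p : ℂ) * ((Nat.card (MulAction.orbit A j) / p : ℕ) : ℂ) * f j else 0 := by
      intro i hi
      obtain ⟨a, rfl⟩ := hfib i hi
      have hrp : rp (a • j) = j := by
        change (Quotient.mk (MulAction.orbitRel A I) (a • j)).out = j
        rw [(Finset.mem_filter.1 hi).2]
      rw [hf, hrp, if_neg (fun h => hjf ((hfix a).1 h)), sub_zero]
      by_cases h2 : j = a • j
      · rw [← h2, if_pos rfl, if_pos ⟨rfl, hjf⟩, mul_assoc]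
      · rw [if_neg (fun h => h2 h.1), if_neg (fun h => h2 h.symm)]
        simp
    rw [Finset.sum_congr rfl h1, Finset.sum_sub_distrib, Finset.sum_const, hcard, Finset.sum_ite_eq']
    have h2 : j ∈ Finset.univ.filter (fun i => (Quotient.mk (MulAction.orbitRel A I) i) = q) := by
      rw [Finset.mem_filter]
      exact ⟨Finset.mem_univ _, hjq⟩
    rw [if_pos h2]
    have h5 : p ∣ Nat.card (MulAction.orbit A j) := by
      obtain ⟨n, hn⟩ := hA.card_orbit j
      rw [hn]
      rcases Nat.eq_zero_or_pos n with h6 | h6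
      · exfalso
        rw [h6, pow_zero] at hn
        apply hjf
        intro a
        have h7 := Nat.card_eq_one_iff_unique.1 hn
        have := h7.1
        exact congrArg Subtype.val (Subsingleton.elim (⟨a • j, MulAction.mem_orbit j a⟩ : MulAction.orbit A j)
          ⟨j, MulAction.mem_orbit_self j⟩)
      · exact dvd_pow_self p h6.ne'
    rw [← Nat.cast_mul, Nat.mul_div_cancel' h5, nsmul_eq_mul, sub_self]

variable {p : ℕ} [hp : Fact p.Prime] {M : Ideal AlgInt} {G : Type u} [Group G] [Finite G]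

/-! ### values at elements whose centralizer contains a Sylow subgroup -/

omit hp in
theorem loc_a (hM : IsPModular p M) {χ : IrrCharacter G} {y : G} (hy : ¬ p ∣ (centralizer ({y} : Set G)).index)
    (h : p ∣ charDegree (χ : G → ℂ)) : MemLocalIdeal M ((χ : G → ℂ) y) := by
  have hMp := isPrime_of_isPModular hM
  obtain ⟨h1, h2, -⟩ := S0914.degree_spec χ
  set i := (centralizer ({y} : Set G)).index with hi
  have hi0 : (i : ℂ) ≠ 0 := by
    intro h0
    have h3 : i = 0 := by exact_mod_cast h0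
    rw [h3] at hy
    exact hy (dvd_zero p)
  have hd0 : ((charDegree (χ : G → ℂ) : ℕ) : ℂ) ≠ 0 := by exact_mod_cast h2.ne'
  have h3 : (χ : G → ℂ) y = (i : ℂ)⁻¹ * (centralChar (χ : G → ℂ) y * ((charDegree (χ : G → ℂ) : ℕ) : ℂ)) := by
    unfold centralChar
    rw [← hi, h1]
    field_simp
  rw [h3]
  refine memLocalIdeal_mul_left (memLocalRing_inv_natCast hM hy) (memLocalIdeal_mul_left
    (memLocalRing_of_isIntegral (Blocks.CentralScalar.isIntegral_centralChar χ.2 y)) ?_)
  exact (memLocalIdeal_natCast_iff hM _).2 h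

omit hp in
theorem loc_b (hM : IsPModular p M) {χ : IrrCharacter G} (hχ : χ ∈ principalBlock M G) {y : G}
    (hy : ¬ p ∣ (centralizer ({y} : Set G)).index) : MemLocalIdeal M ((χ : G → ℂ) y - (χ : G → ℂ) 1) := by
  have hMp := isPrime_of_isPModular hM
  obtain ⟨h1, h2, -⟩ := S0914.degree_spec χ
  set i := (centralizer ({y} : Set G)).index with hi
  have hi0 : (i : ℂ) ≠ 0 := by
    intro h0
    have h3 : i = 0 := by exact_mod_cast h0
    rw [h3] at hy
    exact hy (dvd_zero p)
  have hd0 : ((charDegree (χ : G → ℂ) : ℕ) : ℂ) ≠ 0 := by exact_mod_cast h2.ne'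
  have h4 : MemLocalIdeal M (centralChar (fun _ : G => (1 : ℂ)) y - centralChar (χ : G → ℂ) y) := hχ y
  have h3 : (χ : G → ℂ) y - (χ : G → ℂ) 1 = (i : ℂ)⁻¹ * (-((charDegree (χ : G → ℂ) : ℕ) : ℂ) *
      (centralChar (fun _ : G => (1 : ℂ)) y - centralChar (χ : G → ℂ) y)) := by
    unfold centralChar
    rw [← hi, h1]
    field_simp
    ring
  rw [h3]
  exact memLocalIdeal_mul_left (memLocalRing_inv_natCast hM hy) (memLocalIdeal_mul_left
    (memLocalRing_neg (memLocalRing_natCast _)) h4)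

theorem pow_ex_of_regular {y : G} (hy : ¬ p ∣ orderOf y) {w : (ZMod (Nat.card G))ˣ} (hw : w ∈ JJ p G) : y ^ ex w = y := by
  have h1 := (mem_JJ (p := p) w).1 hw
  have h2 : orderOf y ∣ mp p G := by
    have h3 := orderOf_dvd_natCard y
    have h4 := Nat.ordProj_mul_ordCompl_eq_self (Nat.card G) p
    rw [← h4] at h3
    exact Nat.Coprime.dvd_of_dvd_mul_left (Nat.Coprime.pow_right _ ((Nat.Prime.coprime_iff_not_dvd hp.out).2 hy).symm) h3
  have h3 : ex w ≡ 1 [MOD orderOf y] := h1.of_dvd (h2.trans (mp_dvd_dd p G))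
  have h4 : y ^ ex w = y ^ 1 := pow_eq_pow_iff_modEq.2 h3
  rw [h4, pow_one]

/-- **If all almost `p`-rational characters of degree prime to `p` are in the principal block then `C_G(P) ≤ P`.** -/
theorem centralizer_le_of_subset (hM : IsPModular p M) (P : Sylow p G)
    (h : ∀ χ : IrrCharacter G, ¬ p ∣ charDegree (χ : G → ℂ) → Alm p (χ : G → ℂ) → χ ∈ principalBlock M G) :
    IsPGroup p (centralizer ((P : Subgroup G) : Set G)) := by
  classical
  have hMp := isPrime_of_isPModular hM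
  -- there are no nontrivial `p'`-elements
  have key : ∀ y ∈ centralizer ((P : Subgroup G) : Set G), ¬ p ∣ orderOf y → y = 1 := by
    intro y hy hyp
    by_contra hy1
    have hfin : Finite (IrrCharacter G) := finite_irr
    let : Fintype (IrrCharacter G) := Fintype.ofFinite _
    let : Fintype G := Fintype.ofFinite G
    let act0 : MulAction (ZMod (Nat.card G))ˣ (IrrCharacter G) := gact G
    have : NeZero (Nat.card G) := ⟨(Nat.card_pos (α := G)).ne'⟩
    have hsm : ∀ (u : JJ p G) (χ : IrrCharacter G), u • χ = pw u.1 χ := fun _ _ => rfl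
    have hidx : ¬ p ∣ (centralizer ({y} : Set G)).index := by
      intro h1
      refine P.not_dvd_index (h1.trans (index_dvd_of_le ?_))
      intro x hx
      rw [mem_centralizer_singleton_iff]
      exact (mem_centralizer_iff.1 hy x hx)
    -- the permutation character on the cosets of `P`
    set ψ : G → ℂ := permC G (G ⧸ (P : Subgroup G)) with hψ
    have hψc : IsCharacter G ψ := S0157.isCharacter_fixedBy _
    obtain ⟨m, hm⟩ := exists_nat_comb hψc
    have hmm : ∀ χ : IrrCharacter G, ip ψ (χ : G → ℂ) = ((m χ : ℕ) : ℂ) := by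
      intro χ
      rw [ip_eq, hm, classInner_sum_nsmul_irr]
    have hminv : ∀ u ∈ JJ p G, ∀ χ, m (pw u χ) = m χ := by
      intro u _ χ
      have h1 := ip_pw u (fun g => permC_pow (G ⧸ (P : Subgroup G)) (ex_coprime u) g) χ
      rw [hmm, hmm] at h1
      exact_mod_cast h1
    have hval : ∀ g, ψ g = ∑ χ : IrrCharacter G, (m χ : ℂ) * (χ : G → ℂ) g := by
      intro g
      conv_lhs => rw [hm]
      rw [Finset.sum_apply]
      refine Finset.sum_congr rfl fun χ _ => ?_
      rw [Pi.smul_apply, nsmul_eq_mul]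
    obtain ⟨c, hc⟩ := exists_coef (p := p) (A := JJ p G) (isPGroup_JJ (p := p) (G := G)) (IrrCharacter G)
    have h1 := hc (fun χ => (m χ : ℂ) * (χ : G → ℂ) y) (fun u χ => by
      simp only [hsm]
      rw [hminv u.1 u.2, pw_apply, pow_ex_of_regular hyp u.2])
    have h2 := hc (fun χ => (m χ : ℂ) * (χ : G → ℂ) 1) (fun u χ => by
      simp only [hsm]
      rw [hminv u.1 u.2, pw_apply, one_pow])
    have h3 : MemLocalIdeal M (ψ y - ψ 1) := by
      rw [hval, hval, h1, h2]
      have e1 : ∀ a b c d q : ℂ, (a + q * b) - (c + q * d) = (a - c) + q * (b - d) := fun a b c d q => by ring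
      rw [e1, ← Finset.sum_sub_distrib, ← Finset.sum_sub_distrib]
      refine memLocalIdeal_add (memLocalIdeal_sum fun χ _ => ?_) (memLocalIdeal_mul_right
        ((memLocalIdeal_natCast_iff hM p).2 dvd_rfl) (memLocalRing_sum fun χ _ => ?_))
      · split_ifs with hfix
        · have hal : Alm p (χ : G → ℂ) := (alm_iff χ).2 fun u hu => hfix ⟨u, hu⟩
          rw [← mul_sub]
          refine memLocalIdeal_mul_left (memLocalRing_natCast _) ?_
          by_cases hdeg : p ∣ charDegree (χ : G → ℂ)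
          · refine memLocalIdeal_sub (loc_a hM hidx hdeg) ?_
            rw [(S0914.degree_spec χ).1]
            exact (memLocalIdeal_natCast_iff hM _).2 hdeg
          · exact loc_b hM (h χ hdeg hal) hidx
        · rw [sub_self]
          exact memLocalIdeal_zero
      · have hint : ∀ g, MemLocalRing M ((χ : G → ℂ) g) := fun g =>
          memLocalRing_of_isIntegral (GaloisBasic.isIntegral_apply (isIrr_isCharacter χ.2) g)
        exact memLocalRing_sub (memLocalRing_mul (memLocalRing_natCast _) (memLocalRing_mul (memLocalRing_natCast _) (hint y)))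
          (memLocalRing_mul (memLocalRing_natCast _) (memLocalRing_mul (memLocalRing_natCast _) (hint 1)))
    have h4 : ψ y = 0 := by
      rw [hψ]
      unfold permC
      have h5 : IsEmpty (MulAction.fixedBy (G ⧸ (P : Subgroup G)) y) := by
        refine ⟨?_⟩
        rintro ⟨x, hx⟩
        induction x using QuotientGroup.induction_on with
        | H g =>
          rw [MulAction.mem_fixedBy] at hx
          have h6 : g⁻¹ * (y * g) ∈ (P : Subgroup G) := by
            rw [← QuotientGroup.eq]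
            exact hx.symm
          apply hy1
          have h7 : orderOf (g⁻¹ * (y * g)) = orderOf y := by
            have h8 : g⁻¹ * (y * g) = MulAut.conj g⁻¹ y := by
              rw [MulAut.conj_apply, inv_inv, mul_assoc]
            rw [h8]
            exact orderOf_injective (MulAut.conj g⁻¹ : G →* G) (MulAut.conj g⁻¹).injective y
          obtain ⟨k, hk⟩ := IsPGroup.iff_orderOf.1 P.isPGroup' ⟨_, h6⟩
          rw [Subgroup.orderOf_mk, h7] at hk
          rcases Nat.eq_zero_or_pos k with h9 | h9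
          · rw [h9, pow_zero] at hk
            exact orderOf_eq_one_iff.1 hk
          · exact absurd (hk ▸ dvd_pow_self p h9.ne') hyp
      rw [Nat.card_of_isEmpty, Nat.cast_zero]
    have h5 : ψ 1 = (((P : Subgroup G).index : ℕ) : ℂ) := by
      rw [hψ]
      unfold permC
      have h6 : MulAction.fixedBy (G ⧸ (P : Subgroup G)) (1 : G) = Set.univ := by
        ext v
        simp
      rw [h6, Nat.card_univ]
      rfl
    rw [h4, h5, zero_sub, memLocalIdeal_neg_iff, memLocalIdeal_natCast_iff hM] at h3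
    exact P.not_dvd_index h3
  intro c
  refine ⟨(orderOf (c : G)).factorization p, Subtype.ext ?_⟩
  rw [Subgroup.coe_pow, Subgroup.coe_one]
  refine key _ (Subgroup.pow_mem _ c.2 _) ?_
  rw [orderOf_pow' _ (pow_pos hp.out.pos _).ne', Nat.gcd_eq_right (Nat.ordProj_dvd _ _)]
  exact Nat.not_dvd_ordCompl hp.out (orderOf_pos _).ne'

end Cfsg.Agent.H674.XZ
end
end
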